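import Mathlib

set_option autoImplicit false

/-!
# Automorphisms acting trivially on the Frattini quotient of a `p`-group

* `exists_generators_of_card_pow`: a group of order `p ^ r` is generated by `r` elements.
* `closure_eq_top_of_map_mk_frattini`: a family of elements whose images generate the Frattini
  quotient generates the group.
* `card_dvd_of_trivial_on_frattini`: a group of automorphisms of a group of order `p ^ n`
  with Frattini index `p ^ r`, acting trivially on the Frattini quotient, has order dividing
  `p ^ (r * (n - r))`.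
* `eq_one_of_trivial_on_frattini_of_coprime` (Burnside): an automorphism of order prime to `p`
  acting trivially on the Frattini quotient of a `p`-group is trivial.
-/

namespace Cfsg.Agent.H76

theorem exists_generators_of_card_pow {Q : Type*} [Group Q] [Finite Q] {p r : ℕ} (hp : p.Prime)
    (hQ : Nat.card Q = p ^ r) : ∃ f : Fin r → Q, Subgroup.closure (Set.range f) = ⊤ := by
  have key : ∀ k ≤ r, ∃ f : Fin k → Q, Subgroup.closure (Set.range f) = ⊤ ∨
      p ^ k ≤ Nat.card (Subgroup.closure (Set.range f)) := by
    intro k
    induction k with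
    | zero =>
      intro _
      refine ⟨Fin.elim0, Or.inr ?_⟩
      rw [pow_zero]
      exact Nat.card_pos
    | succ k ih =>
      intro hk
      obtain ⟨f, hf⟩ := ih (by omega)
      by_cases htop : Subgroup.closure (Set.range f) = ⊤
      · refine ⟨Fin.snoc f 1, Or.inl ?_⟩
        rw [eq_top_iff, ← htop]
        apply Subgroup.closure_mono
        rintro _ ⟨i, rfl⟩
        exact ⟨i.castSucc, by simp⟩
      · have hf' := hf.resolve_left htop
        obtain ⟨x, hx⟩ : ∃ x, x ∉ Subgroup.closure (Set.range f) := by
          by_contra h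
          push Not at h
          exact htop (eq_top_iff.mpr fun y _ => h y)
        refine ⟨Fin.snoc f x, Or.inr ?_⟩
        have hle : Subgroup.closure (Set.range f) ≤
            Subgroup.closure (Set.range (Fin.snoc f x : Fin (k + 1) → Q)) := by
          apply Subgroup.closure_mono
          rintro _ ⟨i, rfl⟩
          exact ⟨i.castSucc, by simp⟩
        have hxK' : x ∈ Subgroup.closure (Set.range (Fin.snoc f x : Fin (k + 1) → Q)) :=
          Subgroup.subset_closure ⟨Fin.last k, by simp⟩
        obtain ⟨i, hi, hKi⟩ := (Nat.dvd_prime_pow hp).mp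
          (hQ ▸ Subgroup.card_subgroup_dvd_card (Subgroup.closure (Set.range f)))
        obtain ⟨j, hj, hKj⟩ := (Nat.dvd_prime_pow hp).mp
          (hQ ▸ Subgroup.card_subgroup_dvd_card
            (Subgroup.closure (Set.range (Fin.snoc f x : Fin (k + 1) → Q))))
        have hcardlt : Nat.card (Subgroup.closure (Set.range f)) <
            Nat.card (Subgroup.closure (Set.range (Fin.snoc f x : Fin (k + 1) → Q))) := by
          by_contra hcon
          push Not at hcon
          have := Subgroup.eq_of_le_of_card_ge hle hcon
          exact hx (this ▸ hxK')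
        rw [hKi, hKj] at hcardlt
        rw [hKi] at hf'
        rw [hKj]
        have h1 : i < j := (Nat.pow_lt_pow_iff_right hp.one_lt).mp hcardlt
        have h2 : k ≤ i := (Nat.pow_le_pow_iff_right hp.one_lt).mp hf'
        exact Nat.pow_le_pow_right hp.pos (by omega)
  obtain ⟨f, hf⟩ := key r le_rfl
  refine ⟨f, ?_⟩
  rcases hf with hf | hf
  · exact hf
  · apply Subgroup.eq_top_of_card_eq
    have := Subgroup.card_le_card_group (Subgroup.closure (Set.range f))
    omega

theorem closure_eq_top_of_map_mk_frattini {P : Type*} [Group P] [Finite P] {ι : Type*}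
    (y : ι → P)
    (h : Subgroup.closure (Set.range fun i => (QuotientGroup.mk (y i) : P ⧸ frattini P)) = ⊤) :
    Subgroup.closure (Set.range y) = ⊤ := by
  apply frattini_nongenerating
  have h1 : (Subgroup.closure (Set.range y)).map (QuotientGroup.mk' (frattini P)) = ⊤ := by
    rw [MonoidHom.map_closure, ← h]
    congr 1
    ext q
    simp [Set.mem_image]
  have h2 := Subgroup.comap_map_eq (QuotientGroup.mk' (frattini P)) (Subgroup.closure (Set.range y))
  rw [h1, Subgroup.comap_top, QuotientGroup.ker_mk'] at h2
  exact h2.symm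

theorem card_dvd_of_trivial_on_frattini {P : Type*} [Group P] [Finite P] {p n r : ℕ}
    [Fact p.Prime] (hP : Nat.card P = p ^ n) (hr : (frattini P).index = p ^ r)
    (A : Subgroup (MulAut P)) (hA : ∀ α ∈ A, ∀ x : P, α x * x⁻¹ ∈ frattini P) :
    Nat.card A ∣ p ^ (r * (n - r)) := by
  classical
  have hp : p.Prime := Fact.out
  have hQ : Nat.card (P ⧸ frattini P) = p ^ r := hr
  obtain ⟨f, hf⟩ := exists_generators_of_card_pow hp hQ
  -- the invariant set of lifts
  let X : SubMulAction A (Fin r → P) :=
    { carrier := {y | ∀ i, (QuotientGroup.mk (y i) : P ⧸ frattini P) = f i}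
      smul_mem' := by
        intro a y hy i
        have h1 := hA a.1 a.2 (y i)
        have h2 : (QuotientGroup.mk ((a • y) i) : P ⧸ frattini P) *
            (QuotientGroup.mk (y i) : P ⧸ frattini P)⁻¹ = 1 := by
          rw [← QuotientGroup.mk_inv, ← QuotientGroup.mk_mul, QuotientGroup.eq_one_iff]
          exact h1
        rw [← hy i]
        exact mul_inv_eq_one.mp h2 }
  have hfree : ∀ b : X, MulAction.stabilizer A b = ⊥ := by
    intro b
    rw [eq_bot_iff]
    intro a ha
    rw [MulAction.mem_stabilizer_iff] at ha
    have hb : Subgroup.closure (Set.range b.1) = ⊤ := by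
      apply closure_eq_top_of_map_mk_frattini
      have : (fun i => (QuotientGroup.mk (b.1 i) : P ⧸ frattini P)) = f := funext b.2
      rw [this, hf]
    have hfix : ∀ i, (a : MulAut P) (b.1 i) = b.1 i := by
      intro i
      have := congrArg (fun z : X => z.1 i) ha
      exact this
    have h1 : ((a : MulAut P) : P →* P) = MonoidHom.id P := by
      apply MonoidHom.eq_of_eqOn_dense hb
      rintro _ ⟨i, rfl⟩
      exact hfix i
    rw [Subgroup.mem_bot]
    apply Subtype.ext
    ext x
    exact DFunLike.congr_fun h1 x
  have hcardX : Nat.card X = (Nat.card (frattini P)) ^ r := by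
    have e1 : {y : Fin r → P // ∀ i, (QuotientGroup.mk (y i) : P ⧸ frattini P) = f i} ≃
        ((i : Fin r) → {x : P // (QuotientGroup.mk x : P ⧸ frattini P) = f i}) :=
      Equiv.subtypePiEquivPi (p := fun i x => (QuotientGroup.mk x : P ⧸ frattini P) = f i)
    have e0 : Nat.card X =
        Nat.card {y : Fin r → P // ∀ i, (QuotientGroup.mk (y i) : P ⧸ frattini P) = f i} := rfl
    have e2 : ∀ i : Fin r, Nat.card {x : P // (QuotientGroup.mk x : P ⧸ frattini P) = f i} =
        Nat.card (frattini P) := by
      intro i
      obtain ⟨g, hg⟩ := QuotientGroup.mk_surjective (f i)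
      refine Nat.card_congr ⟨fun x => ⟨g⁻¹ * x.1, ?_⟩, fun φ => ⟨g * φ.1, ?_⟩, ?_, ?_⟩
      · have h1 : (QuotientGroup.mk g : P ⧸ frattini P) = QuotientGroup.mk x.1 := hg.trans x.2.symm
        exact QuotientGroup.eq.mp h1
      · have h1 : (QuotientGroup.mk g : P ⧸ frattini P) = QuotientGroup.mk (g * φ.1) :=
          QuotientGroup.eq.mpr (by simp)
        exact h1.symm.trans hg
      · intro x
        simp
      · intro φ
        simp
    rw [e0, Nat.card_congr e1, Nat.card_pi]
    simp only [e2, Finset.prod_const, Finset.card_univ, Fintype.card_fin]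
  have hcard := Nat.card_congr (MulAction.selfEquivOrbitsQuotientProd hfree)
  rw [Nat.card_prod] at hcard
  have hrn : r ≤ n := by
    have h1 : p ^ r ∣ p ^ n := by
      rw [← hr, ← hP]
      exact Subgroup.index_dvd_card _
    exact (Nat.pow_dvd_pow_iff_le_right hp.one_lt).mp h1
  have hΦ : Nat.card (frattini P) = p ^ (n - r) := by
    have h1 := Subgroup.card_mul_index (frattini P)
    rw [hr, hP] at h1
    have h2 : p ^ n = p ^ (n - r) * p ^ r := by
      rw [← pow_add]
      congr 1
      omega
    rw [h2] at h1
    exact Nat.eq_of_mul_eq_mul_right (pow_pos hp.pos r) h1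
  have : p ^ (r * (n - r)) = Nat.card X := by
    rw [hcardX, hΦ, ← pow_mul, mul_comm]
  rw [this, hcard]
  exact Dvd.intro_left _ rfl

/-- Burnside: an automorphism of order prime to `p` of a finite `p`-group which acts trivially on
the Frattini quotient is trivial. -/
theorem eq_one_of_trivial_on_frattini_of_coprime {P : Type*} [Group P] [Finite P] {p : ℕ}
    [Fact p.Prime] (hP : IsPGroup p P) (α : MulAut P)
    (hα : ∀ x : P, α x * x⁻¹ ∈ frattini P) (hcop : (orderOf α).Coprime p) : α = 1 := by
  have hp : p.Prime := Fact.out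
  obtain ⟨n, hn⟩ := IsPGroup.iff_card.mp hP
  obtain ⟨r, hr', hr⟩ := (Nat.dvd_prime_pow hp).mp (hn ▸ Subgroup.index_dvd_card (frattini P))
  let B : Subgroup (MulAut P) :=
    { carrier := {β | ∀ x : P, β x * x⁻¹ ∈ frattini P}
      mul_mem' := by
        intro a b ha hb x
        have : (a * b) x * x⁻¹ = (a (b x) * (b x)⁻¹) * (b x * x⁻¹) := by
          simp [MulAut.mul_apply]
        rw [this]
        exact mul_mem (ha (b x)) (hb x)
      one_mem' := by
        intro x
        simp
      inv_mem' := by
        intro a ha x
        have h1 := ha (a⁻¹ x)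
        have h3 : a (a⁻¹ x) = x := by simp
        rw [h3] at h1
        have : a⁻¹ x * x⁻¹ = (x * (a⁻¹ x)⁻¹)⁻¹ := by simp
        rw [this]
        exact inv_mem h1 }
  have hA : ∀ β ∈ Subgroup.zpowers α, ∀ x : P, β x * x⁻¹ ∈ frattini P := by
    intro β hβ
    have hle : Subgroup.zpowers α ≤ B := by
      rw [Subgroup.zpowers_le]
      exact hα
    exact hle hβ
  have hdvd := card_dvd_of_trivial_on_frattini hn hr (Subgroup.zpowers α) hA
  rw [Nat.card_zpowers] at hdvd
  have h1 : orderOf α = 1 := by
    have hc : (orderOf α).Coprime (p ^ (r * (n - r))) := Nat.Coprime.pow_right _ hcop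
    exact Nat.Coprime.eq_one_of_dvd hc hdvd
  exact orderOf_eq_one_iff.mp h1

end Cfsg.Agent.H76
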