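import Mathlib
import Cfsg.Agent.H76.NCKillDefs

set_option autoImplicit false

/-!
# S1353 (Bender–Glauberman §14, `C_U(k) = 1`): the remaining statements (helper76)

`StCfg` is the single configuration to which S1353 reduces; it is split into three cases
(`StCase2`, `StCase3`, `StCase4`); case 4 is `(NC)` and needs `(Z)` (`StZ`), which rests on the
Frobenius "freeness" count `StFree`.
-/

namespace Cfsg.Agent.H76.NCKill

open Cfsg Subgroup

universe u

/-- The configuration `(NC)` without `(Z)`. -/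
structure NC0 {G : Type u} [Group G] (M E A P : Subgroup G) (r p : ℕ) : Prop where
  coatom : IsCoatom M
  compl : IsComplIn E (sigmaCore M) M
  tau2 : r ∈ tau2 M
  nonab : ∀ S : Sylow r G, ¬ IsMulCommutative (S : Subgroup G)
  AE : A ≤ E
  Ael : IsElementaryAbelian r A
  Acard : Nat.card A = r ^ 2
  PE : P ≤ E
  Pcard : Nat.card P = p
  tau1 : p ∈ tau1 M
  PA0 : P ≤ centralizer ((A0 M A : Subgroup G) : Set G)
  PA : ¬ P ≤ centralizer (A : Set G)
  Kstar : sigmaCore M ⊓ centralizer (P : Set G) ≠ ⊥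

/-- The basic configuration: `P ≤ E` of order `p ∈ τ₁(M)` with `C_{M_σ}(P) ≠ 1` centralizing a
subgroup `R` of order `r ∈ τ₂(M)` of the elementary abelian `A ≤ E` of order `r²`. -/
structure Cfg {G : Type u} [Group G] (M E A P R : Subgroup G) (r p : ℕ) : Prop where
  coatom : IsCoatom M
  compl : IsComplIn E (sigmaCore M) M
  tau2 : r ∈ tau2 M
  AE : A ≤ E
  Ael : IsElementaryAbelian r A
  Acard : Nat.card A = r ^ 2
  PE : P ≤ E
  Pcard : Nat.card P = p
  tau1 : p ∈ tau1 M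
  Kstar : sigmaCore M ⊓ centralizer (P : Set G) ≠ ⊥
  RA : R ≤ A
  Rcard : Nat.card R = r
  PR : P ≤ centralizer (R : Set G)

/-- (CFG) the single configuration to which S1353 reduces does not occur. -/
def StCfg (G : Type u) [Group G] [Finite G] : Prop :=
  IsMinSimpleOddOrder G → ∀ (M E P R : Subgroup G) (r p : ℕ), IsCoatom M →
    IsComplIn E (sigmaCore M) M → p ∈ tau1 M → P ≤ E → Nat.card P = p →
    sigmaCore M ⊓ centralizer (P : Set G) ≠ ⊥ → r ∈ tau2 M → R ≤ E → Nat.card R = r →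
    P ≤ centralizer (R : Set G) → False

/-- (EXA) a complement of `M_σ` contains an elementary abelian subgroup of order `r²`,
`r ∈ τ₂(M)`. -/
def StExA (G : Type u) [Group G] [Finite G] : Prop :=
  IsMinSimpleOddOrder G → ∀ (M E : Subgroup G) (r : ℕ), IsCoatom M →
    IsComplIn E (sigmaCore M) M → r ∈ tau2 M →
    ∃ A : Subgroup G, A ≤ E ∧ IsElementaryAbelian r A ∧ Nat.card A = r ^ 2

/-- (CASE2) `P` centralizes `A`. -/
def StCase2 (G : Type u) [Group G] [Finite G] : Prop :=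
  IsMinSimpleOddOrder G → ∀ (M E A P R : Subgroup G) (r p : ℕ) [Fact r.Prime],
    Cfg M E A P R r p → P ≤ centralizer (A : Set G) → False

/-- (CASE3) `P` does not centralize `A`, the Sylow `r`-subgroups of `G` are commutative. -/
def StCase3 (G : Type u) [Group G] [Finite G] : Prop :=
  IsMinSimpleOddOrder G → ∀ (M E A P R : Subgroup G) (r p : ℕ) [Fact r.Prime],
    Cfg M E A P R r p → ¬ P ≤ centralizer (A : Set G) →
    (∃ S : Sylow r G, IsMulCommutative (S : Subgroup G)) → False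

/-- (CASE4) `P` does not centralize `A`, the Sylow `r`-subgroups of `G` are not commutative. -/
def StCase4 (G : Type u) [Group G] [Finite G] : Prop :=
  IsMinSimpleOddOrder G → ∀ (M E A P R : Subgroup G) (r p : ℕ) [Fact r.Prime],
    Cfg M E A P R r p → ¬ P ≤ centralizer (A : Set G) →
    (∀ S : Sylow r G, ¬ IsMulCommutative (S : Subgroup G)) → False

/-- (C3SYL) case 3: a commutative `P`-invariant Sylow `r`-subgroup `S` of `G` with
`A ≤ S ≤ C_G(A)` and `Ω₁(C_S(P)) ≤ R`. -/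
def StC3Syl (G : Type u) [Group G] [Finite G] : Prop :=
  IsMinSimpleOddOrder G → ∀ (M E A P R : Subgroup G) (r p : ℕ) [Fact r.Prime],
    Cfg M E A P R r p → ¬ P ≤ centralizer (A : Set G) →
    (∃ S : Sylow r G, IsMulCommutative (S : Subgroup G)) →
    ∃ S : Sylow r G, IsMulCommutative (S : Subgroup G) ∧ A ≤ (S : Subgroup G) ∧
      (S : Subgroup G) ≤ centralizer (A : Set G) ∧ P ≤ normalizer ((S : Subgroup G) : Set G) ∧
      ∀ x ∈ (S : Subgroup G) ⊓ centralizer (P : Set G), x ^ r = 1 → x ∈ R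

/-- (C3END) case 3: the contradiction from the Sylow subgroup of (C3SYL). -/
def StC3End (G : Type u) [Group G] [Finite G] : Prop :=
  IsMinSimpleOddOrder G → ∀ (M E A P R : Subgroup G) (r p : ℕ) [Fact r.Prime],
    Cfg M E A P R r p → ¬ P ≤ centralizer (A : Set G) →
    ∀ S : Sylow r G, IsMulCommutative (S : Subgroup G) → A ≤ (S : Subgroup G) →
      (S : Subgroup G) ≤ centralizer (A : Set G) → P ≤ normalizer ((S : Subgroup G) : Set G) →
      (∀ x ∈ (S : Subgroup G) ⊓ centralizer (P : Set G), x ^ r = 1 → x ∈ R) → False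

/-- (Z) in `(NC)`: `M` centralizes `A₀`. -/
def StZ (G : Type u) [Group G] [Finite G] : Prop :=
  IsMinSimpleOddOrder G → ∀ (M E A P : Subgroup G) (r p : ℕ) [Fact r.Prime],
    NC0 M E A P r p → M ≤ centralizer ((A0 M A : Subgroup G) : Set G)

/-- (FREE) pure: `V` abelian, `b` and `D` normalize `V`, `D` normalizes `⟨b⟩` and acts
faithfully on it, the non-identity elements of `⟨b⟩` have no fixed points on `V`; then
`|V| = |C_V(D)| ^ |D|`. -/
def StFree (G : Type u) [Group G] [Finite G] : Prop :=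
  ∀ (V D : Subgroup G) (b : G), (∀ x ∈ V, ∀ y ∈ V, x * y = y * x) →
    b ∈ normalizer (V : Set G) → D ≤ normalizer (V : Set G) →
    (∀ d ∈ D, d * b * d⁻¹ ∈ zpowers b) →
    (∀ d ∈ D, d * b = b * d → d = 1) →
    (∀ x ∈ zpowers b, x ≠ 1 → ∀ v ∈ V, x * v = v * x → v = 1) →
    Nat.card V = Nat.card ↥(V ⊓ centralizer (D : Set G)) ^ Nat.card D

/-- (FREEABS) the abstract form of (FREE): a finite abelian group `M`, a finite group `D` acting
on it by endomorphisms, an endomorphism `β`; if the conjugates `x_d = ρ_d β ρ_d⁻¹` commute pairwise and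
`x_d v = x_d' v` forces `v = 0` for `d ≠ d'`, then `|M| = |M^D| ^ |D|`. -/
def StFreeAbs : Prop :=
  ∀ (M : Type u) [AddCommGroup M] [Finite M] (D : Type u) [Group D] [Finite D]
    (ρ : D →* AddMonoid.End M) (β : AddMonoid.End M),
    (∀ d d' : D, (ρ d * β * ρ d⁻¹) * (ρ d' * β * ρ d'⁻¹) =
      (ρ d' * β * ρ d'⁻¹) * (ρ d * β * ρ d⁻¹)) →
    (∀ d d' : D, d ≠ d' → ∀ v : M, (ρ d * β * ρ d⁻¹) v = (ρ d' * β * ρ d'⁻¹) v → v = 0) →
    Nat.card M = Nat.card {v : M // ∀ d : D, ρ d v = v} ^ Nat.card D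

/-- (ZA) `E'`, the `r`-elements of `E` and the `τ₃(M)`-elements of `E` centralize `A₀`. -/
def StZA (G : Type u) [Group G] [Finite G] : Prop :=
  IsMinSimpleOddOrder G → ∀ (M E A P : Subgroup G) (r p : ℕ) [Fact r.Prime],
    NC0 M E A P r p →
    ⁅E, E⁆ ≤ centralizer ((A0 M A : Subgroup G) : Set G) ∧
    (∀ e ∈ E, ∀ k : ℕ, orderOf e = r ^ k → e ∈ centralizer ((A0 M A : Subgroup G) : Set G)) ∧
    (∀ e ∈ E, ∀ q k : ℕ, q ∈ tau3 M → orderOf e = q ^ k →
      e ∈ centralizer ((A0 M A : Subgroup G) : Set G))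

/-- (ZB) `E = C_E(P)·E'`. -/
def StZB (G : Type u) [Group G] [Finite G] : Prop :=
  IsMinSimpleOddOrder G → ∀ (M E A P : Subgroup G) (r p : ℕ) [Fact r.Prime],
    NC0 M E A P r p → ∀ e ∈ E, ∃ c ∈ ⁅E, E⁆, e * c ∈ centralizer (P : Set G)

/-- (ZC1) the line `⟨b⟩ = [A, P]`: `b ∈ A ∖ A₀`, `⟨b⟩` is normalized by `C_E(P)` and no
non-identity element of `P` centralizes `b`. -/
def StZC1 (G : Type u) [Group G] [Finite G] : Prop :=
  IsMinSimpleOddOrder G → ∀ (M E A P : Subgroup G) (r p : ℕ) [Fact r.Prime],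
    NC0 M E A P r p →
    ∃ b ∈ A, b ∉ A0 M A ∧ (∀ d ∈ E ⊓ centralizer (P : Set G), d * b * d⁻¹ ∈ zpowers b) ∧
      ∀ g ∈ P, g ≠ 1 → g * b ≠ b * g

/-- (ZC2) a non-trivial abelian subgroup of `M_σ` normalized by `M` (the centre of `M_σ`). -/
def StZC2 (G : Type u) [Group G] [Finite G] : Prop :=
  IsMinSimpleOddOrder G → ∀ (M E A P : Subgroup G) (r p : ℕ) [Fact r.Prime],
    NC0 M E A P r p →
    ∃ V : Subgroup G, V ≠ ⊥ ∧ V ≤ sigmaCore M ∧ (∀ x ∈ V, ∀ y ∈ V, x * y = y * x) ∧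
      M ≤ normalizer (V : Set G)

/-- (ZC3) the `τ₁(M)`-elements of `C_E(P)` of prime power order centralize `A₀`
(the freeness argument). -/
def StZC3 (G : Type u) [Group G] [Finite G] : Prop :=
  IsMinSimpleOddOrder G → ∀ (M E A P : Subgroup G) (r p : ℕ) [Fact r.Prime],
    NC0 M E A P r p → ∀ e ∈ E ⊓ centralizer (P : Set G), ∀ q k : ℕ, q ∈ tau1 M →
      orderOf e = q ^ k → e ∈ centralizer ((A0 M A : Subgroup G) : Set G)

end Cfsg.Agent.H76.NCKill
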