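import Mathlib

set_option autoImplicit false

namespace Cfsg.Agent.H76

open Equiv Equiv.Perm

/-- The symmetric group on four letters is solvable. -/
theorem isSolvable_perm_fin_four : Group.IsSolvable (Perm (Fin 4)) := by
  have h4 : Nat.card (Fin 4) = 4 := by simp
  -- the Klein four group (the commutator subgroup of `A₄`) is abelian
  have hV : Group.IsSolvable (commutator (alternatingGroup (Fin 4))) := by
    rw [← alternatingGroup.kleinFour_eq_commutator h4]
    have := alternatingGroup.kleinFour_isKleinFour (α := Fin 4) h4
    exact Group.isSolvable_of_comm (mul_comm_of_exponent_two this.exponent_two)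
  have hA : Group.IsSolvable (alternatingGroup (Fin 4)) := by
    apply Group.isSolvable_of_ker_le_range (commutator (alternatingGroup (Fin 4))).subtype
      (Abelianization.of (G := alternatingGroup (Fin 4)))
    rw [Abelianization.ker_of, Subgroup.range_subtype]
  apply Group.isSolvable_of_ker_le_range (alternatingGroup (Fin 4)).subtype (sign (α := Fin 4))
  rw [Subgroup.range_subtype]
  rfl

/-- The symmetric group on at most four letters is solvable. -/
theorem isSolvable_perm_of_card_le_four {α : Type*} [Fintype α] [DecidableEq α]
    (h : Fintype.card α ≤ 4) : Group.IsSolvable (Perm α) := by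
  have h' : Fintype.card α ≤ Fintype.card (Fin 4) := by simpa using h
  obtain ⟨ι⟩ := Function.Embedding.nonempty_of_card_le h'
  have := isSolvable_perm_fin_four
  exact Group.isSolvable_of_isSolvable_injective (viaEmbeddingHom_injective ι)

/-- A group of permutations all supported in a set of at most four points is solvable. -/
theorem isSolvable_of_support_subset {α : Type*} [Fintype α] [DecidableEq α]
    (H : Subgroup (Perm α)) (X : Finset α) (hX : X.card ≤ 4)
    (h : ∀ g ∈ H, ∀ x, g x ≠ x → x ∈ X) : Group.IsSolvable H := by
  have hsol : Group.IsSolvable (Perm {x // x ∈ X}) :=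
    isSolvable_perm_of_card_le_four (by simpa using hX)
  let φ : Perm {x // x ∈ X} →* Perm α := ofSubtype
  have hrange : Group.IsSolvable φ.range :=
    Group.isSolvable_of_surjective (f := φ.rangeRestrict) φ.rangeRestrict_surjective
  have hle : H ≤ φ.range := by
    intro g hg
    have h₂ : ∀ x, g x ≠ x → x ∈ X := h g hg
    have h₁ : ∀ x, g x ∈ X ↔ x ∈ X := by
      intro x
      by_cases hx : g x = x
      · rw [hx]
      · constructor
        · intro _; exact h₂ x hx
        · intro _
          apply h₂ (g x)
          intro hgg
          exact hx (g.injective hgg)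
    exact ⟨subtypePerm g h₁, ofSubtype_subtypePerm h₁ h₂⟩
  exact Group.isSolvable_of_isSolvable_injective (Subgroup.inclusion_injective hle)

end Cfsg.Agent.H76
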