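import Mathlib
import Cfsg.Agent.H14.SuzFin
import Cfsg.Agent.H60.Sp5

/-!
# helper76: an automorphism of 3-power order permuting three central involutions has order 3

Let `T` be a finite 2-group whose elements of order at most two are central and at most four in
number, and `ψ` an automorphism of 3-power order that moves every involution and whose cube fixes
every involution.  Then `ψ ^ 3 = 1` (`cube_one`).

Proof: minimal counterexample.  With `θ = ψ³`, every proper `ψ`-invariant subgroup is centralised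
by `θ`, so `T = [T, θ]`, proper invariant normal subgroups are central, the subgroup generated by
the squares is central, `T` has class two with squares and commutators of order two, the squaring
map is an anisotropic quadratic map (Chevalley–Warning bound of helper14), so `|T| ≤ 64`; counting
the fibres of the squaring map modulo 3 finishes.
-/

set_option autoImplicit false

namespace Cfsg.Agent.H76.CubeOne

open scoped commutatorElement

open Cfsg.Agent.H14.Suz

universe u

section res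

variable {T : Type*} [Group T]

theorem mem_iff_of_inv [Finite T] (ψ : MulAut T) (H : Subgroup T) (hH : ∀ x ∈ H, ψ x ∈ H)
    (x : T) : ψ x ∈ H ↔ x ∈ H := by
  refine ⟨fun hx => ?_, hH x⟩
  have hle : H.map ψ.toMonoidHom ≤ H := by
    rintro _ ⟨y, hy, rfl⟩
    exact hH y hy
  have hcard : Nat.card ↥(H.map ψ.toMonoidHom) = Nat.card ↥H :=
    Subgroup.card_map_of_injective ψ.injective
  have heq := Subgroup.eq_of_le_of_card_ge hle (le_of_eq hcard.symm)
  rw [← heq] at hx
  obtain ⟨y, hy, hyx⟩ := hx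
  have e : y = x := ψ.injective hyx
  exact e ▸ hy

/-- restriction of an automorphism to an invariant subgroup -/
def resAut [Finite T] (ψ : MulAut T) (H : Subgroup T) (hH : ∀ x ∈ H, ψ x ∈ H) : MulAut ↥H where
  toFun h := ⟨ψ h.1, hH h.1 h.2⟩
  invFun h := ⟨ψ.symm h.1, (mem_iff_of_inv ψ H hH _).mp (by
    rw [MulEquiv.apply_symm_apply]; exact h.2)⟩
  left_inv h := Subtype.ext (ψ.symm_apply_apply h.1)
  right_inv h := Subtype.ext (ψ.apply_symm_apply h.1)
  map_mul' a b := Subtype.ext (map_mul ψ a.1 b.1)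

theorem resAut_apply [Finite T] (ψ : MulAut T) (H : Subgroup T) (hH : ∀ x ∈ H, ψ x ∈ H)
    (h : ↥H) : ((resAut ψ H hH h : ↥H) : T) = ψ h.1 := rfl

theorem resAut_pow [Finite T] (ψ : MulAut T) (H : Subgroup T) (hH : ∀ x ∈ H, ψ x ∈ H)
    (k : ℕ) (h : ↥H) : (((resAut ψ H hH) ^ k) h : T) = (ψ ^ k) h.1 := by
  induction k generalizing h with
  | zero => simp
  | succ k ih =>
    rw [pow_succ, pow_succ, MulAut.mul_apply, MulAut.mul_apply, ih]
    rfl

theorem four_card {α : Type*} [DecidableEq α] {a b c d : α} (hab : a ≠ b) (hac : a ≠ c)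
    (had : a ≠ d) (hbc : b ≠ c) (hbd : b ≠ d) (hcd : c ≠ d) :
    ({a, b, c, d} : Finset α).card = 4 := by
  rw [Finset.card_insert_of_notMem (by simp [hab, hac, had]),
    Finset.card_insert_of_notMem (by simp [hbc, hbd]),
    Finset.card_insert_of_notMem (by simp [hcd]), Finset.card_singleton]

theorem four_sum {α : Type*} [DecidableEq α] {a b c d : α} (hab : a ≠ b) (hac : a ≠ c)
    (had : a ≠ d) (hbc : b ≠ c) (hbd : b ≠ d) (hcd : c ≠ d) (f : α → ℕ) :
    ∑ x ∈ ({a, b, c, d} : Finset α), f x = f a + f b + f c + f d := by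
  rw [Finset.sum_insert (by simp [hab, hac, had]), Finset.sum_insert (by simp [hbc, hbd]),
    Finset.sum_insert (by simp [hcd]), Finset.sum_singleton]
  ring

end res

theorem cube_aux (n : ℕ) : ∀ (T : Type u) [Group T] [Finite T], Nat.card T = n → IsPGroup 2 T →
    ∀ (ψ : MulAut T) (e : ℕ), ψ ^ (3 ^ e) = 1 →
    (∀ x y : T, x * x = 1 → x * y = y * x) →
    Nat.card {x : T // x * x = 1} ≤ 4 →
    (∀ z : T, z ≠ 1 → z * z = 1 → ψ z ≠ z ∧ ψ (ψ (ψ z)) = z) →
    ∀ x : T, ψ (ψ (ψ x)) = x := by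
  induction n using Nat.strong_induction_on with
  | _ n ih =>
  intro T _ _ hn hT ψ e hψ hic hcard h3
  classical
  by_contra hcon
  push Not at hcon
  obtain ⟨x₀, hx₀⟩ := hcon
  set θ : MulAut T := ψ * ψ * ψ with hθdef
  have hθψ : ∀ x, θ (ψ x) = ψ (θ x) := fun x => rfl
  have hθpow : θ ^ (3 ^ e) = 1 := by
    have e1 : θ = ψ ^ 3 := by rw [hθdef, pow_succ, pow_two]
    rw [e1, ← pow_mul, mul_comm, pow_mul, hψ, one_pow]
  have hθinv : ∀ z : T, z * z = 1 → θ z = z := by
    intro z hz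
    by_cases h1 : z = 1
    · rw [h1, map_one]
    · exact (h3 z h1 hz).2
  -- induction hypothesis for proper invariant subgroups
  have hprop : ∀ H : Subgroup T, (∀ x ∈ H, ψ x ∈ H) → H ≠ ⊤ → ∀ x ∈ H, θ x = x := by
    intro H hH hne x hx
    have hlt : Nat.card ↥H < n := by
      rw [← hn]
      exact lt_of_le_of_ne (Subgroup.card_le_card_group H)
        (fun h => hne (Subgroup.eq_top_of_card_eq H h))
    have key := ih _ hlt ↥H rfl (hT.to_subgroup H) (resAut ψ H hH) e ?_ ?_ ?_ ?_ ⟨x, hx⟩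
    · exact congrArg Subtype.val key
    · ext h
      rw [resAut_pow, hψ]
      rfl
    · intro a b ha
      exact Subtype.ext (hic a.1 b.1 (congrArg Subtype.val ha))
    · refine le_trans (Nat.card_le_card_of_injective
        (fun a : {a : ↥H // a * a = 1} =>
          (⟨a.1.1, congrArg Subtype.val a.2⟩ : {x : T // x * x = 1})) ?_) hcard
      intro a b hab
      have h' : a.1.1 = b.1.1 := congrArg (fun q : {x : T // x * x = 1} => q.1) hab
      exact Subtype.ext (Subtype.ext h')
    · intro z hz1 hz2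
      have h1 : z.1 ≠ 1 := fun h => hz1 (Subtype.ext h)
      have h2 : z.1 * z.1 = 1 := congrArg Subtype.val hz2
      obtain ⟨ha, hb⟩ := h3 z.1 h1 h2
      exact ⟨fun h => ha (congrArg Subtype.val h), Subtype.ext hb⟩
  -- the subgroup generated by the elements x⁻¹ θ(x)
  set R : Subgroup T := Subgroup.closure {r | ∃ x, r = x⁻¹ * θ x} with hRdef
  have hRψ : ∀ x ∈ R, ψ x ∈ R := by
    intro x hx
    induction hx using Subgroup.closure_induction with
    | mem r hr =>
      obtain ⟨y, rfl⟩ := hr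
      exact Subgroup.subset_closure ⟨ψ y, by rw [map_mul, map_inv, hθψ]⟩
    | one => rw [map_one]; exact one_mem _
    | mul a b _ _ ha hb => rw [map_mul]; exact mul_mem ha hb
    | inv a _ ha => rw [map_inv]; exact inv_mem ha
  have hRtop : R = ⊤ := by
    by_contra hne
    have hfix := hprop R hRψ hne
    apply hx₀
    have hrR : x₀⁻¹ * θ x₀ ∈ R := Subgroup.subset_closure ⟨x₀, rfl⟩
    have hθr : θ (x₀⁻¹ * θ x₀) = x₀⁻¹ * θ x₀ := hfix _ hrR
    have hθx : θ x₀ = x₀ * (x₀⁻¹ * θ x₀) := by group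
    have hpow : ∀ k : ℕ, (θ ^ k) x₀ = x₀ * (x₀⁻¹ * θ x₀) ^ k := by
      intro k
      induction k with
      | zero => simp
      | succ k ih =>
        rw [pow_succ', MulAut.mul_apply, ih, map_mul, map_pow, hθr, pow_succ', ← mul_assoc,
          ← hθx]
    have h1 := hpow (3 ^ e)
    rw [hθpow, MulAut.one_apply] at h1
    have hr3 : (x₀⁻¹ * θ x₀) ^ (3 ^ e) = 1 := by
      have := h1.symm
      rwa [mul_eq_left] at this
    obtain ⟨j, hj⟩ := hT (x₀⁻¹ * θ x₀)
    have hr1 : x₀⁻¹ * θ x₀ = 1 := by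
      have hd1 : orderOf (x₀⁻¹ * θ x₀) ∣ 3 ^ e := orderOf_dvd_of_pow_eq_one hr3
      have hd2 : orderOf (x₀⁻¹ * θ x₀) ∣ 2 ^ j := orderOf_dvd_of_pow_eq_one hj
      have hcop : Nat.Coprime (3 ^ e) (2 ^ j) := Nat.Coprime.pow _ _ (by norm_num)
      have h1' : orderOf (x₀⁻¹ * θ x₀) = 1 :=
        Nat.dvd_one.mp (hcop ▸ Nat.dvd_gcd hd1 hd2)
      exact orderOf_eq_one_iff.mp h1'
    have : θ x₀ = x₀ := by rw [hθx, hr1, mul_one]
    exact this
  -- proper invariant normal subgroups are central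
  have hcentral : ∀ N : Subgroup T, N.Normal → (∀ x ∈ N, ψ x ∈ N) → N ≠ ⊤ →
      N ≤ Subgroup.center T := by
    intro N hN hNψ hne c hc
    have hfix := hprop N hNψ hne
    have hle : R ≤ Subgroup.centralizer {c} := by
      rw [hRdef, Subgroup.closure_le]
      rintro r ⟨x, rfl⟩
      rw [SetLike.mem_coe, Subgroup.mem_centralizer_iff]
      intro d hd
      rw [Set.mem_singleton_iff] at hd
      subst hd
      have h1 : θ (x * d * x⁻¹) = x * d * x⁻¹ := hfix _ (hN.conj_mem d hc x)
      rw [map_mul, map_mul, map_inv, hfix d hc] at h1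
      calc d * (x⁻¹ * θ x) = x⁻¹ * (x * d * x⁻¹) * θ x := by group
        _ = x⁻¹ * (θ x * d * (θ x)⁻¹) * θ x := by rw [h1]
        _ = x⁻¹ * θ x * d := by group
    rw [hRtop] at hle
    rw [Subgroup.mem_center_iff]
    intro g
    exact (Subgroup.mem_centralizer_iff.mp (hle (Subgroup.mem_top g)) c rfl).symm
  -- the subgroup generated by the squares
  set Sq : Subgroup T := Subgroup.closure {s | ∃ x, s = x * x} with hSqdef
  have hSqaut : ∀ φ : MulAut T, ∀ x ∈ Sq, φ x ∈ Sq := by
    intro φ x hx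
    induction hx using Subgroup.closure_induction with
    | mem s hs =>
      obtain ⟨y, rfl⟩ := hs
      exact Subgroup.subset_closure ⟨φ y, map_mul φ y y⟩
    | one => rw [map_one]; exact one_mem _
    | mul a b _ _ ha hb => rw [map_mul]; exact mul_mem ha hb
    | inv a _ ha => rw [map_inv]; exact inv_mem ha
  have hSqN : Sq.Normal := ⟨fun x hx g => by
    have := hSqaut (MulAut.conj g) x hx
    rwa [MulAut.conj_apply] at this⟩
  have hx₀1 : x₀ ≠ 1 := fun h => hx₀ (by rw [h, map_one, map_one, map_one])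
  have hSqne : Sq ≠ ⊤ := by
    have hnt : Nontrivial T := ⟨⟨x₀, 1, hx₀1⟩⟩
    have hp2 : Fact (Nat.Prime 2) := ⟨Nat.prime_two⟩
    obtain ⟨k, hk⟩ := IsPGroup.iff_card.mp hT
    have hk0 : k ≠ 0 := by
      rintro rfl
      rw [pow_zero] at hk
      have := Finite.one_lt_card (α := T)
      omega
    obtain ⟨k', rfl⟩ := Nat.exists_eq_succ_of_ne_zero hk0
    obtain ⟨M, hM⟩ := Sylow.exists_subgroup_card_pow_prime (G := T) 2 (n := k')
      (by rw [hk]; exact pow_dvd_pow 2 (Nat.le_succ k'))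
    have hidx : M.index = 2 := by
      have h1 := M.card_mul_index
      rw [hM, hk, pow_succ] at h1
      exact Nat.eq_of_mul_eq_mul_left (by positivity) h1
    have hle : Sq ≤ M := by
      rw [hSqdef, Subgroup.closure_le]
      rintro s ⟨x, rfl⟩
      exact Subgroup.mul_self_mem_of_index_two hidx x
    intro htop
    rw [htop] at hle
    have hMtop : M = ⊤ := top_le_iff.mp hle
    rw [hMtop, Subgroup.index_top] at hidx
    norm_num at hidx
  have hSqc : Sq ≤ Subgroup.center T := hcentral Sq hSqN (hSqaut ψ) hSqne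
  have hSqfix := hprop Sq (hSqaut ψ) hSqne
  have hsqmem : ∀ x : T, x * x ∈ Sq := fun x => Subgroup.subset_closure ⟨x, rfl⟩
  have hcommSq : ∀ x y : T, ⁅x, y⁆ ∈ Sq := by
    intro x y
    have e1 : ⁅x, y⁆ = (x * y) * (x * y) * ((y⁻¹ * x⁻¹ * y) * (y⁻¹ * x⁻¹ * y)) * (y⁻¹ * y⁻¹) := by
      rw [commutatorElement_def]; group
    rw [e1]
    exact mul_mem (mul_mem (hsqmem _) (hsqmem _)) (hsqmem _)
  -- class two, commutators of order two
  have hcomm : ∀ x y : T, ⁅x, y⁆ ∈ Om T := by
    intro x y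
    refine ⟨hSqc (hcommSq x y), ?_⟩
    have h1 := Cfsg.Agent.H60.cc_mul_left x x y (hSqc (hcommSq x y))
    rw [← h1]
    exact Cfsg.Agent.H60.cc_central_left (x * x) y (hSqc (hsqmem x))
  -- squares have order two
  have hsqOm : ∀ g : T, g * g ∈ Om T := by
    let E : Subgroup T :=
      { carrier := {g | g * g ∈ Om T}
        mul_mem' := by
          intro a b ha hb
          show (a * b) * (a * b) ∈ Om T
          rw [mul_sq hcomm a b]
          exact mul_mem (hcomm b a) (mul_mem ha hb)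
        one_mem' := by
          show (1 : T) * 1 ∈ Om T
          rw [one_mul]; exact one_mem _
        inv_mem' := by
          intro a ha
          show a⁻¹ * a⁻¹ ∈ Om T
          rw [← mul_inv_rev]; exact inv_mem ha }
    have hRE : R ≤ E := by
      rw [hRdef, Subgroup.closure_le]
      rintro r ⟨x, rfl⟩
      show (x⁻¹ * θ x) * (x⁻¹ * θ x) ∈ Om T
      rw [mul_sq hcomm x⁻¹ (θ x)]
      have h1 : x⁻¹ * x⁻¹ * (θ x * θ x) = 1 := by
        rw [← map_mul, hSqfix _ (hsqmem x)]; group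
      rw [h1, mul_one]
      exact hcomm _ _
    intro g
    have hg : g ∈ E := hRE (hRtop ▸ Subgroup.mem_top g)
    exact hg
  have hinvOm : ∀ x : T, x * x = 1 → x ∈ Om T := fun x hx =>
    ⟨Subgroup.mem_center_iff.mpr (fun g => (hic x g hx).symm), hx⟩
  have hQ2 : ∀ v : T ⧸ Om T, v * v = 1 := by
    intro v
    obtain ⟨x, rfl⟩ := QuotientGroup.mk_surjective v
    rw [← QuotientGroup.mk_mul, QuotientGroup.eq_one_iff]; exact hsqOm x
  -- Chevalley–Warning bound
  have hCW : Nat.card (T ⧸ Om T) ≤ Nat.card ↥(Om T) ^ 2 := by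
    let sqZ : T → Om T := fun x => ⟨x * x, hsqOm x⟩
    have hsqZ : ∀ (x c : T), c ∈ Om T → sqZ (x * c) = sqZ x := by
      intro x c hcc
      apply Subtype.ext
      show x * c * (x * c) = x * x
      have h1 := Subgroup.mem_center_iff.mp hcc.1
      calc x * c * (x * c) = x * (c * x) * c := by group
        _ = x * (x * c) * c := by rw [← h1 x]
        _ = x * x * (c * c) := by group
        _ = x * x := by rw [hcc.2, mul_one]
    let Q : T ⧸ Om T → Om T := fun v => sqZ v.out
    have hQmk : ∀ x : T, Q (QuotientGroup.mk x) = sqZ x := by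
      intro x
      obtain ⟨⟨c, hcc⟩, hh⟩ := QuotientGroup.mk_out_eq_mul (Om T) x
      show sqZ (QuotientGroup.mk x : T ⧸ Om T).out = sqZ x
      rw [hh, hsqZ x c hcc]
    let B : T ⧸ Om T → T ⧸ Om T → Om T := fun u v => ⟨⁅v.out, u.out⁆, hcomm _ _⟩
    have hcz : ∀ (x c : T), c ∈ Om T → ⁅x, c⁆ = 1 ∧ ⁅c, x⁆ = 1 := by
      intro x c hcc
      have h1 := Subgroup.mem_center_iff.mp hcc.1 x
      exact ⟨commutatorElement_eq_one_iff_mul_comm.mpr h1,
        commutatorElement_eq_one_iff_mul_comm.mpr h1.symm⟩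
    have hBmk : ∀ x y : T, B (QuotientGroup.mk x) (QuotientGroup.mk y) =
        ⟨⁅y, x⁆, hcomm _ _⟩ := by
      intro x y
      obtain ⟨⟨c, hcc⟩, hh⟩ := QuotientGroup.mk_out_eq_mul (Om T) x
      obtain ⟨⟨c', hcc'⟩, hh'⟩ := QuotientGroup.mk_out_eq_mul (Om T) y
      apply Subtype.ext
      show ⁅(QuotientGroup.mk y : T ⧸ Om T).out, (QuotientGroup.mk x : T ⧸ Om T).out⁆ = ⁅y, x⁆
      rw [hh, hh']
      show ⁅y * c', x * c⁆ = ⁅y, x⁆
      rw [comm_mul_left hcomm, comm_mul_right hcomm, comm_mul_right hcomm, (hcz y c hcc).1,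
        (hcz x c' hcc').2, (hcz c' c hcc).1]
      simp only [mul_one]
    apply quad_card_le_mul hQ2 (fun z => Subtype.ext z.2.2) Q B
    · intro u v
      obtain ⟨x, rfl⟩ := QuotientGroup.mk_surjective u
      obtain ⟨y, rfl⟩ := QuotientGroup.mk_surjective v
      rw [← QuotientGroup.mk_mul, hQmk, hQmk, hQmk, hBmk]
      apply Subtype.ext
      show (x * y) * (x * y) = (x * x) * (y * y) * ⁅y, x⁆
      rw [mul_sq hcomm x y]
      exact (Subgroup.mem_center_iff.mp (hcomm y x).1 _).symm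
    · intro u u' v
      obtain ⟨x, rfl⟩ := QuotientGroup.mk_surjective u
      obtain ⟨x', rfl⟩ := QuotientGroup.mk_surjective u'
      obtain ⟨y, rfl⟩ := QuotientGroup.mk_surjective v
      rw [← QuotientGroup.mk_mul, hBmk, hBmk, hBmk]
      apply Subtype.ext
      show ⁅y, x * x'⁆ = ⁅y, x⁆ * ⁅y, x'⁆
      exact comm_mul_right hcomm y x x'
    · intro u v v'
      obtain ⟨x, rfl⟩ := QuotientGroup.mk_surjective u
      obtain ⟨y, rfl⟩ := QuotientGroup.mk_surjective v
      obtain ⟨y', rfl⟩ := QuotientGroup.mk_surjective v'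
      rw [← QuotientGroup.mk_mul, hBmk, hBmk, hBmk]
      apply Subtype.ext
      show ⁅y * y', x⁆ = ⁅y, x⁆ * ⁅y', x⁆
      exact comm_mul_left hcomm y y' x
    · intro v hv
      obtain ⟨x, rfl⟩ := QuotientGroup.mk_surjective v
      rw [hQmk] at hv
      have hxx : x * x = 1 := congrArg Subtype.val hv
      exact (QuotientGroup.eq_one_iff x).mpr (hinvOm x hxx)
  -- fixed points of θ lie in Om
  have hfixOm : ∀ x : T, θ x = x → x ∈ Om T := by
    have hcommQ : ∀ a b : T ⧸ Om T, a * b = b * a := by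
      intro a b
      have ha : a⁻¹ = a := inv_eq_of_mul_eq_one_right (hQ2 a)
      have hb : b⁻¹ = b := inv_eq_of_mul_eq_one_right (hQ2 b)
      have hab : a * b = (a * b)⁻¹ := (inv_eq_of_mul_eq_one_right (hQ2 _)).symm
      rw [hab, mul_inv_rev, ha, hb]
    have key : ∀ A A' B B' : T ⧸ Om T, B⁻¹ * A⁻¹ * (A' * B') = A⁻¹ * A' * (B⁻¹ * B') := by
      intro A A' B B'
      calc B⁻¹ * A⁻¹ * (A' * B') = (B⁻¹ * A⁻¹) * A' * B' := by group
        _ = (A⁻¹ * B⁻¹) * A' * B' := by rw [hcommQ B⁻¹ A⁻¹]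
        _ = A⁻¹ * (B⁻¹ * A') * B' := by group
        _ = A⁻¹ * (A' * B⁻¹) * B' := by rw [hcommQ B⁻¹ A']
        _ = A⁻¹ * A' * (B⁻¹ * B') := by group
    let f : T →* T ⧸ Om T :=
      { toFun := fun x => (QuotientGroup.mk x)⁻¹ * QuotientGroup.mk (θ x)
        map_one' := by simp
        map_mul' := fun a b => by
          rw [map_mul, QuotientGroup.mk_mul, QuotientGroup.mk_mul, mul_inv_rev]
          exact key _ _ _ _ }
    have hfapp : ∀ x, f x = (QuotientGroup.mk x)⁻¹ * QuotientGroup.mk (θ x) := fun x => rfl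
    have hfsurj : Function.Surjective f := by
      have hle : R.map (QuotientGroup.mk' (Om T)) ≤ f.range := by
        rw [hRdef, MonoidHom.map_closure, Subgroup.closure_le]
        rintro _ ⟨r, ⟨x, rfl⟩, rfl⟩
        refine ⟨x, ?_⟩
        rw [hfapp, map_mul, map_inv]
        rfl
      rw [hRtop, Subgroup.map_top_of_surjective _ (QuotientGroup.mk'_surjective _)] at hle
      exact MonoidHom.range_eq_top.mp (top_le_iff.mp hle)
    have hker : f.ker = Om T := by
      have hOmle : Om T ≤ f.ker := by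
        intro c hc
        rw [MonoidHom.mem_ker, hfapp, hθinv c hc.2, inv_mul_cancel]
      symm
      apply Subgroup.eq_of_le_of_card_ge hOmle
      have h1 := Subgroup.card_eq_card_quotient_mul_card_subgroup f.ker
      have h2 := Subgroup.card_eq_card_quotient_mul_card_subgroup (Om T)
      have h3' : Nat.card (T ⧸ f.ker) = Nat.card (T ⧸ Om T) :=
        Nat.card_congr (QuotientGroup.quotientKerEquivOfSurjective f hfsurj).toEquiv
      rw [h3'] at h1
      have hpos : 0 < Nat.card (T ⧸ Om T) := Nat.card_pos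
      have h4 : Nat.card (T ⧸ Om T) * Nat.card ↥f.ker
          = Nat.card (T ⧸ Om T) * Nat.card ↥(Om T) := by rw [← h1, ← h2]
      exact le_of_eq (Nat.eq_of_mul_eq_mul_left hpos h4)
    intro x hx
    rw [← hker, MonoidHom.mem_ker, hfapp, hx, inv_mul_cancel]
  -- the three involutions
  obtain ⟨j, hj1, hj2⟩ := exists_pow_invol hT x₀ hx₀1
  obtain ⟨hz₀ψ, hz₀θ⟩ := h3 (x₀ ^ j) hj1 hj2
  obtain ⟨z₀, hz₀⟩ : ∃ z₀ : T, z₀ = x₀ ^ j := ⟨_, rfl⟩
  rw [← hz₀] at hj1 hj2 hz₀ψ hz₀θ
  have hψ1 : ∀ c : T, c ≠ 1 → ψ c ≠ 1 := fun c hc h => hc (ψ.injective (h.trans (map_one ψ).symm))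
  have hψ2 : ∀ c : T, c * c = 1 → ψ c * ψ c = 1 := fun c hc => by rw [← map_mul, hc, map_one]
  have hz₁1 : ψ z₀ ≠ 1 := hψ1 z₀ hj1
  have hz₁2 : ψ z₀ * ψ z₀ = 1 := hψ2 z₀ hj2
  have hz₂1 : ψ (ψ z₀) ≠ 1 := hψ1 _ hz₁1
  have hz₂2 : ψ (ψ z₀) * ψ (ψ z₀) = 1 := hψ2 _ hz₁2
  have h01 : z₀ ≠ ψ z₀ := fun h => hz₀ψ h.symm
  have h12 : ψ z₀ ≠ ψ (ψ z₀) := fun h => h01 (ψ.injective h)
  have h02 : z₀ ≠ ψ (ψ z₀) := by
    intro h
    apply hz₀ψ
    have h' : ψ z₀ = ψ (ψ (ψ z₀)) := congrArg ψ h
    rw [h']; exact hz₀θ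
  let _ : Fintype T := Fintype.ofFinite T
  have hOmF : (Finset.univ.filter (fun x : T => x ∈ Om T)) = {1, z₀, ψ z₀, ψ (ψ z₀)} := by
    symm
    apply Finset.eq_of_subset_of_card_le
    · intro c hc
      simp only [Finset.mem_insert, Finset.mem_singleton] at hc
      rw [Finset.mem_filter]
      refine ⟨Finset.mem_univ _, ?_⟩
      rcases hc with rfl | rfl | rfl | rfl
      · exact one_mem _
      · exact hinvOm _ hj2
      · exact hinvOm _ hz₁2
      · exact hinvOm _ hz₂2
    · rw [four_card (Ne.symm hj1) (Ne.symm hz₁1) (Ne.symm hz₂1) h01 h02 h12]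
      have h1 : Nat.card ↥(Om T) = (Finset.univ.filter (fun x : T => x ∈ Om T)).card := by
        rw [Nat.card_eq_fintype_card, Fintype.card_subtype]
      rw [← h1]
      refine le_trans (Nat.card_le_card_of_injective
        (fun a : Om T => (⟨a.1, a.2.2⟩ : {x : T // x * x = 1})) ?_) hcard
      intro a b hab
      exact Subtype.ext (congrArg (fun q : {x : T // x * x = 1} => q.1) hab)
  have hOmcard : Nat.card ↥(Om T) = 4 := by
    rw [Nat.card_eq_fintype_card, Fintype.card_subtype, hOmF]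
    exact four_card (Ne.symm hj1) (Ne.symm hz₁1) (Ne.symm hz₂1) h01 h02 h12
  -- fibres of the squaring map
  set F : T → Finset T := fun c => Finset.univ.filter (fun x : T => x * x = c) with hFdef
  have hF1 : (F 1).card = 4 := by
    have e1 : F 1 = Finset.univ.filter (fun x : T => x ∈ Om T) := by
      ext x
      simp only [hFdef, Finset.mem_filter, Finset.mem_univ, true_and]
      exact ⟨hinvOm x, fun h => h.2⟩
    rw [e1, hOmF]
    exact four_card (Ne.symm hj1) (Ne.symm hz₁1) (Ne.symm hz₂1) h01 h02 h12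
  have hFψ : ∀ c : T, (F (ψ c)).card = (F c).card := by
    intro c
    symm
    apply Finset.card_bij (fun x _ => ψ x)
    · intro x hx
      simp only [hFdef, Finset.mem_filter, Finset.mem_univ, true_and] at hx ⊢
      rw [← map_mul, hx]
    · intro x _ y _ hxy
      exact ψ.injective hxy
    · intro y hy
      simp only [hFdef, Finset.mem_filter, Finset.mem_univ, true_and] at hy
      refine ⟨ψ.symm y, ?_, ψ.apply_symm_apply y⟩
      simp only [hFdef, Finset.mem_filter, Finset.mem_univ, true_and]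
      rw [← map_mul, hy, MulEquiv.symm_apply_apply]
  have hsum : Fintype.card T = ∑ c ∈ ({1, z₀, ψ z₀, ψ (ψ z₀)} : Finset T), (F c).card := by
    rw [← Finset.card_univ, ← hOmF]
    apply Finset.card_eq_sum_card_fiberwise
    intro x _
    rw [Finset.mem_coe, Finset.mem_filter]
    exact ⟨Finset.mem_univ _, hsqOm x⟩
  rw [four_sum (Ne.symm hj1) (Ne.symm hz₁1) (Ne.symm hz₂1) h01 h02 h12, hF1, hFψ, hFψ, hFψ]
    at hsum
  -- the fibre over z₀ has cardinality divisible by three
  have h3dvd : 3 ∣ (F z₀).card := by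
    have hp3 : Fact (Nat.Prime 3) := ⟨Nat.prime_three⟩
    let g : Function.End {x : T // x * x = z₀} :=
      fun x => ⟨θ x.1, by rw [← map_mul, x.2]; exact hz₀θ⟩
    have hgpow : ∀ (k : ℕ) (x : {x : T // x * x = z₀}), ((g ^ k) x).1 = (θ ^ k) x.1 := by
      intro k
      induction k with
      | zero => intro x; rfl
      | succ k ih =>
        intro x
        rw [pow_succ, pow_succ, MulAut.mul_apply]
        exact ih (g x)
    have hg : g ^ 3 ^ e = 1 := by
      funext x
      apply Subtype.ext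
      rw [hgpow, hθpow]
      rfl
    have hmod := Equiv.Perm.card_fixedPoints_modEq (f := g) (p := 3) (n := e) hg
    have hempty : IsEmpty ↥(Function.fixedPoints g) := by
      constructor
      rintro ⟨x, hx⟩
      have h1 : θ x.1 = x.1 := congrArg Subtype.val hx
      have h2 := (hfixOm x.1 h1).2
      rw [x.2] at h2
      exact hj1 h2
    rw [Fintype.card_eq_zero_iff.mpr hempty, Fintype.card_subtype] at hmod
    exact (Nat.modEq_zero_iff_dvd.mp hmod)
  -- |T| ≤ 64 and |T| is a power of two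
  have hT64 : Fintype.card T ≤ 64 := by
    have h1 := Subgroup.card_eq_card_quotient_mul_card_subgroup (Om T)
    rw [hOmcard] at h1 hCW
    rw [← Nat.card_eq_fintype_card, h1]
    omega
  have hp2 : Fact (Nat.Prime 2) := ⟨Nat.prime_two⟩
  obtain ⟨k, hk⟩ := IsPGroup.iff_card.mp hT
  rw [Nat.card_eq_fintype_card] at hk
  obtain ⟨N, hN⟩ := h3dvd
  have hk6 : k ≤ 6 := by
    by_contra hlt
    have : 2 ^ 7 ≤ 2 ^ k := Nat.pow_le_pow_right (by norm_num) (by omega)
    omega
  have hN0 : (F z₀).card = 0 := by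
    rw [hN, hk] at hsum
    interval_cases k <;> omega
  -- contradiction: x₀ lies in Om
  have hx₀sq := hsqOm x₀
  have hmem : x₀ * x₀ ∈ Finset.univ.filter (fun x : T => x ∈ Om T) :=
    Finset.mem_filter.mpr ⟨Finset.mem_univ _, hx₀sq⟩
  rw [hOmF] at hmem
  simp only [Finset.mem_insert, Finset.mem_singleton] at hmem
  have hne : ∀ c : T, (F c).card = 0 → x₀ * x₀ ≠ c := by
    intro c hc h
    have : x₀ ∈ F c := by
      simp only [hFdef, Finset.mem_filter, Finset.mem_univ, true_and]
      exact h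
    rw [Finset.card_eq_zero] at hc
    rw [hc] at this
    exact absurd this (Finset.notMem_empty _)
  rcases hmem with h | h | h | h
  · exact hx₀ (hθinv x₀ h)
  · exact hne _ hN0 h
  · exact hne _ (by rw [hFψ]; exact hN0) h
  · exact hne _ (by rw [hFψ, hFψ]; exact hN0) h

/-- an automorphism of 3-power order of a 2-group with central involutions, at most three of them,
all moved by `ψ` and fixed by `ψ ^ 3`, has order dividing three -/
theorem cube_one {T : Type u} [Group T] [Finite T] (hT : IsPGroup 2 T) (ψ : MulAut T) (e : ℕ)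
    (hψ : ψ ^ (3 ^ e) = 1) (hic : ∀ x y : T, x * x = 1 → x * y = y * x)
    (hcard : Nat.card {x : T // x * x = 1} ≤ 4)
    (h3 : ∀ z : T, z ≠ 1 → z * z = 1 → ψ z ≠ z ∧ ψ (ψ (ψ z)) = z) :
    ∀ x : T, ψ (ψ (ψ x)) = x :=
  cube_aux _ T rfl hT ψ e hψ hic hcard h3

end Cfsg.Agent.H76.CubeOne
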