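import Mathlib
import Cfsg.Agent.H11.Meta2A
import Cfsg.Agent.H14.Suz

/-!
# helper76: abelian 2-groups with three involutions permuted without fixed points

An abelian 2-group with at most four elements of order at most two, admitting an automorphism
fixing no involution, is homocyclic of rank two.
-/

set_option autoImplicit false

namespace Cfsg.Agent.H76.Homo

universe u

/-- an abelian group of exponent dividing `2 ^ n` with at most four elements of order at most two
has order at most `4 ^ n` -/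
theorem card_le_four_pow (n : ℕ) : ∀ (A : Type u) [Group A] [Finite A],
    (∀ a b : A, a * b = b * a) → (∀ a : A, a ^ (2 ^ n) = 1) →
    Nat.card {a : A // a * a = 1} ≤ 4 → Nat.card A ≤ 4 ^ n := by
  induction n with
  | zero =>
    intro A _ _ hc hexp hinv
    have hsub : Subsingleton A := ⟨fun a b => by
      have ha := hexp a
      have hb := hexp b
      rw [pow_zero, pow_one] at ha hb
      rw [ha, hb]⟩
    rw [pow_zero]
    exact le_of_eq (Nat.card_eq_one_iff_unique.mpr ⟨hsub, ⟨1⟩⟩)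
  | succ n ih =>
    intro A _ _ hc hexp hinv
    let sq : A →* A :=
      { toFun := fun a => a * a
        map_one' := one_mul 1
        map_mul' := fun a b => by
          show a * b * (a * b) = a * a * (b * b)
          calc a * b * (a * b) = a * (b * a) * b := by group
            _ = a * (a * b) * b := by rw [hc b a]
            _ = a * a * (b * b) := by group }
    have hker : Nat.card ↥sq.ker ≤ 4 := by
      refine le_trans (Nat.card_le_card_of_injective
        (fun k : sq.ker => (⟨k.1, MonoidHom.mem_ker.mp k.2⟩ : {a : A // a * a = 1})) ?_) hinv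
      intro k k' h
      exact Subtype.ext (congrArg Subtype.val h)
    have hR : Nat.card ↥sq.range ≤ 4 ^ n := by
      apply ih ↥sq.range (fun a b => Subtype.ext (hc a.1 b.1))
      · intro r
        obtain ⟨a, ha⟩ := r.2
        apply Subtype.ext
        show (r.1) ^ (2 ^ n) = 1
        rw [← ha]
        show (a * a) ^ (2 ^ n) = 1
        rw [← pow_two, ← pow_mul, ← pow_succ']
        exact hexp a
      · refine le_trans (Nat.card_le_card_of_injective
          (fun r : {r : sq.range // r * r = 1} =>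
            (⟨r.1.1, congrArg Subtype.val r.2⟩ : {a : A // a * a = 1})) ?_) hinv
        intro r r' h
        have h' : r.1.1 = r'.1.1 := congrArg (fun q : {a : A // a * a = 1} => q.1) h
        exact Subtype.ext (Subtype.ext h')
    have h1 := Subgroup.card_eq_card_quotient_mul_card_subgroup sq.ker
    have h2 : Nat.card (A ⧸ sq.ker) = Nat.card ↥sq.range :=
      Nat.card_congr (QuotientGroup.quotientKerEquivRange sq).toEquiv
    rw [h1, h2, pow_succ]
    exact Nat.mul_le_mul hR hker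

/-- the involution of a cyclic 2-group -/
theorem invol_zpowers {T : Type*} [Group T] [Finite T] (a : T) (n : ℕ) (ha : orderOf a = 2 ^ n)
    (hn : 1 ≤ n) {i : T} (hi : i ∈ Subgroup.zpowers a) (hi1 : i ≠ 1) (hi2 : i * i = 1) :
    i = a ^ (2 ^ (n - 1)) := by
  obtain ⟨k, rfl⟩ := mem_powers_iff_mem_zpowers.mpr hi
  have h2k : a ^ (k * 2) = 1 := by rw [pow_mul, pow_two]; exact hi2
  have hdvd : 2 ^ n ∣ k * 2 := ha ▸ orderOf_dvd_of_pow_eq_one h2k
  obtain ⟨m, rfl⟩ : ∃ m, n = m + 1 := ⟨n - 1, by omega⟩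
  rw [pow_succ] at hdvd
  have hdvd' : 2 ^ m ∣ k := Nat.dvd_of_mul_dvd_mul_right (by norm_num) hdvd
  obtain ⟨l, rfl⟩ := hdvd'
  have hz2 : (a ^ (2 ^ m)) ^ 2 = 1 := by
    rw [← pow_mul, ← pow_succ, ← ha]; exact pow_orderOf_eq_one a
  show a ^ (2 ^ m * l) = a ^ (2 ^ (m + 1 - 1))
  rw [Nat.add_sub_cancel, pow_mul]
  rcases Nat.even_or_odd l with ⟨j, rfl⟩ | ⟨j, rfl⟩
  · exfalso
    apply hi1
    show a ^ (2 ^ m * (j + j)) = 1
    rw [pow_mul, ← two_mul, pow_mul, hz2, one_pow]
  · rw [pow_succ, pow_mul, hz2, one_pow, one_mul]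

/-- an abelian 2-group with at most four elements of order at most two and an automorphism
fixing no involution is homocyclic of rank two -/
theorem homocyclic {T : Type u} [Group T] [Finite T] (hT : IsPGroup 2 T)
    (hc : ∀ a b : T, a * b = b * a) (hinv : Nat.card {a : T // a * a = 1} ≤ 4)
    (ψ : MulAut T) (hψ : ∀ z : T, z ≠ 1 → z * z = 1 → ψ z ≠ z) (hnt : ∃ z : T, z ≠ 1) :
    ∃ n : ℕ, 1 ≤ n ∧ Nonempty (T ≃* Multiplicative (ZMod (2 ^ n) × ZMod (2 ^ n))) := by
  obtain ⟨x, hx⟩ := Finite.exists_max (fun a : T => orderOf a)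
  have hord : ∀ a : T, ∃ m, orderOf a = 2 ^ m := by
    intro a
    obtain ⟨k, hk⟩ := hT a
    obtain ⟨m, -, hm⟩ := (Nat.dvd_prime_pow Nat.prime_two).mp (orderOf_dvd_of_pow_eq_one hk)
    exact ⟨m, hm⟩
  obtain ⟨n, hn⟩ := hord x
  have hexp : ∀ a : T, a ^ (2 ^ n) = 1 := by
    intro a
    obtain ⟨m, hm⟩ := hord a
    have hle : 2 ^ m ≤ 2 ^ n := by rw [← hm, ← hn]; exact hx a
    have hmn : m ≤ n := (Nat.pow_le_pow_iff_right (by norm_num)).mp hle
    apply orderOf_dvd_iff_pow_eq_one.mp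
    rw [hm]
    exact pow_dvd_pow 2 hmn
  have hn1 : 1 ≤ n := by
    by_contra h0
    have h0' : n = 0 := by omega
    obtain ⟨z, hz⟩ := hnt
    apply hz
    have := hexp z
    rw [h0', pow_zero, pow_one] at this
    exact this
  have hcard_le : Nat.card T ≤ 4 ^ n := card_le_four_pow n T hc hexp hinv
  have hordψ : orderOf (ψ x) = 2 ^ n := by rw [MulEquiv.orderOf_eq]; exact hn
  have hdisj : ∀ g : T, g ∈ Subgroup.zpowers x → g ∈ Subgroup.zpowers (ψ x) → g = 1 := by
    intro g hg1 hg2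
    by_contra hg
    obtain ⟨j, hj1, hj2⟩ := Cfsg.Agent.H14.Suz.exists_pow_invol hT g hg
    have e1 := invol_zpowers x n hn hn1 (Subgroup.pow_mem _ hg1 j) hj1 hj2
    have e2 := invol_zpowers (ψ x) n hordψ hn1 (Subgroup.pow_mem _ hg2 j) hj1 hj2
    rw [← map_pow, ← e1] at e2
    exact hψ _ hj1 hj2 e2.symm
  have hxle : Subgroup.zpowers x ≤ Subgroup.closure {x, ψ x} :=
    Subgroup.zpowers_le.mpr (Subgroup.subset_closure (Or.inl rfl))
  have hψxle : Subgroup.zpowers (ψ x) ≤ Subgroup.closure {x, ψ x} :=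
    Subgroup.zpowers_le.mpr (Subgroup.subset_closure (Or.inr rfl))
  let m : ↥(Subgroup.zpowers x) × ↥(Subgroup.zpowers (ψ x)) → ↥(Subgroup.closure {x, ψ x}) :=
    fun p => ⟨p.1.1 * p.2.1, mul_mem (hxle p.1.2) (hψxle p.2.2)⟩
  have hm : Function.Injective m := by
    rintro ⟨a, b⟩ ⟨a', b'⟩ h
    have h' : a.1 * b.1 = a'.1 * b'.1 := congrArg Subtype.val h
    have e : a'.1⁻¹ * a.1 = b'.1 * b.1⁻¹ := by
      have : a.1 = a'.1 * b'.1 * b.1⁻¹ := by rw [← h']; group
      rw [this]; group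
    have h1 : a'.1⁻¹ * a.1 = 1 :=
      hdisj _ (mul_mem (inv_mem a'.2) a.2) (e ▸ mul_mem b'.2 (inv_mem b.2))
    have h2 : b'.1 * b.1⁻¹ = 1 := e ▸ h1
    have ha : a = a' := Subtype.ext (inv_mul_eq_one.mp h1).symm
    have hb : b = b' := Subtype.ext (mul_inv_eq_one.mp h2).symm
    rw [ha, hb]
  have hge := Nat.card_le_card_of_injective m hm
  rw [Nat.card_prod, Nat.card_zpowers, Nat.card_zpowers, hn, hordψ] at hge
  have h4 : (4 : ℕ) ^ n = 2 ^ n * 2 ^ n := by rw [← mul_pow]; norm_num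
  have hcl_le := Subgroup.card_le_card_group (Subgroup.closure {x, ψ x})
  have htop : Subgroup.closure {x, ψ x} = ⊤ :=
    Subgroup.eq_top_of_le_card _ (by omega)
  have hcard : Nat.card T = 2 ^ n * 2 ^ n := by omega
  obtain ⟨e⟩ := Cfsg.Agent.H11.Meta2.ab_iso hc htop (N := 2 ^ n) (by positivity) hcard
    (hexp x) (hexp (ψ x))
  exact ⟨n, hn1, ⟨e.trans (MulEquiv.prodMultiplicative (G := ZMod (2 ^ n))
    (H := ZMod (2 ^ n))).symm⟩⟩

end Cfsg.Agent.H76.Homo
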