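import Mathlib
import Cfsg.Agent.H60.SuzSU
import Cfsg.Agent.H60.Sp5Par

/-!
# helper76: recognition of the Sylow 2-subgroup of `PSU_3(4)` by generators and relations

`Rel z w x u y v` records a group of order 64 with central involutions `z ≠ w` and four
elements with prescribed squares and commutators.  Two such groups are isomorphic (`Rel.iso`),
the model `Par F 2` of helper60 carries such a system (`model`), hence every such group is
isomorphic to a Sylow 2-subgroup of `PSU_3(4)` (`iso_sylow`).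
-/

set_option autoImplicit false

namespace Cfsg.Agent.H76.U34Rec

open scoped commutatorElement

open Cfsg.Agent.H60

/-- the defining relations -/
structure Rel {T : Type*} [Group T] (z w x u y v : T) : Prop where
  card : Nat.card T = 64
  hz : z ∈ Subgroup.center T
  hw : w ∈ Subgroup.center T
  z1 : z ≠ 1
  w1 : w ≠ 1
  zw : z ≠ w
  zz : z * z = 1
  ww : w * w = 1
  xx : x * x = z
  uu : u * u = w
  yy : y * y = z
  vv : v * v = w
  ux : ⁅u, x⁆ = 1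
  yx : ⁅y, x⁆ = w
  yu : ⁅y, u⁆ = z
  vx : ⁅v, x⁆ = z
  vu : ⁅v, u⁆ = z * w
  vy : ⁅v, y⁆ = 1

section gen

variable {T : Type*} [Group T]

theorem card_double [Finite T] (B : Subgroup T) (a : T) (ha : a ∉ B) :
    2 * Nat.card ↥B ≤ Nat.card ↥(B ⊔ Subgroup.zpowers a) := by
  have hle : B ≤ B ⊔ Subgroup.zpowers a := le_sup_left
  have hdvd := Subgroup.card_dvd_of_le hle
  have hne : Nat.card ↥(B ⊔ Subgroup.zpowers a) ≠ Nat.card ↥B := by
    intro e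
    have h1 := Subgroup.eq_of_le_of_card_ge hle (le_of_eq e)
    exact ha (h1 ▸ Subgroup.mem_sup_right (Subgroup.mem_zpowers a))
  obtain ⟨k, hk⟩ := hdvd
  have hpos : 0 < Nat.card ↥(B ⊔ Subgroup.zpowers a) := Nat.card_pos
  have hk2 : 2 ≤ k := by
    by_contra hlt
    have h01 : k = 0 ∨ k = 1 := by omega
    rcases h01 with rfl | rfl
    · rw [mul_zero] at hk; omega
    · rw [mul_one] at hk; exact hne hk
  calc 2 * Nat.card ↥B = Nat.card ↥B * 2 := by ring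
    _ ≤ Nat.card ↥B * k := Nat.mul_le_mul_left _ hk2
    _ = _ := hk.symm

theorem mem_zpowers_invol {a g : T} (ha : a * a = 1) (hg : g ∈ Subgroup.zpowers a) :
    g = 1 ∨ g = a := by
  obtain ⟨k, rfl⟩ := Subgroup.mem_zpowers_iff.mp hg
  have h2 : a ^ (2 : ℕ) = 1 := by rw [pow_two]; exact ha
  have hk := zpow_eq_zpow_emod' k h2
  rcases Int.emod_two_eq_zero_or_one k with h | h
  · left
    rw [hk]
    have : k % ((2 : ℕ) : ℤ) = 0 := by exact_mod_cast h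
    rw [this, zpow_zero]
  · right
    rw [hk]
    have : k % ((2 : ℕ) : ℤ) = 1 := by exact_mod_cast h
    rw [this, zpow_one]

theorem Rel.gen [Finite T] {z w x u y v : T} (h : Rel z w x u y v) (B : Subgroup T)
    (hzB : z ∈ B) (hwB : w ∈ B) (hxB : x ∈ B) (huB : u ∈ B) (hyB : y ∈ B) (hvB : v ∈ B) :
    B = ⊤ := by
  have c₁ := card_double ⊥ z (by rw [Subgroup.mem_bot]; exact h.z1)
  have hB₁le : (⊥ ⊔ Subgroup.zpowers z : Subgroup T) ≤ Subgroup.zpowers z := sup_le bot_le le_rfl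
  have c₂ := card_double (⊥ ⊔ Subgroup.zpowers z) w (fun hw => by
    rcases mem_zpowers_invol h.zz (hB₁le hw) with e | e
    · exact h.w1 e
    · exact h.zw e.symm)
  have hB₂le : (⊥ ⊔ Subgroup.zpowers z ⊔ Subgroup.zpowers w : Subgroup T) ≤ Subgroup.center T :=
    sup_le (sup_le bot_le (Subgroup.zpowers_le.mpr h.hz)) (Subgroup.zpowers_le.mpr h.hw)
  have hxc : x ∉ Subgroup.center T := by
    intro hx
    have e : ⁅y, x⁆ = 1 := cc_central_right y x hx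
    rw [h.yx] at e
    exact h.w1 e
  have c₃ := card_double (⊥ ⊔ Subgroup.zpowers z ⊔ Subgroup.zpowers w) x
    (fun hx => hxc (hB₂le hx))
  have hD : Subgroup.zpowers w ≤ Subgroup.center T := Subgroup.zpowers_le.mpr h.hw
  have hzD : z ∉ Subgroup.zpowers w := fun hz => by
    rcases mem_zpowers_invol h.ww hz with e | e
    · exact h.z1 e
    · exact h.zw e
  have hB₃le : (⊥ ⊔ Subgroup.zpowers z ⊔ Subgroup.zpowers w ⊔ Subgroup.zpowers x : Subgroup T)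
      ≤ cdSub (Subgroup.zpowers w) hD y := by
    refine sup_le (sup_le (sup_le bot_le ?_) ?_) ?_ <;> rw [Subgroup.zpowers_le, mem_cdSub]
    · rw [cc_central_right y z h.hz]; exact one_mem _
    · rw [cc_central_right y w h.hw]; exact one_mem _
    · rw [h.yx]; exact Subgroup.mem_zpowers w
  have c₄ := card_double (⊥ ⊔ Subgroup.zpowers z ⊔ Subgroup.zpowers w ⊔ Subgroup.zpowers x) u
    (fun hu => by
      have h1 := hB₃le hu
      rw [mem_cdSub, h.yu] at h1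
      exact hzD h1)
  have hbot : (⊥ : Subgroup T) ≤ Subgroup.center T := bot_le
  have hxu : ⁅x, u⁆ = 1 := by rw [← commutatorElement_inv, h.ux, inv_one]
  have hxy : ⁅x, y⁆ = w⁻¹ := by rw [← commutatorElement_inv, h.yx]
  have hxv : ⁅x, v⁆ = z⁻¹ := by rw [← commutatorElement_inv, h.vx]
  have hB₄le : (⊥ ⊔ Subgroup.zpowers z ⊔ Subgroup.zpowers w ⊔ Subgroup.zpowers x
      ⊔ Subgroup.zpowers u : Subgroup T) ≤ cdSub ⊥ hbot x := by
    refine sup_le (sup_le (sup_le (sup_le bot_le ?_) ?_) ?_) ?_ <;>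
      rw [Subgroup.zpowers_le, mem_cdSub, Subgroup.mem_bot]
    · exact cc_central_right x z h.hz
    · exact cc_central_right x w h.hw
    · exact commutatorElement_self x
    · exact hxu
  have c₅ := card_double (⊥ ⊔ Subgroup.zpowers z ⊔ Subgroup.zpowers w ⊔ Subgroup.zpowers x
      ⊔ Subgroup.zpowers u) y (fun hy => by
      have h1 := hB₄le hy
      rw [mem_cdSub, Subgroup.mem_bot, hxy, inv_eq_one] at h1
      exact h.w1 h1)
  have hB₅le : (⊥ ⊔ Subgroup.zpowers z ⊔ Subgroup.zpowers w ⊔ Subgroup.zpowers x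
      ⊔ Subgroup.zpowers u ⊔ Subgroup.zpowers y : Subgroup T)
      ≤ cdSub (Subgroup.zpowers w) hD x := by
    refine sup_le (sup_le (sup_le (sup_le (sup_le bot_le ?_) ?_) ?_) ?_) ?_ <;>
      rw [Subgroup.zpowers_le, mem_cdSub]
    · rw [cc_central_right x z h.hz]; exact one_mem _
    · rw [cc_central_right x w h.hw]; exact one_mem _
    · rw [commutatorElement_self]; exact one_mem _
    · rw [hxu]; exact one_mem _
    · rw [hxy]; exact inv_mem (Subgroup.mem_zpowers w)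
  have c₆ := card_double (⊥ ⊔ Subgroup.zpowers z ⊔ Subgroup.zpowers w ⊔ Subgroup.zpowers x
      ⊔ Subgroup.zpowers u ⊔ Subgroup.zpowers y) v (fun hv => by
      have h1 := hB₅le hv
      rw [mem_cdSub, hxv] at h1
      have h2 := inv_mem h1
      rw [inv_inv] at h2
      exact hzD h2)
  have hcard : Nat.card ↥(⊥ : Subgroup T) = 1 := Subgroup.card_bot
  have hle : (⊥ ⊔ Subgroup.zpowers z ⊔ Subgroup.zpowers w ⊔ Subgroup.zpowers x
      ⊔ Subgroup.zpowers u ⊔ Subgroup.zpowers y ⊔ Subgroup.zpowers v : Subgroup T) ≤ B :=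
    sup_le (sup_le (sup_le (sup_le (sup_le (sup_le bot_le (Subgroup.zpowers_le.mpr hzB))
      (Subgroup.zpowers_le.mpr hwB)) (Subgroup.zpowers_le.mpr hxB)) (Subgroup.zpowers_le.mpr huB))
      (Subgroup.zpowers_le.mpr hyB)) (Subgroup.zpowers_le.mpr hvB)
  have htop : (⊥ ⊔ Subgroup.zpowers z ⊔ Subgroup.zpowers w ⊔ Subgroup.zpowers x
      ⊔ Subgroup.zpowers u ⊔ Subgroup.zpowers y ⊔ Subgroup.zpowers v : Subgroup T) = ⊤ :=
    Subgroup.eq_top_of_le_card _ (by rw [h.card]; omega)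
  rw [htop] at hle
  exact top_le_iff.mp hle

theorem Rel.finite {z w x u y v : T} (h : Rel z w x u y v) : Finite T :=
  Nat.finite_of_card_ne_zero (by rw [h.card]; norm_num)

end gen

/-- two groups with such a system of generators are isomorphic -/
theorem Rel.iso {T₁ T₂ : Type*} [Group T₁] [Group T₂] {z₁ w₁ x₁ u₁ y₁ v₁ : T₁}
    {z₂ w₂ x₂ u₂ y₂ v₂ : T₂} (h₁ : Rel z₁ w₁ x₁ u₁ y₁ v₁) (h₂ : Rel z₂ w₂ x₂ u₂ y₂ v₂) :
    Nonempty (T₁ ≃* T₂) := by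
  have := h₁.finite
  have := h₂.finite
  set e₁ : T₁ × T₂ := (z₁, z₂) with he₁
  set e₂ : T₁ × T₂ := (w₁, w₂) with he₂
  have he₁c : e₁ ∈ Subgroup.center (T₁ × T₂) := prod_mem_center h₁.hz h₂.hz
  have he₂c : e₂ ∈ Subgroup.center (T₁ × T₂) := prod_mem_center h₁.hw h₂.hw
  have he₁s : e₁ * e₁ = 1 := Prod.ext h₁.zz h₂.zz
  have he₂s : e₂ * e₂ = 1 := Prod.ext h₁.ww h₂.ww
  set D : Subgroup (T₁ × T₂) := ⊥ ⊔ Subgroup.zpowers e₁ ⊔ Subgroup.zpowers e₂ with hDdef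
  have hD : D ≤ Subgroup.center (T₁ × T₂) :=
    sup_le (sup_le bot_le (Subgroup.zpowers_le.mpr he₁c)) (Subgroup.zpowers_le.mpr he₂c)
  have hcD : Nat.card ↥D ≤ 4 := card_chain2 e₁ e₂ he₁s he₂s (cc_central_left e₂ e₁ he₂c)
  have he₁D : e₁ ∈ D := Subgroup.mem_sup_left (Subgroup.mem_sup_right (Subgroup.mem_zpowers e₁))
  have he₂D : e₂ ∈ D := Subgroup.mem_sup_right (Subgroup.mem_zpowers e₂)
  have he₁₂D : e₁ * e₂ ∈ D := D.mul_mem he₁D he₂D
  set g₀ : T₁ × T₂ := (x₁, x₂) with hg₀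
  set g₁ : T₁ × T₂ := (u₁, u₂) with hg₁
  set g₂ : T₁ × T₂ := (y₁, y₂) with hg₂
  set g₃ : T₁ × T₂ := (v₁, v₂) with hg₃
  have s₀ : g₀ * g₀ = e₁ := Prod.ext h₁.xx h₂.xx
  have s₁ : g₁ * g₁ = e₂ := Prod.ext h₁.uu h₂.uu
  have s₂ : g₂ * g₂ = e₁ := Prod.ext h₁.yy h₂.yy
  have s₃ : g₃ * g₃ = e₂ := Prod.ext h₁.vv h₂.vv
  have k₁₀ : ⁅g₁, g₀⁆ = 1 := Prod.ext h₁.ux h₂.ux
  have k₂₀ : ⁅g₂, g₀⁆ = e₂ := Prod.ext h₁.yx h₂.yx
  have k₂₁ : ⁅g₂, g₁⁆ = e₁ := Prod.ext h₁.yu h₂.yu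
  have k₃₀ : ⁅g₃, g₀⁆ = e₁ := Prod.ext h₁.vx h₂.vx
  have k₃₁ : ⁅g₃, g₁⁆ = e₁ * e₂ := Prod.ext h₁.vu h₂.vu
  have k₃₂ : ⁅g₃, g₂⁆ = 1 := Prod.ext h₁.vy h₂.vy
  set B : Subgroup (T₁ × T₂) := D ⊔ Subgroup.zpowers g₀ ⊔ Subgroup.zpowers g₁
    ⊔ Subgroup.zpowers g₂ ⊔ Subgroup.zpowers g₃ with hBdef
  have hcB : Nat.card ↥B ≤ 64 := by
    have h16 : Nat.card ↥B ≤ 16 * Nat.card ↥D :=
      card_chain4 D hD g₀ g₁ g₂ g₃ (s₀ ▸ he₁D) (s₁ ▸ he₂D) (s₂ ▸ he₁D)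
        (s₃ ▸ he₂D) (k₁₀ ▸ D.one_mem) (k₂₀ ▸ he₂D) (k₂₁ ▸ he₁D) (k₃₀ ▸ he₁D)
        (k₃₁ ▸ he₁₂D) (k₃₂ ▸ D.one_mem)
    omega
  have hDB : D ≤ B := le_sup_left.trans (le_sup_left.trans (le_sup_left.trans le_sup_left))
  have hg₀B : g₀ ∈ B :=
    Subgroup.mem_sup_left (Subgroup.mem_sup_left (Subgroup.mem_sup_left
      (Subgroup.mem_sup_right (Subgroup.mem_zpowers g₀))))
  have hg₁B : g₁ ∈ B :=
    Subgroup.mem_sup_left (Subgroup.mem_sup_left (Subgroup.mem_sup_right (Subgroup.mem_zpowers g₁)))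
  have hg₂B : g₂ ∈ B :=
    Subgroup.mem_sup_left (Subgroup.mem_sup_right (Subgroup.mem_zpowers g₂))
  have hg₃B : g₃ ∈ B := Subgroup.mem_sup_right (Subgroup.mem_zpowers g₃)
  have hp₁ : B.map (MonoidHom.fst T₁ T₂) = ⊤ :=
    h₁.gen _ ⟨e₁, hDB he₁D, rfl⟩ ⟨e₂, hDB he₂D, rfl⟩ ⟨g₀, hg₀B, rfl⟩ ⟨g₁, hg₁B, rfl⟩
      ⟨g₂, hg₂B, rfl⟩ ⟨g₃, hg₃B, rfl⟩
  have hp₂ : B.map (MonoidHom.snd T₁ T₂) = ⊤ :=
    h₂.gen _ ⟨e₁, hDB he₁D, rfl⟩ ⟨e₂, hDB he₂D, rfl⟩ ⟨g₀, hg₀B, rfl⟩ ⟨g₁, hg₁B, rfl⟩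
      ⟨g₂, hg₂B, rfl⟩ ⟨g₃, hg₃B, rfl⟩
  let p₁ : ↥B →* T₁ := (MonoidHom.fst T₁ T₂).comp B.subtype
  let p₂ : ↥B →* T₂ := (MonoidHom.snd T₁ T₂).comp B.subtype
  have hs₁ : Function.Surjective p₁ := by
    intro y
    have hy : y ∈ B.map (MonoidHom.fst T₁ T₂) := hp₁ ▸ Subgroup.mem_top y
    obtain ⟨b, hb, rfl⟩ := hy
    exact ⟨⟨b, hb⟩, rfl⟩
  have hs₂ : Function.Surjective p₂ := by
    intro y
    have hy : y ∈ B.map (MonoidHom.snd T₁ T₂) := hp₂ ▸ Subgroup.mem_top y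
    obtain ⟨b, hb, rfl⟩ := hy
    exact ⟨⟨b, hb⟩, rfl⟩
  have hb₁ : Function.Bijective p₁ :=
    hs₁.bijective_of_nat_card_le (by rw [h₁.card]; exact hcB)
  have hb₂ : Function.Bijective p₂ :=
    hs₂.bijective_of_nat_card_le (by rw [h₂.card]; exact hcB)
  exact ⟨(MulEquiv.ofBijective p₁ hb₁).symm.trans (MulEquiv.ofBijective p₂ hb₂)⟩

section model

variable {F : Type*} [Field F] [Fintype F] [hS : SuzFin F 2]

theorem exists_fifth : ∃ t : F, 1 + t + t ^ 2 + t ^ 3 + t ^ 4 = 0 := by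
  classical
  have : Fact (Nat.Prime 5) := ⟨by norm_num⟩
  have hcard : Nat.card Fˣ = 15 := by
    rw [Nat.card_eq_fintype_card, Fintype.card_units, hS.card]
    norm_num
  obtain ⟨u, hu⟩ := exists_prime_orderOf_dvd_card' (G := Fˣ) 5 (by rw [hcard]; norm_num)
  refine ⟨(u : F), ?_⟩
  have h5 : (u : F) ^ 5 = 1 := by
    have h5' : u ^ 5 = 1 := by rw [← hu]; exact pow_orderOf_eq_one u
    have := congrArg (fun v : Fˣ => (v : F)) h5'
    simpa using this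
  have h1 : (u : F) ≠ 1 := by
    intro h
    have h1' : u = 1 := Units.ext h
    rw [h1', orderOf_one] at hu
    norm_num at hu
  have hmul : ((u : F) - 1) * (1 + (u : F) + (u : F) ^ 2 + (u : F) ^ 3 + (u : F) ^ 4) = 0 := by
    linear_combination h5
  exact (mul_eq_zero.mp hmul).resolve_left (sub_ne_zero.mpr h1)

theorem model (t : F) (hcyc : 1 + t + t ^ 2 + t ^ 3 + t ^ 4 = 0) :
    Rel (T := Par F 2) (Par.lift 1 * Par.lift 1)
      (Par.lift (1 + t + t ^ 4) * Par.lift (1 + t + t ^ 4))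
      (Par.lift 1) (Par.lift (1 + t + t ^ 4)) (Par.lift t) (Par.lift ((1 + t + t ^ 4) * t)) := by
  have h2 := suz_two F 2
  have I2 : (1 + t + t ^ 4) ^ 5 = t + t ^ 4 := by
    linear_combination ((-3) + (7) * t + (10) * t ^ 2 + (-5) * t ^ 4 + (9) * t ^ 5 + (16) * t ^ 6 + (-5) * t ^ 8 + (10) * t ^ 9 + (9) * t ^ 10 + (-4) * t ^ 11 + (5) * t ^ 13 + (-1) * t ^ 15 + (1) * t ^ 16) * hcyc + ((2) + (-2) * t ^ 2 + (-2) * t ^ 3) * h2
  have Is : (t + t ^ 4) ^ 2 + (t + t ^ 4) + 1 = 0 := by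
    linear_combination ((-1) + (2) * t + (-1) * t ^ 3 + (1) * t ^ 4) * hcyc + ((1)) * h2
  refine ⟨?_, ?_, ?_, ?_, ?_, ?_, ?_, ?_, rfl, rfl, ?_, ?_, ?_, ?_, ?_, ?_, ?_, ?_⟩
  · rw [Par.card_eq]; norm_num
  · rw [Par.mem_center_iff]; exact Par.mul_self_a _
  · rw [Par.mem_center_iff]; exact Par.mul_self_a _
  · intro e
    have hb := congrArg Par.b e
    rw [Par.mul_self_b, Par.one_b, Par.lift_a, one_pow] at hb
    exact one_ne_zero hb
  · intro e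
    have hb := congrArg Par.b e
    rw [Par.mul_self_b, Par.one_b, Par.lift_a] at hb
    have hb' : (1 + t + t ^ 4) ^ 5 = 0 := hb
    have hs0 : t + t ^ 4 = 0 := by rw [← I2]; exact hb'
    have : (1 : F) = 0 := by linear_combination Is - (t + t ^ 4 + 1) * hs0
    exact one_ne_zero this
  · intro e
    have hb := congrArg Par.b e
    rw [Par.mul_self_b, Par.mul_self_b, Par.lift_a, Par.lift_a, one_pow] at hb
    have hb' : (1 : F) = (1 + t + t ^ 4) ^ 5 := hb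
    have hs1 : t + t ^ 4 = 1 := by rw [← I2]; exact hb'.symm
    have : (1 : F) = 0 := by linear_combination Is - (t + t ^ 4 + 2) * hs1 - h2
    exact one_ne_zero this
  · rw [Par.mul_self_eq_one_iff]; exact Par.mul_self_a _
  · rw [Par.mul_self_eq_one_iff]; exact Par.mul_self_a _
  · apply Par.ext
    · rw [Par.mul_self_a, Par.mul_self_a]
    · rw [Par.mul_self_b, Par.mul_self_b, Par.lift_a, Par.lift_a]
      linear_combination ((-1) + (1) * t) * hcyc + (0) * h2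
  · apply Par.ext
    · rw [Par.mul_self_a, Par.mul_self_a]
    · rw [Par.mul_self_b, Par.mul_self_b, Par.lift_a, Par.lift_a]
      linear_combination ((-1) + (-4) * t + (-5) * t ^ 2 + (-11) * t ^ 5 + (-9) * t ^ 6 + (10) * t ^ 7 + (5) * t ^ 8 + (-15) * t ^ 9 + (20) * t ^ 11 + (-10) * t ^ 13 + (10) * t ^ 14 + (10) * t ^ 15 + (-5) * t ^ 16 + (5) * t ^ 18 + (-1) * t ^ 20 + (1) * t ^ 21) * hcyc + (0) * h2
  · apply Par.ext
    · rw [Par.commutator_a, Par.one_a]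
    · rw [Par.commutator_b, Par.one_b, Par.lift_a, Par.lift_a]
      linear_combination ((5) * t + (5) * t ^ 2 + (-2) * t ^ 3 + (-2) * t ^ 4 + (6) * t ^ 5 + (5) * t ^ 6 + (-3) * t ^ 7 + (4) * t ^ 9 + (-1) * t ^ 11 + (1) * t ^ 12) * hcyc + ((1) + (-2) * t ^ 2 + (-2) * t ^ 3) * h2
  · apply Par.ext
    · rw [Par.commutator_a, Par.mul_self_a]
    · rw [Par.commutator_b, Par.mul_self_b, Par.lift_a, Par.lift_a, Par.lift_a]
      linear_combination ((3) + (-7) * t + (-10) * t ^ 2 + (5) * t ^ 4 + (-9) * t ^ 5 + (-16) * t ^ 6 + (5) * t ^ 8 + (-10) * t ^ 9 + (-9) * t ^ 10 + (4) * t ^ 11 + (-5) * t ^ 13 + (1) * t ^ 15 + (-1) * t ^ 16) * hcyc + ((-2) + (2) * t ^ 2 + (2) * t ^ 3) * h2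
  · apply Par.ext
    · rw [Par.commutator_a, Par.mul_self_a]
    · rw [Par.commutator_b, Par.mul_self_b, Par.lift_a, Par.lift_a, Par.lift_a]
      linear_combination ((-3) + (5) * t ^ 2 + (4) * t ^ 3 + (-1) * t ^ 4 + (-2) * t ^ 5 + (6) * t ^ 6 + (5) * t ^ 7 + (-3) * t ^ 8 + (4) * t ^ 10 + (-1) * t ^ 12 + (1) * t ^ 13) * hcyc + ((1) + (2) * t + (1) * t ^ 2) * h2
  · apply Par.ext
    · rw [Par.commutator_a, Par.mul_self_a]
    · rw [Par.commutator_b, Par.mul_self_b, Par.lift_a, Par.lift_a]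
      linear_combination ((1) + (4) * t + (-3) * t ^ 3 + (-1) * t ^ 4 + (5) * t ^ 5 + (5) * t ^ 6 + (-2) * t ^ 7 + (-2) * t ^ 8 + (6) * t ^ 9 + (5) * t ^ 10 + (-3) * t ^ 11 + (4) * t ^ 13 + (-1) * t ^ 15 + (1) * t ^ 16) * hcyc + ((-1) + (-2) * t + (-2) * t ^ 2 + (-1) * t ^ 3) * h2
  · apply Par.ext
    · rw [Par.commutator_a, Par.mul_a, Par.mul_self_a, Par.mul_self_a, add_zero]
    · rw [Par.commutator_b, Par.mul_b, Par.mul_self_b, Par.mul_self_b, Par.mul_self_a,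
        Par.mul_self_a, Par.lift_a, Par.lift_a, Par.lift_a]
      linear_combination ((-4) * t + (-3) * t ^ 2 + (5) * t ^ 3 + (3) * t ^ 4 + (-7) * t ^ 5 + (3) * t ^ 6 + (16) * t ^ 7 + (-6) * t ^ 9 + (17) * t ^ 10 + (13) * t ^ 11 + (-9) * t ^ 12 + (5) * t ^ 13 + (14) * t ^ 14 + (-3) * t ^ 15 + (-2) * t ^ 16 + (6) * t ^ 17 + (-1) * t ^ 19 + (1) * t ^ 20) * hcyc + ((-1) + (1) * t ^ 2 + (1) * t ^ 3) * h2
  · apply Par.ext
    · rw [Par.commutator_a, Par.one_a]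
    · rw [Par.commutator_b, Par.one_b, Par.lift_a, Par.lift_a]
      linear_combination ((-2) + (2) * t + (4) * t ^ 2 + (-4) * t ^ 4 + (5) * t ^ 6 + (5) * t ^ 7 + (-2) * t ^ 8 + (-2) * t ^ 9 + (6) * t ^ 10 + (5) * t ^ 11 + (-3) * t ^ 12 + (4) * t ^ 14 + (-1) * t ^ 16 + (1) * t ^ 17) * hcyc + ((1) + (-2) * t ^ 2 + (-2) * t ^ 3) * h2

end model

/-- a group with such a system of generators is a Sylow 2-subgroup of `PSU_3(4)` -/
theorem iso_sylow {T : Type*} [Group T] {z w x u y v : T} (h : Rel z w x u y v)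
    {F : Type*} [Field F] [Fintype F] (hF : Fintype.card F = 16)
    (P : Sylow 2 (Cfsg.PSU 3 F 4)) :
    Nonempty (T ≃* ↥(P : Subgroup (Cfsg.PSU 3 F 4))) := by
  have hS2 : SuzFin F 2 := ⟨hF.trans (by norm_num), by norm_num⟩
  obtain ⟨t, ht⟩ := exists_fifth (F := F)
  obtain ⟨e₁⟩ := h.iso (model t ht)
  obtain ⟨e₂⟩ := sylow_psu_iso (F := F) (n := 2) P
  exact ⟨e₁.trans e₂⟩

end Cfsg.Agent.H76.U34Rec
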