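import Mathlib
import Cfsg.Prelude.Def_CaseTheorems
import Cfsg.Prelude.Def_Classical
import Cfsg.Agent.H76.CubeOne
import Cfsg.Agent.H76.Homo
import Cfsg.Agent.H76.U34Rec
import Cfsg.Agent.H60.Fpf3

/-!
# helper76: 2-groups of 2-rank two with an automorphism transitive on the involutions

Such a group is homocyclic of rank two or a Sylow 2-subgroup of `PSU_3(4)` (`main`).
-/

set_option autoImplicit false

namespace Cfsg.Agent.H76.RankTwoTrans

open scoped commutatorElement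

open Cfsg.Agent.H14.Suz Cfsg.Agent.H60 Cfsg.Agent.H76.CubeOne

universe u

section counting

variable {α : Type*} [Finite α]

theorem four_all (h : Nat.card α ≤ 4) {a b c d : α} (hab : a ≠ b) (hac : a ≠ c) (had : a ≠ d)
    (hbc : b ≠ c) (hbd : b ≠ d) (hcd : c ≠ d) (x : α) : x = a ∨ x = b ∨ x = c ∨ x = d := by
  classical
  let _ : Fintype α := Fintype.ofFinite α
  have hs : ({a, b, c, d} : Finset α) = Finset.univ := by
    apply Finset.eq_univ_of_card
    have h1 := Finset.card_le_univ ({a, b, c, d} : Finset α)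
    rw [four_card hab hac had hbc hbd hcd] at h1 ⊢
    rw [Nat.card_eq_fintype_card] at h
    omega
  have hx : x ∈ ({a, b, c, d} : Finset α) := hs ▸ Finset.mem_univ x
  simpa using hx

theorem exists_ne_three (h : 4 ≤ Nat.card α) (a b c : α) : ∃ x, x ≠ a ∧ x ≠ b ∧ x ≠ c := by
  classical
  let _ : Fintype α := Fintype.ofFinite α
  by_contra hcon
  push Not at hcon
  have hs : (Finset.univ : Finset α) ⊆ {a, b, c} := by
    intro x _
    by_cases h1 : x = a
    · simp [h1]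
    · by_cases h2 : x = b
      · simp [h2]
      · simp [hcon x h1 h2]
  have h3 := Finset.card_le_card hs
  have h4 := Finset.card_le_three (a := a) (b := b) (c := c)
  rw [Finset.card_univ, ← Nat.card_eq_fintype_card] at h3
  omega

end counting

/-- involutions are central, there are three of them, and a suitable power `ψ` of `φ` of
3-power order moves each of them while `ψ ^ 3` fixes them -/
theorem basic {T : Type u} [Group T] [Finite T] (hT : IsPGroup 2 T) (h2 : Cfsg.PRankLE 2 2 T)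
    (h1 : ¬ Cfsg.PRankLE 2 1 T) (φ : MulAut T)
    (htrans : ∀ s t : T, orderOf s = 2 → orderOf t = 2 → ∃ k : ℕ, (φ ^ k) s = t) :
    (∀ x y : T, x * x = 1 → x * y = y * x) ∧ Nat.card {x : T // x * x = 1} = 4 ∧
    ∃ (ψ : MulAut T) (e : ℕ), ψ ^ (3 ^ e) = 1 ∧
      ∀ z : T, z ≠ 1 → z * z = 1 → ψ z ≠ z ∧ ψ (ψ (ψ z)) = z := by
  have hp2 : Fact (Nat.Prime 2) := ⟨Nat.prime_two⟩
  have hord : ∀ x : T, x ≠ 1 → x * x = 1 → orderOf x = 2 := fun x hx1 hx2 =>
    orderOf_eq_prime (by rw [pow_two]; exact hx2) hx1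
  unfold Cfsg.PRankLE at h1
  push Not at h1
  obtain ⟨A, hAc, hA2, hAcard⟩ := h1
  have hnt : Nontrivial T := by
    by_contra hcon
    rw [not_nontrivial_iff_subsingleton] at hcon
    have hA1 : Nat.card ↥A ≤ 1 := Finite.card_le_one_iff_subsingleton.mpr inferInstance
    omega
  obtain ⟨zc, hzc, hzc1, hzc2⟩ := exists_central_invol hT
  have hic : ∀ x y : T, x * x = 1 → x * y = y * x := by
    intro x y hx
    by_cases hx1 : x = 1
    · rw [hx1, one_mul, mul_one]
    · obtain ⟨k, hk⟩ := htrans zc x (hord zc hzc1 hzc2) (hord x hx1 hx)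
      have hxc : x ∈ Subgroup.center T := hk ▸ aut_mem_center (φ ^ k) hzc
      exact (Subgroup.mem_center_iff.mp hxc y).symm
  have hinvOm : ∀ x : T, x * x = 1 → x ∈ Om T := fun x hx =>
    ⟨Subgroup.mem_center_iff.mpr (fun g => (hic x g hx).symm), hx⟩
  have hOmle : Nat.card ↥(Om T) ≤ 4 := by
    have h := h2 (Om T) (IsMulCommutative.of_comm (fun a b => Subtype.ext (hic a.1 b.1 a.2.2)))
      (fun a ha => by rw [pow_two]; exact ha.2)
    norm_num at h
    exact h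
  have hAle : A ≤ Om T := fun a ha => hinvOm a (by rw [← pow_two]; exact hA2 a ha)
  have hOmgt : 2 < Nat.card ↥(Om T) :=
    lt_of_lt_of_le (by simpa using hAcard) (Subgroup.card_le_of_le hAle)
  have hOm4 : Nat.card ↥(Om T) = 4 := by
    obtain ⟨k, hk⟩ := IsPGroup.iff_card.mp (hT.to_subgroup (Om T))
    rw [hk] at hOmgt hOmle ⊢
    have hk3 : k < 3 := by
      by_contra h
      have : 2 ^ 3 ≤ 2 ^ k := Nat.pow_le_pow_right (by norm_num) (by omega)
      omega
    interval_cases k <;> omega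
  have hcard4 : Nat.card {x : T // x * x = 1} = 4 := by
    rw [← hOm4]
    exact Nat.card_congr (Equiv.subtypeEquivRight (fun x => ⟨hinvOm x, fun h => h.2⟩))
  have hφinv : ∀ z : T, z ≠ 1 → z * z = 1 → φ z ≠ 1 ∧ φ z * φ z = 1 := by
    intro z hz1 hz2
    exact ⟨fun h => hz1 (φ.injective (h.trans (map_one _).symm)),
      by rw [← map_mul, hz2, map_one]⟩
  have key : ∀ z : T, z ≠ 1 → z * z = 1 → φ z ≠ z ∧ φ (φ z) ≠ z ∧ φ (φ (φ z)) = z := by
    intro z hz1 hz2
    have hφz := hφinv z hz1 hz2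
    have hφφz := hφinv (φ z) hφz.1 hφz.2
    have ha : φ z ≠ z := by
      intro hfix
      obtain ⟨w, hw1, hw2, -⟩ := exists_ne_three (α := {x : T // x * x = 1}) (by omega)
        ⟨1, one_mul 1⟩ ⟨z, hz2⟩ ⟨1, one_mul 1⟩
      have hw1' : w.1 ≠ 1 := fun h => hw1 (Subtype.ext h)
      have hw2' : w.1 ≠ z := fun h => hw2 (Subtype.ext h)
      obtain ⟨k, hk⟩ := htrans z w.1 (hord z hz1 hz2) (hord w.1 hw1' w.2)
      have hall : ∀ k : ℕ, (φ ^ k) z = z := by
        intro k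
        induction k with
        | zero => simp
        | succ k ih => rw [pow_succ, MulAut.mul_apply, hfix, ih]
      exact hw2' (hk.symm.trans (hall k))
    have hb : φ (φ z) ≠ z := by
      intro hfix
      obtain ⟨w, hw1, hw2, hw3⟩ := exists_ne_three (α := {x : T // x * x = 1}) (by omega)
        ⟨1, one_mul 1⟩ ⟨z, hz2⟩ ⟨φ z, hφz.2⟩
      have hw1' : w.1 ≠ 1 := fun h => hw1 (Subtype.ext h)
      have hw2' : w.1 ≠ z := fun h => hw2 (Subtype.ext h)
      have hw3' : w.1 ≠ φ z := fun h => hw3 (Subtype.ext h)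
      obtain ⟨k, hk⟩ := htrans z w.1 (hord z hz1 hz2) (hord w.1 hw1' w.2)
      have hall : ∀ k : ℕ, (φ ^ k) z = z ∨ (φ ^ k) z = φ z := by
        intro k
        induction k with
        | zero => left; simp
        | succ k ih =>
          rw [pow_succ', MulAut.mul_apply]
          rcases ih with h | h
          · right; rw [h]
          · left; rw [h, hfix]
      rcases hall k with h | h
      · exact hw2' (hk.symm.trans h)
      · exact hw3' (hk.symm.trans h)
    refine ⟨ha, hb, ?_⟩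
    have h12 : φ z ≠ φ (φ z) := fun h => ha (φ.injective h).symm
    have hfφ := hφinv (φ (φ z)) hφφz.1 hφφz.2
    have h4 := four_all (α := {x : T // x * x = 1}) (le_of_eq hcard4)
      (a := ⟨1, one_mul 1⟩) (b := ⟨z, hz2⟩) (c := ⟨φ z, hφz.2⟩) (d := ⟨φ (φ z), hφφz.2⟩)
      (fun h => hz1 (congrArg Subtype.val h).symm) (fun h => hφz.1 (congrArg Subtype.val h).symm)
      (fun h => hφφz.1 (congrArg Subtype.val h).symm) (fun h => ha (congrArg Subtype.val h).symm)
      (fun h => hb (congrArg Subtype.val h).symm) (fun h => h12 (congrArg Subtype.val h))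
      ⟨φ (φ (φ z)), hfφ.2⟩
    rcases h4 with h | h | h | h
    · exact absurd (congrArg Subtype.val h) hfφ.1
    · exact congrArg Subtype.val h
    · exfalso; exact hb (φ.injective (congrArg Subtype.val h))
    · exfalso; exact ha (φ.injective (φ.injective (congrArg Subtype.val h)))
  obtain ⟨e, m, hm, hom⟩ :=
    Nat.exists_eq_pow_mul_and_not_dvd (orderOf_pos φ).ne' 3 (by norm_num)
  have hφ3 : ∀ z : T, z ≠ 1 → z * z = 1 → (φ ^ 3) z = z := by
    intro z hz1 hz2
    have e3 : (φ ^ 3) z = φ (φ (φ z)) := by simp [pow_succ]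
    rw [e3]; exact (key z hz1 hz2).2.2
  have hL : ∀ (q r : ℕ) (z : T), z ≠ 1 → z * z = 1 → (φ ^ (3 * q + r)) z = (φ ^ r) z := by
    intro q r z hz1 hz2
    induction q with
    | zero => simp
    | succ q ih =>
      have e3 : 3 * (q + 1) + r = (3 * q + r) + 3 := by ring
      rw [e3, pow_add, MulAut.mul_apply, hφ3 z hz1 hz2, ih]
  refine ⟨hic, hcard4, φ ^ m, e, ?_, ?_⟩
  · rw [← pow_mul, mul_comm, ← hom]; exact pow_orderOf_eq_one φ
  · intro z hz1 hz2
    obtain ⟨ha, hb, hc⟩ := key z hz1 hz2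
    constructor
    · have hm3 : m % 3 = 1 ∨ m % 3 = 2 := by omega
      have hdecomp : (φ ^ m) z = (φ ^ (m % 3)) z := by
        have e3 : m = 3 * (m / 3) + m % 3 := (Nat.div_add_mod m 3).symm
        calc (φ ^ m) z = (φ ^ (3 * (m / 3) + m % 3)) z := by rw [← e3]
          _ = (φ ^ (m % 3)) z := hL _ _ z hz1 hz2
      rw [hdecomp]
      rcases hm3 with h | h
      · rw [h, pow_one]; exact ha
      · rw [h]
        have e2 : (φ ^ 2) z = φ (φ z) := by simp [pow_succ]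
        rw [e2]; exact hb
    · have e3 : (φ ^ m) ((φ ^ m) ((φ ^ m) z)) = (φ ^ (3 * m + 0)) z := by
        rw [add_zero, show 3 * m = m + m + m by ring, pow_add, pow_add]
        rfl
      rw [e3, hL _ _ z hz1 hz2]
      simp

/-- the defining relations from the structure of a group of order 64 with a fixed-point-free
automorphism of order three -/
theorem rel_of {T : Type*} [Group T] {ρ : MulAut T} (h : T64 ρ) (x y z : T) (hx : x * x = z)
    (hy : y * y = z) (hz1 : z ≠ 1) (ha : ⁅y, x⁆ = ρ z) :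
    U34Rec.Rel z (ρ z) x (ρ x) y (ρ y) := by
  have := h.finite
  have hz : z ∈ Subgroup.center T := hx ▸ h.sq x
  have hw : ρ z ∈ Subgroup.center T := rinv_center z hz
  refine ⟨h.card, hz, hw, hz1, ?_, ?_, h.zsq z hz, h.zsq _ hw, hx, ?_, hy, ?_, ?_, ha,
    ?_, ?_, ?_, ?_⟩
  · exact fun e => hz1 (ρ.injective (e.trans (map_one ρ).symm))
  · exact fun e => hz1 (h.fpf.fp z e.symm)
  · rw [← map_mul, hx]
  · rw [← map_mul, hy]
  · exact commutatorElement_eq_one_iff_mul_comm.mpr (h.fpf.comm x).symm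
  · rw [h.cc_rho y x, ha]; exact h.fpf.r3 z
  · rw [h.cc_rho_left y x, ha]; exact h.fpf.r3 z
  · rw [← map_commutatorElement, ha]; exact h.rr_c hz
  · exact commutatorElement_eq_one_iff_mul_comm.mpr (h.fpf.comm y).symm

/-- the nonabelian case -/
theorem nonab {T : Type u} [Group T] [Finite T] (hT : IsPGroup 2 T)
    (hic : ∀ x y : T, x * x = 1 → x * y = y * x) (hcard : Nat.card {x : T // x * x = 1} = 4)
    (ψ : MulAut T) (hψ3 : ∀ x : T, ψ (ψ (ψ x)) = x)
    (hψinv : ∀ z : T, z ≠ 1 → z * z = 1 → ψ z ≠ z)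
    (a b : T) (hab : a * b ≠ b * a) :
    ∃ z w x u y v : T, U34Rec.Rel z w x u y v := by
  have hp2 : Fact (Nat.Prime 2) := ⟨Nat.prime_two⟩
  have hfpf : Fpf3 ψ := ⟨hψ3, fun y hy => by
    by_contra hy1
    obtain ⟨j, hj1, hj2⟩ := exists_pow_invol hT y hy1
    exact hψinv _ hj1 hj2 (by rw [map_pow, hy])⟩
  have hinvOm : ∀ x : T, x * x = 1 → x ∈ Om T := fun x hx =>
    ⟨Subgroup.mem_center_iff.mpr (fun g => (hic x g hx).symm), hx⟩
  have ha1 : a ≠ 1 := fun h => hab (by rw [h, one_mul, mul_one])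
  obtain ⟨j, hj1, hj2⟩ := exists_pow_invol hT a ha1
  obtain ⟨z₀, hz₀⟩ : ∃ z₀ : T, z₀ = a ^ j := ⟨_, rfl⟩
  rw [← hz₀] at hj1 hj2
  have hdist : ∀ c : T, c ≠ 1 → c * c = 1 → c ≠ ψ c ∧ c ≠ ψ (ψ c) ∧ ψ c ≠ ψ (ψ c) ∧
      ψ c ≠ 1 ∧ ψ c * ψ c = 1 ∧ ψ (ψ c) ≠ 1 ∧ ψ (ψ c) * ψ (ψ c) = 1 := by
    intro c hc1 hc2
    have h01 : c ≠ ψ c := fun h => hψinv c hc1 hc2 h.symm
    have hψ1 : ψ c ≠ 1 := fun h => hc1 (ψ.injective (h.trans (map_one ψ).symm))
    have hψ2 : ψ c * ψ c = 1 := by rw [← map_mul, hc2, map_one]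
    refine ⟨h01, ?_, fun h => h01 (ψ.injective h), hψ1, hψ2,
      fun h => hψ1 (ψ.injective (h.trans (map_one ψ).symm)), by rw [← map_mul, hψ2, map_one]⟩
    intro h
    apply h01
    have h' : ψ c = ψ (ψ (ψ c)) := congrArg ψ h
    rw [hψ3] at h'
    exact h'.symm
  have hthree : ∀ c d : T, c ≠ 1 → c * c = 1 → d ≠ 1 → d * d = 1 →
      d = c ∨ d = ψ c ∨ d = ψ (ψ c) := by
    intro c d hc1 hc2 hd1 hd2
    obtain ⟨h01, h02, h12, hψ1, hψ2, hψψ1, hψψ2⟩ := hdist c hc1 hc2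
    have h4 := four_all (α := {x : T // x * x = 1}) (le_of_eq hcard)
      (a := ⟨1, one_mul 1⟩) (b := ⟨c, hc2⟩) (c := ⟨ψ c, hψ2⟩) (d := ⟨ψ (ψ c), hψψ2⟩)
      (fun h => hc1 (congrArg Subtype.val h).symm) (fun h => hψ1 (congrArg Subtype.val h).symm)
      (fun h => hψψ1 (congrArg Subtype.val h).symm) (fun h => h01 (congrArg Subtype.val h))
      (fun h => h02 (congrArg Subtype.val h)) (fun h => h12 (congrArg Subtype.val h)) ⟨d, hd2⟩
    rcases h4 with h | h | h | h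
    · exact absurd (congrArg Subtype.val h) hd1
    · exact Or.inl (congrArg Subtype.val h)
    · exact Or.inr (Or.inl (congrArg Subtype.val h))
    · exact Or.inr (Or.inr (congrArg Subtype.val h))
  have hψpow3 : ψ ^ 3 = 1 := by
    ext x
    have e3 : (ψ ^ 3) x = ψ (ψ (ψ x)) := by simp [pow_succ]
    rw [e3, hψ3]
    rfl
  have hKcases : ∀ k : Subgroup.zpowers ψ,
      (k : MulAut T) = 1 ∨ (k : MulAut T) = ψ ∨ (k : MulAut T) = ψ * ψ := by
    rintro ⟨k, hk⟩
    obtain ⟨i, rfl⟩ := Subgroup.mem_zpowers_iff.mp hk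
    have hi := zpow_eq_zpow_emod' i hψpow3
    have hlt : i % ((3 : ℕ) : ℤ) < 3 := Int.emod_lt_of_pos i (by norm_num)
    have hnn : 0 ≤ i % ((3 : ℕ) : ℤ) := Int.emod_nonneg i (by norm_num)
    show ψ ^ i = 1 ∨ ψ ^ i = ψ ∨ ψ ^ i = ψ * ψ
    rw [hi]
    obtain ⟨r, hr⟩ : ∃ r : ℕ, i % ((3 : ℕ) : ℤ) = r :=
      ⟨(i % ((3 : ℕ) : ℤ)).toNat, (Int.toNat_of_nonneg hnn).symm⟩
    rw [hr, zpow_natCast]
    have hr3 : r < 3 := by omega
    interval_cases r
    · left; simp
    · right; left; simp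
    · right; right; rw [pow_two]
  have hreg : Reg (Subgroup.zpowers ψ) := by
    intro x y hx1 hx2 hy1 hy2
    have hex : ∃ k : Subgroup.zpowers ψ, (k : MulAut T) x = y := by
      rcases hthree x y hx1 hx2 hy1 hy2 with h | h | h
      · exact ⟨1, by rw [h]; rfl⟩
      · exact ⟨⟨ψ, Subgroup.mem_zpowers ψ⟩, h.symm⟩
      · exact ⟨⟨ψ * ψ, mul_mem (Subgroup.mem_zpowers ψ) (Subgroup.mem_zpowers ψ)⟩, h.symm⟩
    obtain ⟨k₀, hk₀⟩ := hex
    refine ⟨k₀, hk₀, ?_⟩
    intro k hk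
    have hfix : ((k₀⁻¹ * k : Subgroup.zpowers ψ) : MulAut T) x = x := by
      show ((k₀ : MulAut T)⁻¹ * (k : MulAut T)) x = x
      rw [MulAut.mul_apply, hk, ← hk₀, MulAut.inv_apply_self]
    obtain ⟨h01, h02, -⟩ := hdist x hx1 hx2
    rcases hKcases (k₀⁻¹ * k) with h | h | h
    · have h1 : k₀⁻¹ * k = 1 := Subtype.ext h
      exact (inv_mul_eq_one.mp h1).symm
    · rw [h] at hfix; exact absurd hfix.symm h01
    · rw [h] at hfix; exact absurd hfix.symm h02
  have hinv : ∃ x y : T, x ≠ y ∧ x ≠ 1 ∧ x * x = 1 ∧ y ≠ 1 ∧ y * y = 1 := by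
    obtain ⟨h01, -, -, hψ1, hψ2, -⟩ := hdist z₀ hj1 hj2
    exact ⟨z₀, ψ z₀, h01, hj1, hj2, hψ1, hψ2⟩
  have hnonab : ∃ x y : T, x * y ≠ y * x := ⟨a, b, hab⟩
  have hpair : IsPair T := ⟨inferInstance, hT, hinv, Subgroup.zpowers ψ, inferInstance, hreg⟩
  have hcz := Cfsg.Agent.H14.Suz.center_sq hpair hnonab
  have hcenter : Subgroup.center T = Om T :=
    le_antisymm (fun z hz => ⟨hz, hcz z hz⟩) (Om_le_center T)
  have hOm4 : Nat.card ↥(Om T) = 4 := by
    rw [← hcard]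
    exact Nat.card_congr (Equiv.subtypeEquivRight (fun x => ⟨fun h => h.2, hinvOm x⟩))
  have hZ4 : Nat.card ↥(Subgroup.center T) = 4 := by rw [hcenter]; exact hOm4
  have hcardT := card_main hT (Subgroup.zpowers ψ) hreg hinv hnonab
  rw [hZ4] at hcardT
  have haZ : a ∉ Subgroup.center T := fun hz => hab (Subgroup.mem_center_iff.mp hz b).symm
  have hT64 : Nat.card T = 64 := by
    rcases hcardT with h16 | h64
    · exfalso
      have h16' : Nat.card T = 2 ^ 4 := by rw [h16]; norm_num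
      have hM : RInv ψ (Subgroup.closure {a, ψ a} ⊔ Subgroup.center T) :=
        rinv_sup (hfpf.rinv_pair a) rinv_center
      have hmod := hfpf.card_mod _ hM
      have hle : Subgroup.center T ≤ Subgroup.closure {a, ψ a} ⊔ Subgroup.center T :=
        le_sup_right
      have haM : a ∈ Subgroup.closure {a, ψ a} ⊔ Subgroup.center T :=
        Subgroup.mem_sup_left (Subgroup.subset_closure (Or.inl rfl))
      have hdvd1 := Subgroup.card_dvd_of_le hle
      have hdvd2 : Nat.card ↥(Subgroup.closure {a, ψ a} ⊔ Subgroup.center T) ∣ 2 ^ 4 := by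
        rw [← h16']
        exact Subgroup.card_subgroup_dvd_card _
      obtain ⟨i, hi, hi'⟩ := (Nat.dvd_prime_pow Nat.prime_two).mp hdvd2
      have hne : Nat.card ↥(Subgroup.closure {a, ψ a} ⊔ Subgroup.center T) ≠ 4 := by
        intro h4
        have e1 := Subgroup.eq_of_le_of_card_ge hle (by rw [h4, hZ4])
        exact haZ (e1 ▸ haM)
      rw [hZ4] at hdvd1
      rw [hi'] at hmod hdvd1 hne
      have htop : Subgroup.closure {a, ψ a} ⊔ Subgroup.center T = ⊤ := by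
        apply Subgroup.eq_top_of_card_eq
        rw [hi', h16']
        unfold Nat.ModEq at hmod
        interval_cases i <;> omega
      exact haZ (hfpf.central_of_top a _ (Subgroup.center_le_centralizer _) htop)
    · rw [h64]; norm_num
  have t64 : T64 ψ := T64.of_fpf hfpf hT64 a b hab
  have hz : a * a ∈ Subgroup.center T := t64.sq a
  have hz1 : a * a ≠ 1 := fun h => haZ (hinvOm a h).1
  have hz2 : (a * a) * (a * a) = 1 := t64.zsq _ hz
  have hBxψ : RInv ψ (Subgroup.closure {a, ψ a} ⊔ Subgroup.center T) :=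
    rinv_sup (hfpf.rinv_pair a) rinv_center
  have hBxne : Subgroup.closure {a, ψ a} ⊔ Subgroup.center T ≠ ⊤ := fun htop =>
    haZ (hfpf.central_of_top a _ (Subgroup.center_le_centralizer _) htop)
  have haBx : a ∈ Subgroup.closure {a, ψ a} ⊔ Subgroup.center T :=
    Subgroup.mem_sup_left (Subgroup.subset_closure (Or.inl rfl))
  have hZBx : Subgroup.center T ≤ Subgroup.closure {a, ψ a} ⊔ Subgroup.center T := le_sup_right
  obtain ⟨y₀, hy₀⟩ : ∃ y₀ : T, y₀ ∉ Subgroup.closure {a, ψ a} ⊔ Subgroup.center T := by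
    by_contra hcon
    push Not at hcon
    exact hBxne (eq_top_iff.mpr (fun g _ => hcon g))
  have hBxψ' : ∀ g : T, ψ g ∈ Subgroup.closure {a, ψ a} ⊔ Subgroup.center T →
      g ∈ Subgroup.closure {a, ψ a} ⊔ Subgroup.center T := by
    intro g hg
    have h1 := hBxψ _ (hBxψ _ hg)
    rwa [hψ3] at h1
  have hy₀sq : y₀ * y₀ ∈ Subgroup.center T := t64.sq y₀
  have hy₀1 : y₀ * y₀ ≠ 1 := fun h => hy₀ (hZBx (hinvOm y₀ h).1)
  have hy₀2 : (y₀ * y₀) * (y₀ * y₀) = 1 := t64.zsq _ hy₀sq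
  obtain ⟨y, hy, hyy⟩ : ∃ y : T, y ∉ Subgroup.closure {a, ψ a} ⊔ Subgroup.center T ∧
      y * y = a * a := by
    rcases hthree (a * a) (y₀ * y₀) hz1 hz2 hy₀1 hy₀2 with h | h | h
    · exact ⟨y₀, hy₀, h⟩
    · refine ⟨ψ (ψ y₀), fun hm => hy₀ (hBxψ' _ (hBxψ' _ hm)), ?_⟩
      rw [← map_mul, ← map_mul, h, hψ3]
    · refine ⟨ψ y₀, fun hm => hy₀ (hBxψ' _ hm), ?_⟩
      rw [← map_mul, h, hψ3]
  have hcomm : ∀ x y : T, ⁅x, y⁆ ∈ Om T := fun x y => hcenter ▸ t64.comm x y
  have hcx : ⁅y, a⁆ ∈ Subgroup.center T := t64.comm y a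
  have hc2 : ⁅y, a⁆ * ⁅y, a⁆ = 1 := t64.zsq _ hcx
  have hxy : ⁅a, y⁆ = ⁅y, a⁆ := by rw [← commutatorElement_inv, t64.inv_c hcx]
  have hc1 : ⁅y, a⁆ ≠ 1 := by
    intro h
    have hsq : (y * a) * (y * a) = 1 := by
      rw [mul_sq hcomm y a, hxy, h, hyy, hz2, one_mul]
    have hm := hZBx (hinvOm _ hsq).1
    have hyB := Subgroup.mul_mem _ hm (Subgroup.inv_mem _ haBx)
    rw [mul_inv_cancel_right] at hyB
    exact hy hyB
  have hcne : ⁅y, a⁆ ≠ a * a := by
    intro h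
    have hsq : (ψ y * a) * (ψ y * a) = 1 := by
      rw [mul_sq hcomm (ψ y) a, t64.cc_rho a y, hxy, h, ← map_mul, hyy]
      have htr := hfpf.tr (a * a)
      have hc1' := Subgroup.mem_center_iff.mp
        (rinv_center (ρ := ψ) _ (rinv_center (ρ := ψ) _ hz))
      have hc2' := Subgroup.mem_center_iff.mp hz
      calc ψ (ψ (a * a)) * (ψ (a * a) * (a * a))
          = (ψ (a * a) * (a * a)) * ψ (ψ (a * a)) := (hc1' _).symm
        _ = (a * a) * ψ (a * a) * ψ (ψ (a * a)) := by rw [hc2' (ψ (a * a))]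
        _ = 1 := htr
    have hm := hZBx (hinvOm _ hsq).1
    have hyB := Subgroup.mul_mem _ hm (Subgroup.inv_mem _ haBx)
    rw [mul_inv_cancel_right] at hyB
    exact hy (hBxψ' _ hyB)
  rcases hthree (a * a) ⁅y, a⁆ hz1 hz2 hc1 hc2 with h | h | h
  · exact absurd h hcne
  · exact ⟨_, _, _, _, _, _, rel_of t64 a y (a * a) rfl hyy hz1 h⟩
  · have t64' : T64 (ψ * ψ) := T64.of_fpf hfpf.sq hT64 a b hab
    exact ⟨_, _, _, _, _, _, rel_of t64' a y (a * a) rfl hyy hz1 h⟩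

/-- the classification -/
theorem main {T : Type u} [Group T] [Finite T] (hT : IsPGroup 2 T) (h2 : Cfsg.PRankLE 2 2 T)
    (h1 : ¬ Cfsg.PRankLE 2 1 T) (φ : MulAut T)
    (htrans : ∀ s t : T, orderOf s = 2 → orderOf t = 2 → ∃ k : ℕ, (φ ^ k) s = t)
    {F : Type*} [Field F] [Fintype F] (hF : Fintype.card F = 16)
    (P : Sylow 2 (Cfsg.PSU 3 F 4)) :
    (∃ n : ℕ, 1 ≤ n ∧ Nonempty (T ≃* Multiplicative (ZMod (2 ^ n) × ZMod (2 ^ n)))) ∨
      Nonempty (T ≃* ↥(P : Subgroup (Cfsg.PSU 3 F 4))) := by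
  obtain ⟨hic, hcard, ψ, e, hψe, hψ⟩ := basic hT h2 h1 φ htrans
  by_cases hab : ∀ a b : T, a * b = b * a
  · left
    have hnt : ∃ z : T, z ≠ 1 := by
      by_contra hcon
      push Not at hcon
      have h1' : Nat.card {x : T // x * x = 1} ≤ 1 :=
        Finite.card_le_one_iff_subsingleton.mpr
          ⟨fun a b => Subtype.ext (by rw [hcon a.1, hcon b.1])⟩
      omega
    exact Homo.homocyclic hT hab (le_of_eq hcard) ψ (fun z hz1 hz2 => (hψ z hz1 hz2).1) hnt
  · right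
    push Not at hab
    obtain ⟨a, b, hab⟩ := hab
    have hψ3 := cube_one hT ψ e hψe hic (le_of_eq hcard) hψ
    obtain ⟨z, w, x, u, y, v, hrel⟩ :=
      nonab hT hic hcard ψ hψ3 (fun z hz1 hz2 => (hψ z hz1 hz2).1) a b hab
    exact U34Rec.iso_sylow hrel hF P

end Cfsg.Agent.H76.RankTwoTrans
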