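import Mathlib
import Cfsg.Prelude.Def_CaseTheorems
import Cfsg.Prelude.Def_TwoFusion
import Cfsg.Agent.H76.RankTwoTrans
import Cfsg.Agent.H20.BurnsideCenter

/-!
# Fusion in groups of 2-rank 2

* `tame`: if `z` is the unique involution of `Z(S)` and is not isolated, there is a Sylow
  2-subgroup `S₁`, an involution `z'` commuting with `z`, `Q = C_{S₁}(z')` and elements
  `s ∈ S₁ \ Q`, `ρ` normalizing `Q` which induce `S₃` on `⟨z, z'⟩`.
* `central_four`: if `Z(S)` contains a four-group and no involution is isolated, some element of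
  `N_G(S)` permutes the involutions of `S` transitively.
-/

set_option autoImplicit false

namespace Cfsg.Agent.H76.Fus2

variable {G : Type*} [Group G]

theorem mem_smul_sylow {p : ℕ} [Fact p.Prime] (S : Sylow p G) (c x : G) :
    x ∈ ((c • S : Sylow p G) : Subgroup G) ↔ c⁻¹ * x * c ∈ (S : Subgroup G) := by
  rw [Sylow.smul_def, Sylow.pointwise_smul_def, Subgroup.mem_pointwise_smul_iff_inv_smul_mem]
  simp [MulAut.smul_def]

/-- a `p`-subgroup of a subgroup `K` containing a Sylow `p`-subgroup `S` of `G` lies in a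
`K`-conjugate of `S` -/
theorem conj_le_sylow [Finite G] {p : ℕ} [Fact p.Prime] (S : Sylow p G) (K Q : Subgroup G)
    (hSK : (S : Subgroup G) ≤ K) (hQK : Q ≤ K) (hQ : IsPGroup p Q) :
    ∃ c ∈ K, ∀ q ∈ Q, c⁻¹ * q * c ∈ (S : Subgroup G) := by
  have hQ' : IsPGroup p (Q.subgroupOf K) := hQ.comap_subtype
  obtain ⟨P', hP'⟩ := hQ'.exists_le_sylow
  obtain ⟨c, hc⟩ := MulAction.exists_smul_eq K (S.subtype hSK) P'
  refine ⟨c, c.2, fun q hq => ?_⟩
  have h1 : (⟨q, hQK hq⟩ : K) ∈ (P' : Subgroup K) :=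
    hP' (by rw [Subgroup.mem_subgroupOf]; exact hq)
  rw [← hc, mem_smul_sylow] at h1
  have h2 : (c⁻¹ * ⟨q, hQK hq⟩ * c : K) ∈ (S : Subgroup G).subgroupOf K := h1
  rw [Subgroup.mem_subgroupOf] at h2
  simpa using h2

theorem exists_max_pgroup [Finite G] (p : ℕ) [Fact p.Prime] (C : Subgroup G) :
    ∃ Q : Subgroup G, Q ≤ C ∧ IsPGroup p Q ∧
      ∀ R : Subgroup G, IsPGroup p R → R ≤ C → Q ≤ R → R = Q := by
  obtain ⟨Q0⟩ : Nonempty (Sylow p C) := inferInstance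
  refine ⟨(Q0 : Subgroup C).map C.subtype, ?_, Q0.isPGroup'.map _, ?_⟩
  · rintro _ ⟨x, -, rfl⟩
    exact x.2
  · intro R hR hRC hQR
    have h1 : IsPGroup p (R.subgroupOf C) := hR.comap_subtype
    have h2 : (Q0 : Subgroup C) ≤ R.subgroupOf C := by
      intro x hx
      rw [Subgroup.mem_subgroupOf]
      exact hQR (Subgroup.mem_map_of_mem _ hx)
    have h3 := Q0.is_maximal' h1 h2
    rw [← h3, Subgroup.map_subgroupOf_eq_of_le hRC]

theorem exists_normalizing [Finite G] {p : ℕ} [Fact p.Prime] (P Q : Subgroup G)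
    (hP : IsPGroup p P) (hQP : Q ≤ P) (hne : ¬ P ≤ Q) :
    ∃ s ∈ P, s ∉ Q ∧ ∀ q ∈ Q, s * q * s⁻¹ ∈ Q := by
  have hnil : Group.IsNilpotent P := hP.isNilpotent
  have hlt : Q.subgroupOf P < ⊤ := by
    rw [lt_top_iff_ne_top]
    intro h
    apply hne
    intro x hx
    have : (⟨x, hx⟩ : P) ∈ Q.subgroupOf P := by rw [h]; trivial
    exact this
  have h1 := Group.normalizerCondition_of_isNilpotent (G := P) (Q.subgroupOf P) hlt
  obtain ⟨s, hs1, hs2⟩ := SetLike.exists_of_lt h1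
  refine ⟨s.1, s.2, fun h => hs2 h, fun q hq => ?_⟩
  have h3 := (Subgroup.mem_normalizer_iff.mp hs1 ⟨q, hQP hq⟩).mp hq
  exact h3

/-- rank 2: an element of square 1 commuting with two distinct commuting involutions is in
their span -/
theorem mem_four_of_rank [Finite G] (h2 : Cfsg.PRankLE 2 2 G) {z z' x : G} (hz : z * z = 1)
    (hz' : z' * z' = 1) (hz1 : z ≠ 1) (hz'1 : z' ≠ 1) (hne : z ≠ z') (hc : z * z' = z' * z)
    (hx : x * x = 1) (hxz : x * z = z * x) (hxz' : x * z' = z' * x) :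
    x = 1 ∨ x = z ∨ x = z' ∨ x = z * z' := by
  have hS : ∀ a ∈ ({z, z', x} : Set G), ∀ b ∈ ({z, z', x} : Set G), a * b = b * a := by
    intro a ha b hb
    simp only [Set.mem_insert_iff, Set.mem_singleton_iff] at ha hb
    rcases ha with rfl | rfl | rfl <;> rcases hb with rfl | rfl | rfl <;>
      first | rfl | assumption | (symm; assumption)
  have hcl : IsMulCommutative ↥(Subgroup.closure ({z, z', x} : Set G)) :=
    Subgroup.isMulCommutative_closure hS
  have hexp : ∀ a ∈ Subgroup.closure ({z, z', x} : Set G), a ^ 2 = 1 := by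
    intro a ha
    induction ha using Subgroup.closure_induction with
    | mem y hy =>
      simp only [Set.mem_insert_iff, Set.mem_singleton_iff] at hy
      rcases hy with rfl | rfl | rfl <;> rw [pow_two] <;> assumption
    | one => exact one_pow 2
    | mul a b ha hb iha ihb =>
      have hab : a * b = b * a :=
        congrArg Subtype.val ((isMulCommutative_iff.mp hcl) ⟨a, ha⟩ ⟨b, hb⟩)
      have hab' : Commute a b := hab
      rw [hab'.mul_pow, iha, ihb, one_mul]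
    | inv a ha iha => rw [inv_pow, iha, inv_one]
  have hcard := h2 (Subgroup.closure ({z, z', x} : Set G)) hcl hexp
  have hzA : z ∈ Subgroup.closure ({z, z', x} : Set G) := Subgroup.subset_closure (by simp)
  have hz'A : z' ∈ Subgroup.closure ({z, z', x} : Set G) := Subgroup.subset_closure (by simp)
  have hxA : x ∈ Subgroup.closure ({z, z', x} : Set G) := Subgroup.subset_closure (by simp)
  have h4 := RankTwoTrans.four_all (α := ↥(Subgroup.closure ({z, z', x} : Set G)))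
    (by norm_num at hcard; exact hcard) (a := 1) (b := ⟨z, hzA⟩) (c := ⟨z', hz'A⟩)
    (d := ⟨z * z', Subgroup.mul_mem _ hzA hz'A⟩)
    (fun h => hz1 (congrArg Subtype.val h).symm)
    (fun h => hz'1 (congrArg Subtype.val h).symm)
    (fun h => by
      have h1 : (1 : G) = z * z' := congrArg Subtype.val h
      apply hne
      calc z = z * (z' * z') := by rw [hz', mul_one]
        _ = (z * z') * z' := by rw [mul_assoc]
        _ = z' := by rw [← h1, one_mul])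
    (fun h => hne (congrArg Subtype.val h))
    (fun h => by
      have h1 : z = z * z' := congrArg Subtype.val h
      apply hz'1
      exact (mul_left_cancel (a := z) (by rw [mul_one]; exact h1)).symm)
    (fun h => by
      have h1 : z' = z * z' := congrArg Subtype.val h
      apply hz1
      exact (mul_right_cancel (b := z') (by rw [one_mul]; exact h1)).symm)
    ⟨x, hxA⟩
  rcases h4 with h | h | h | h
  · exact Or.inl (congrArg Subtype.val h)
  · exact Or.inr (Or.inl (congrArg Subtype.val h))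
  · exact Or.inr (Or.inr (Or.inl (congrArg Subtype.val h)))
  · exact Or.inr (Or.inr (Or.inr (congrArg Subtype.val h)))

/-- the data "`z` is the unique involution of `Z(S)`" is conjugation invariant -/
theorem conj_data [Finite G] (S : Sylow 2 G) (z : G) (hzS : z ∈ (S : Subgroup G))
    (hzc : ∀ x ∈ (S : Subgroup G), z * x = x * z)
    (huniq : ∀ y ∈ (S : Subgroup G), (∀ x ∈ (S : Subgroup G), y * x = x * y) → y * y = 1 →
      y = 1 ∨ y = z) (g : G) :
    g * z * g⁻¹ ∈ ((g • S : Sylow 2 G) : Subgroup G) ∧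
    (∀ x ∈ ((g • S : Sylow 2 G) : Subgroup G), (g * z * g⁻¹) * x = x * (g * z * g⁻¹)) ∧
    (∀ y ∈ ((g • S : Sylow 2 G) : Subgroup G),
      (∀ x ∈ ((g • S : Sylow 2 G) : Subgroup G), y * x = x * y) → y * y = 1 →
      y = 1 ∨ y = g * z * g⁻¹) := by
  refine ⟨?_, ?_, ?_⟩
  · rw [mem_smul_sylow]
    have : g⁻¹ * (g * z * g⁻¹) * g = z := by group
    rw [this]
    exact hzS
  · intro x hx
    rw [mem_smul_sylow] at hx
    have h1 := hzc _ hx
    calc g * z * g⁻¹ * x = g * (z * (g⁻¹ * x * g)) * g⁻¹ := by group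
      _ = g * ((g⁻¹ * x * g) * z) * g⁻¹ := by rw [h1]
      _ = x * (g * z * g⁻¹) := by group
  · intro y hy hyc hy2
    rw [mem_smul_sylow] at hy
    have h1 : ∀ x ∈ (S : Subgroup G), (g⁻¹ * y * g) * x = x * (g⁻¹ * y * g) := by
      intro x hx
      have hx' : g * x * g⁻¹ ∈ ((g • S : Sylow 2 G) : Subgroup G) := by
        rw [mem_smul_sylow]
        have : g⁻¹ * (g * x * g⁻¹) * g = x := by group
        rw [this]
        exact hx
      have h2 := hyc _ hx'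
      calc g⁻¹ * y * g * x = g⁻¹ * (y * (g * x * g⁻¹)) * g := by group
        _ = g⁻¹ * ((g * x * g⁻¹) * y) * g := by rw [h2]
        _ = x * (g⁻¹ * y * g) := by group
    have h3 : (g⁻¹ * y * g) * (g⁻¹ * y * g) = 1 := by
      calc (g⁻¹ * y * g) * (g⁻¹ * y * g) = g⁻¹ * (y * y) * g := by group
        _ = 1 := by rw [hy2]; group
    rcases huniq _ hy h1 h3 with h | h
    · left
      calc y = g * (g⁻¹ * y * g) * g⁻¹ := by group
        _ = 1 := by rw [h]; group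
    · right
      calc y = g * (g⁻¹ * y * g) * g⁻¹ := by group
        _ = g * z * g⁻¹ := by rw [h]

/-- a 2-subgroup centralizing `z` lies in a Sylow 2-subgroup with the same data -/
theorem exists_sylow_ge [Finite G] (S : Sylow 2 G) (z : G) (hzS : z ∈ (S : Subgroup G))
    (hzc : ∀ x ∈ (S : Subgroup G), z * x = x * z)
    (huniq : ∀ y ∈ (S : Subgroup G), (∀ x ∈ (S : Subgroup G), y * x = x * y) → y * y = 1 →
      y = 1 ∨ y = z)
    (Q : Subgroup G) (hQ : IsPGroup 2 Q) (hQz : ∀ q ∈ Q, z * q = q * z) :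
    ∃ S₁ : Sylow 2 G, Q ≤ (S₁ : Subgroup G) ∧ z ∈ (S₁ : Subgroup G) ∧
      (∀ x ∈ (S₁ : Subgroup G), z * x = x * z) ∧
      (∀ y ∈ (S₁ : Subgroup G), (∀ x ∈ (S₁ : Subgroup G), y * x = x * y) → y * y = 1 →
        y = 1 ∨ y = z) := by
  have hp2 : Fact (Nat.Prime 2) := ⟨Nat.prime_two⟩
  have hSK : (S : Subgroup G) ≤ Subgroup.centralizer {z} := by
    intro x hx
    rw [Subgroup.mem_centralizer_iff]
    intro y hy
    rw [Set.mem_singleton_iff] at hy
    subst hy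
    exact hzc x hx
  have hQK : Q ≤ Subgroup.centralizer {z} := by
    intro x hx
    rw [Subgroup.mem_centralizer_iff]
    intro y hy
    rw [Set.mem_singleton_iff] at hy
    subst hy
    exact hQz x hx
  obtain ⟨c, hcK, hc⟩ := conj_le_sylow S _ Q hSK hQK hQ
  have hcz : z * c = c * z := Subgroup.mem_centralizer_iff.mp hcK z (Set.mem_singleton z)
  have hcz' : c * z * c⁻¹ = z := by rw [← hcz, mul_inv_cancel_right]
  obtain ⟨h1, h2, h3⟩ := conj_data S z hzS hzc huniq c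
  rw [hcz'] at h1 h2 h3
  refine ⟨c • S, ?_, h1, h2, h3⟩
  intro q hq
  rw [mem_smul_sylow]
  exact hc q hq

/-- the tame four-group -/
theorem tame [Finite G] (h2 : Cfsg.PRankLE 2 2 G) (S : Sylow 2 G) (z : G)
    (hzS : z ∈ (S : Subgroup G)) (hzc : ∀ x ∈ (S : Subgroup G), z * x = x * z)
    (hz : z * z = 1) (hz1 : z ≠ 1)
    (huniq : ∀ y ∈ (S : Subgroup G), (∀ x ∈ (S : Subgroup G), y * x = x * y) → y * y = 1 →
      y = 1 ∨ y = z)
    (hni : ¬ Cfsg.IsIsolatedInvolution z) :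
    ∃ (S₁ : Sylow 2 G) (Q : Subgroup G) (z' s ρ : G),
      Q ≤ (S₁ : Subgroup G) ∧ z ∈ Q ∧ z' ∈ Q ∧ z' * z' = 1 ∧ z' ≠ 1 ∧ z ≠ z' ∧
      z * z' = z' * z ∧
      (∀ x ∈ (S₁ : Subgroup G), z * x = x * z) ∧
      (∀ x ∈ (S₁ : Subgroup G), x * z' = z' * x → x ∈ Q) ∧
      (∀ q ∈ Q, q * z' = z' * q) ∧
      (∀ q ∈ Q, q * q = 1 → q = 1 ∨ q = z ∨ q = z' ∨ q = z * z') ∧
      s ∈ (S₁ : Subgroup G) ∧ s ∉ Q ∧ (∀ q ∈ Q, s * q * s⁻¹ ∈ Q) ∧ s * z' * s⁻¹ = z * z' ∧
      (∀ q ∈ Q, ρ * q * ρ⁻¹ ∈ Q) ∧ ρ * z * ρ⁻¹ = z * z' ∧ ρ * z' * ρ⁻¹ = z ∧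
      ρ * (z * z') * ρ⁻¹ = z' := by
  have hp2 : Fact (Nat.Prime 2) := ⟨Nat.prime_two⟩
  have hord : orderOf z = 2 := orderOf_eq_prime (by rw [pow_two]; exact hz) hz1
  unfold Cfsg.IsIsolatedInvolution at hni
  push Not at hni
  obtain ⟨g, hcomm, hgne⟩ := hni hord
  obtain ⟨z', hz'def⟩ : ∃ z' : G, z' = g * z * g⁻¹ := ⟨_, rfl⟩
  rw [← hz'def] at hcomm hgne
  have hz' : z' * z' = 1 := by
    rw [hz'def]
    calc g * z * g⁻¹ * (g * z * g⁻¹) = g * (z * z) * g⁻¹ := by group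
      _ = 1 := by rw [hz]; group
  have hz'1 : z' ≠ 1 := by
    intro h
    apply hz1
    have h1 : z = g⁻¹ * z' * g := by rw [hz'def]; group
    rw [h1, h]
    group
  have hzz' : z * z' = z' * z := hcomm.eq
  have hne : z ≠ z' := fun h => hgne h.symm
  obtain ⟨Q, hQC, hQp, hQmax⟩ := exists_max_pgroup 2 (Subgroup.centralizer ({z, z'} : Set G))
  have hQz : ∀ q ∈ Q, z * q = q * z := fun q hq =>
    Subgroup.mem_centralizer_iff.mp (hQC hq) z (by simp)
  have hQz' : ∀ q ∈ Q, z' * q = q * z' := fun q hq =>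
    Subgroup.mem_centralizer_iff.mp (hQC hq) z' (by simp)
  obtain ⟨S₁, hQS₁, hzS₁, hzc₁, huniq₁⟩ := exists_sylow_ge S z hzS hzc huniq Q hQp hQz
  obtain ⟨hz'S', hz'c', huniq'⟩ := conj_data S z hzS hzc huniq g
  rw [← hz'def] at hz'S' hz'c' huniq'
  obtain ⟨R, hQR, hz'R, hz'cR, huniqR⟩ :=
    exists_sylow_ge (g • S) z' hz'S' hz'c' huniq' Q hQp hQz'
  have hS₁Q : ∀ x ∈ (S₁ : Subgroup G), x * z' = z' * x → x ∈ Q := by
    intro x hx hxz'
    have hR : (S₁ : Subgroup G) ⊓ Subgroup.centralizer ({z, z'} : Set G) = Q :=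
      hQmax _ (S₁.isPGroup'.to_le inf_le_left) inf_le_right (le_inf hQS₁ hQC)
    rw [← hR]
    refine Subgroup.mem_inf.mpr ⟨hx, ?_⟩
    rw [Subgroup.mem_centralizer_iff]
    intro y hy
    simp only [Set.mem_insert_iff, Set.mem_singleton_iff] at hy
    rcases hy with rfl | rfl
    · exact hzc₁ x hx
    · exact hxz'.symm
  have hRQ : ∀ x ∈ (R : Subgroup G), x * z = z * x → x ∈ Q := by
    intro x hx hxz
    have hR : (R : Subgroup G) ⊓ Subgroup.centralizer ({z, z'} : Set G) = Q :=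
      hQmax _ (R.isPGroup'.to_le inf_le_left) inf_le_right (le_inf hQR hQC)
    rw [← hR]
    refine Subgroup.mem_inf.mpr ⟨hx, ?_⟩
    rw [Subgroup.mem_centralizer_iff]
    intro y hy
    simp only [Set.mem_insert_iff, Set.mem_singleton_iff] at hy
    rcases hy with rfl | rfl
    · exact hxz.symm
    · exact hz'cR x hx
  have hzQ : z ∈ Q := hS₁Q z hzS₁ hzz'
  have hz'Q : z' ∈ Q := hRQ z' hz'R hzz'.symm
  have hinv : ∀ q ∈ Q, q * q = 1 → q = 1 ∨ q = z ∨ q = z' ∨ q = z * z' := fun q hq hq2 =>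
    mem_four_of_rank h2 hz hz' hz1 hz'1 hne hzz' hq2 (hQz q hq).symm (hQz' q hq).symm
  have hneS : ¬ (S₁ : Subgroup G) ≤ Q := by
    intro h
    rcases huniq₁ z' (hQS₁ hz'Q) (fun x hx => hQz' x (h hx)) hz' with h1 | h1
    · exact hz'1 h1
    · exact hne h1.symm
  obtain ⟨s, hsS, hsQ, hsn⟩ := exists_normalizing (S₁ : Subgroup G) Q S₁.isPGroup' hQS₁ hneS
  have hneR : ¬ (R : Subgroup G) ≤ Q := by
    intro h
    rcases huniqR z (hQR hzQ) (fun x hx => hQz x (h hx)) hz with h1 | h1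
    · exact hz1 h1
    · exact hne h1
  obtain ⟨r, hrR, hrQ, hrn⟩ := exists_normalizing (R : Subgroup G) Q R.isPGroup' hQR hneR
  have hsz : s * z * s⁻¹ = z := by rw [← hzc₁ s hsS, mul_inv_cancel_right]
  have hrz' : r * z' * r⁻¹ = z' := by rw [← hz'cR r hrR, mul_inv_cancel_right]
  have hsz' : s * z' * s⁻¹ = z * z' := by
    have h1 := hsn z' hz'Q
    have h2' : (s * z' * s⁻¹) * (s * z' * s⁻¹) = 1 := by
      calc (s * z' * s⁻¹) * (s * z' * s⁻¹) = s * (z' * z') * s⁻¹ := by group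
        _ = 1 := by rw [hz']; group
    rcases hinv _ h1 h2' with h | h | h | h
    · exfalso
      apply hz'1
      calc z' = s⁻¹ * (s * z' * s⁻¹) * s := by group
        _ = 1 := by rw [h]; group
    · exfalso
      apply hne
      exact (mul_left_cancel (mul_right_cancel (h.trans hsz.symm))).symm
    · exfalso
      apply hsQ
      apply hS₁Q s hsS
      calc s * z' = (s * z' * s⁻¹) * s := by group
        _ = z' * s := by rw [h]
    · exact h
  have hrz : r * z * r⁻¹ = z * z' := by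
    have h1 := hrn z hzQ
    have h2' : (r * z * r⁻¹) * (r * z * r⁻¹) = 1 := by
      calc (r * z * r⁻¹) * (r * z * r⁻¹) = r * (z * z) * r⁻¹ := by group
        _ = 1 := by rw [hz]; group
    rcases hinv _ h1 h2' with h | h | h | h
    · exfalso
      apply hz1
      calc z = r⁻¹ * (r * z * r⁻¹) * r := by group
        _ = 1 := by rw [h]; group
    · exfalso
      apply hrQ
      apply hRQ r hrR
      calc r * z = (r * z * r⁻¹) * r := by group
        _ = z * r := by rw [h]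
    · exfalso
      apply hne
      exact mul_left_cancel (mul_right_cancel (h.trans hrz'.symm))
    · exact h
  have e1 : r * s * z * (r * s)⁻¹ = z * z' := by
    calc r * s * z * (r * s)⁻¹ = r * (s * z * s⁻¹) * r⁻¹ := by group
      _ = z * z' := by rw [hsz, hrz]
  have e2 : r * s * z' * (r * s)⁻¹ = z := by
    calc r * s * z' * (r * s)⁻¹ = r * (s * z' * s⁻¹) * r⁻¹ := by group
      _ = r * (z * z') * r⁻¹ := by rw [hsz']
      _ = (r * z * r⁻¹) * (r * z' * r⁻¹) := by group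
      _ = z * z' * z' := by rw [hrz, hrz']
      _ = z := by rw [mul_assoc, hz', mul_one]
  refine ⟨S₁, Q, z', s, r * s, hQS₁, hzQ, hz'Q, hz', hz'1, hne, hzz', hzc₁, hS₁Q,
    fun q hq => (hQz' q hq).symm, hinv, hsS, hsQ, hsn, hsz', ?_, e1, e2, ?_⟩
  · intro q hq
    have h1 := hrn _ (hsn q hq)
    have h2' : r * s * q * (r * s)⁻¹ = r * (s * q * s⁻¹) * r⁻¹ := by group
    rw [h2']
    exact h1
  · calc r * s * (z * z') * (r * s)⁻¹ = (r * s * z * (r * s)⁻¹) * (r * s * z' * (r * s)⁻¹) := by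
          group
      _ = z * z' * z := by rw [e1, e2]
      _ = z' := by rw [hzz', mul_assoc, hz, mul_one]

/-- if the centre of `S` contains a four-group and no involution is isolated, some element of the
normalizer of `S` permutes the involutions of `S` transitively -/
theorem central_four [Finite G] (h2 : Cfsg.PRankLE 2 2 G) (S : Sylow 2 G) (z z₂ : G)
    (hzS : z ∈ (S : Subgroup G)) (hz₂S : z₂ ∈ (S : Subgroup G))
    (hzc : ∀ x ∈ (S : Subgroup G), z * x = x * z)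
    (hz₂c : ∀ x ∈ (S : Subgroup G), z₂ * x = x * z₂)
    (hz : z * z = 1) (hz1 : z ≠ 1) (hz₂ : z₂ * z₂ = 1) (hz₂1 : z₂ ≠ 1) (hne : z ≠ z₂)
    (hni : ∀ y : G, ¬ Cfsg.IsIsolatedInvolution y) :
    ∃ n : G, (∀ x ∈ (S : Subgroup G), n * x * n⁻¹ ∈ (S : Subgroup G)) ∧
      ∀ a ∈ (S : Subgroup G), ∀ b ∈ (S : Subgroup G), orderOf a = 2 → orderOf b = 2 →
        ∃ k : ℕ, n ^ k * a * (n ^ k)⁻¹ = b := by
  have hp2 : Fact (Nat.Prime 2) := ⟨Nat.prime_two⟩
  have hzz₂ : z * z₂ = z₂ * z := hzc z₂ hz₂S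
  have hinv : ∀ a ∈ (S : Subgroup G), a * a = 1 → a = 1 ∨ a = z ∨ a = z₂ ∨ a = z * z₂ :=
    fun a ha ha2 => mem_four_of_rank h2 hz hz₂ hz1 hz₂1 hne hzz₂ ha2 (hzc a ha).symm
      (hz₂c a ha).symm
  obtain ⟨e₃, he₃⟩ : ∃ e₃ : G, e₃ = z * z₂ := ⟨_, rfl⟩
  rw [← he₃] at hinv
  have he₃S : e₃ ∈ (S : Subgroup G) := by rw [he₃]; exact Subgroup.mul_mem _ hzS hz₂S
  have he₃c : ∀ x ∈ (S : Subgroup G), e₃ * x = x * e₃ := by
    intro x hx
    rw [he₃, mul_assoc, hz₂c x hx, ← mul_assoc, hzc x hx, mul_assoc]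
  have he₃2 : e₃ * e₃ = 1 := by
    rw [he₃]
    calc z * z₂ * (z * z₂) = z * (z₂ * z) * z₂ := by group
      _ = z * (z * z₂) * z₂ := by rw [hzz₂]
      _ = (z * z) * (z₂ * z₂) := by group
      _ = 1 := by rw [hz, hz₂, one_mul]
  have he₃1 : e₃ ≠ 1 := by
    intro h
    apply hne
    calc z = z * (z₂ * z₂) := by rw [hz₂, mul_one]
      _ = (z * z₂) * z₂ := by rw [mul_assoc]
      _ = z₂ := by rw [← he₃, h, one_mul]
  have he₃z : e₃ ≠ z := by
    intro h
    apply hz₂1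
    exact mul_left_cancel (a := z) (by rw [mul_one, ← he₃]; exact h)
  have he₃z₂ : e₃ ≠ z₂ := by
    intro h
    apply hz1
    exact mul_right_cancel (b := z₂) (by rw [one_mul, ← he₃]; exact h)
  -- central involutions of `S` are moved by the normalizer
  have move : ∀ e ∈ (S : Subgroup G), (∀ x ∈ (S : Subgroup G), e * x = x * e) → e * e = 1 →
      e ≠ 1 → ∃ n : G, (∀ x ∈ (S : Subgroup G), n * x * n⁻¹ ∈ (S : Subgroup G)) ∧
        n * e * n⁻¹ ≠ e := by
    intro e heS hec he2 he1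
    have hord : orderOf e = 2 := orderOf_eq_prime (by rw [pow_two]; exact he2) he1
    have hni' := hni e
    unfold Cfsg.IsIsolatedInvolution at hni'
    push Not at hni'
    obtain ⟨g, hcomm, hgne⟩ := hni' hord
    obtain ⟨u, hudef⟩ : ∃ u : G, u = g * e * g⁻¹ := ⟨_, rfl⟩
    rw [← hudef] at hcomm hgne
    have hu2 : u * u = 1 := by
      rw [hudef]
      calc g * e * g⁻¹ * (g * e * g⁻¹) = g * (e * e) * g⁻¹ := by group
        _ = 1 := by rw [he2]; group
    have hu1 : u ≠ 1 := by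
      intro h
      apply he1
      have h1 : e = g⁻¹ * u * g := by rw [hudef]; group
      rw [h1, h]
      group
    have hSK : (S : Subgroup G) ≤ Subgroup.centralizer {e} := by
      intro x hx
      rw [Subgroup.mem_centralizer_iff]
      intro y hy
      rw [Set.mem_singleton_iff] at hy
      subst hy
      exact hec x hx
    have huK : Subgroup.zpowers u ≤ Subgroup.centralizer {e} := by
      rw [Subgroup.zpowers_le, Subgroup.mem_centralizer_iff]
      intro y hy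
      rw [Set.mem_singleton_iff] at hy
      subst hy
      exact hcomm.eq
    have hup : IsPGroup 2 (Subgroup.zpowers u) := by
      apply IsPGroup.of_card (n := 1)
      rw [Nat.card_zpowers, pow_one]
      exact orderOf_eq_prime (by rw [pow_two]; exact hu2) hu1
    obtain ⟨c, hcK, hc⟩ := conj_le_sylow S _ _ hSK huK hup
    have hce : e * c = c * e := Subgroup.mem_centralizer_iff.mp hcK e (Set.mem_singleton e)
    have he'S := hc u (Subgroup.mem_zpowers u)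
    have he'2 : (c⁻¹ * u * c) * (c⁻¹ * u * c) = 1 := by
      calc (c⁻¹ * u * c) * (c⁻¹ * u * c) = c⁻¹ * (u * u) * c := by group
        _ = 1 := by rw [hu2]; group
    have he'ne : c⁻¹ * u * c ≠ e := by
      intro h
      apply hgne
      calc u = c * (c⁻¹ * u * c) * c⁻¹ := by group
        _ = c * e * c⁻¹ := by rw [h]
        _ = e := by rw [← hce, mul_inv_cancel_right]
    have he'c : ∀ x ∈ (S : Subgroup G), (c⁻¹ * u * c) * x = x * (c⁻¹ * u * c) := by
      rcases hinv _ he'S he'2 with h | h | h | h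
      · exfalso
        apply hu1
        calc u = c * (c⁻¹ * u * c) * c⁻¹ := by group
          _ = 1 := by rw [h]; group
      · rw [h]; exact hzc
      · rw [h]; exact hz₂c
      · rw [h]; exact he₃c
    obtain ⟨n, hn1, hn2⟩ := Cfsg.Agent.H20.TwoRank.burnside_center S e (c⁻¹ * u * c) (c⁻¹ * g)
      hec he'c heS he'S (by rw [hudef]; group)
    exact ⟨n, fun x hx => (hn1 x).mp hx, by rw [hn2]; exact he'ne⟩
  -- the action of a normalizing element on the three involutions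
  have act6 : ∀ n : G, (∀ x ∈ (S : Subgroup G), n * x * n⁻¹ ∈ (S : Subgroup G)) →
      (n * z * n⁻¹ = z ∧ n * z₂ * n⁻¹ = z₂ ∧ n * e₃ * n⁻¹ = e₃) ∨
      (n * z * n⁻¹ = z ∧ n * z₂ * n⁻¹ = e₃ ∧ n * e₃ * n⁻¹ = z₂) ∨
      (n * z * n⁻¹ = z₂ ∧ n * z₂ * n⁻¹ = z ∧ n * e₃ * n⁻¹ = e₃) ∨
      (n * z * n⁻¹ = z₂ ∧ n * z₂ * n⁻¹ = e₃ ∧ n * e₃ * n⁻¹ = z) ∨
      (n * z * n⁻¹ = e₃ ∧ n * z₂ * n⁻¹ = z ∧ n * e₃ * n⁻¹ = z₂) ∨
      (n * z * n⁻¹ = e₃ ∧ n * z₂ * n⁻¹ = z₂ ∧ n * e₃ * n⁻¹ = z) := by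
    intro n hn
    have hA2 : (n * z * n⁻¹) * (n * z * n⁻¹) = 1 := by
      calc (n * z * n⁻¹) * (n * z * n⁻¹) = n * (z * z) * n⁻¹ := by group
        _ = 1 := by rw [hz]; group
    have hB2 : (n * z₂ * n⁻¹) * (n * z₂ * n⁻¹) = 1 := by
      calc (n * z₂ * n⁻¹) * (n * z₂ * n⁻¹) = n * (z₂ * z₂) * n⁻¹ := by group
        _ = 1 := by rw [hz₂]; group
    have hA1 : n * z * n⁻¹ ≠ 1 := by
      intro h
      apply hz1
      calc z = n⁻¹ * (n * z * n⁻¹) * n := by group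
        _ = 1 := by rw [h]; group
    have hB1 : n * z₂ * n⁻¹ ≠ 1 := by
      intro h
      apply hz₂1
      calc z₂ = n⁻¹ * (n * z₂ * n⁻¹) * n := by group
        _ = 1 := by rw [h]; group
    have hAB : n * z * n⁻¹ ≠ n * z₂ * n⁻¹ := fun h =>
      hne (mul_left_cancel (mul_right_cancel h))
    have hC : n * e₃ * n⁻¹ = (n * z * n⁻¹) * (n * z₂ * n⁻¹) := by rw [he₃]; group
    have p1 : z * e₃ = z₂ := by rw [he₃, ← mul_assoc, hz, one_mul]
    have p2 : z₂ * z = e₃ := by rw [he₃, hzz₂]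
    have p3 : z₂ * e₃ = z := by rw [he₃, ← mul_assoc, ← hzz₂, mul_assoc, hz₂, mul_one]
    have p4 : e₃ * z = z₂ := by rw [he₃, mul_assoc, ← hzz₂, ← mul_assoc, hz, one_mul]
    have p5 : e₃ * z₂ = z := by rw [he₃, mul_assoc, hz₂, mul_one]
    rcases hinv _ (hn z hzS) hA2 with hA | hA | hA | hA
    · exact absurd hA hA1
    · rcases hinv _ (hn z₂ hz₂S) hB2 with hB | hB | hB | hB
      · exact absurd hB hB1
      · exact absurd (hA.trans hB.symm) hAB
      · exact Or.inl ⟨hA, hB, by rw [hC, hA, hB, he₃]⟩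
      · exact Or.inr (Or.inl ⟨hA, hB, by rw [hC, hA, hB, p1]⟩)
    · rcases hinv _ (hn z₂ hz₂S) hB2 with hB | hB | hB | hB
      · exact absurd hB hB1
      · exact Or.inr (Or.inr (Or.inl ⟨hA, hB, by rw [hC, hA, hB, p2]⟩))
      · exact absurd (hA.trans hB.symm) hAB
      · exact Or.inr (Or.inr (Or.inr (Or.inl ⟨hA, hB, by rw [hC, hA, hB, p3]⟩)))
    · rcases hinv _ (hn z₂ hz₂S) hB2 with hB | hB | hB | hB
      · exact absurd hB hB1
      · exact Or.inr (Or.inr (Or.inr (Or.inr (Or.inl ⟨hA, hB, by rw [hC, hA, hB, p4]⟩))))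
      · exact Or.inr (Or.inr (Or.inr (Or.inr (Or.inr ⟨hA, hB, by rw [hC, hA, hB, p5]⟩))))
      · exact absurd (hA.trans hB.symm) hAB
  -- a three-cycle suffices
  have fin : ∀ n : G, (∀ x ∈ (S : Subgroup G), n * x * n⁻¹ ∈ (S : Subgroup G)) →
      ((n * z * n⁻¹ = z₂ ∧ n * z₂ * n⁻¹ = e₃ ∧ n * e₃ * n⁻¹ = z) ∨
       (n * z * n⁻¹ = e₃ ∧ n * z₂ * n⁻¹ = z ∧ n * e₃ * n⁻¹ = z₂)) →
      ∃ n : G, (∀ x ∈ (S : Subgroup G), n * x * n⁻¹ ∈ (S : Subgroup G)) ∧
      ∀ a ∈ (S : Subgroup G), ∀ b ∈ (S : Subgroup G), orderOf a = 2 → orderOf b = 2 →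
        ∃ k : ℕ, n ^ k * a * (n ^ k)⁻¹ = b := by
    intro n hn hcyc
    refine ⟨n, hn, ?_⟩
    intro a ha b hb hoa hob
    have c2 : ∀ y : G, n ^ 2 * y * (n ^ 2)⁻¹ = n * (n * y * n⁻¹) * n⁻¹ := fun y => by
      rw [pow_two]; group
    have c1 : ∀ y : G, n ^ 1 * y * (n ^ 1)⁻¹ = n * y * n⁻¹ := fun y => by rw [pow_one]
    have c0 : ∀ y : G, n ^ 0 * y * (n ^ 0)⁻¹ = y := fun y => by rw [pow_zero]; group
    have ha2 : a * a = 1 := by rw [← pow_two, ← hoa]; exact pow_orderOf_eq_one a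
    have hb2 : b * b = 1 := by rw [← pow_two, ← hob]; exact pow_orderOf_eq_one b
    have ha1 : a ≠ 1 := by
      intro h
      rw [h, orderOf_one] at hoa
      norm_num at hoa
    have hb1 : b ≠ 1 := by
      intro h
      rw [h, orderOf_one] at hob
      norm_num at hob
    rcases hcyc with ⟨q1, q2, q3⟩ | ⟨q1, q2, q3⟩
    · rcases hinv a ha ha2 with h | h | h | h
      · exact absurd h ha1
      · rcases hinv b hb hb2 with h' | h' | h' | h'
        · exact absurd h' hb1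
        · exact ⟨0, by rw [c0, h, h']⟩
        · exact ⟨1, by rw [c1, h, h', q1]⟩
        · exact ⟨2, by rw [c2, h, h', q1, q2]⟩
      · rcases hinv b hb hb2 with h' | h' | h' | h'
        · exact absurd h' hb1
        · exact ⟨2, by rw [c2, h, h', q2, q3]⟩
        · exact ⟨0, by rw [c0, h, h']⟩
        · exact ⟨1, by rw [c1, h, h', q2]⟩
      · rcases hinv b hb hb2 with h' | h' | h' | h'
        · exact absurd h' hb1
        · exact ⟨1, by rw [c1, h, h', q3]⟩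
        · exact ⟨2, by rw [c2, h, h', q3, q1]⟩
        · exact ⟨0, by rw [c0, h, h']⟩
    · rcases hinv a ha ha2 with h | h | h | h
      · exact absurd h ha1
      · rcases hinv b hb hb2 with h' | h' | h' | h'
        · exact absurd h' hb1
        · exact ⟨0, by rw [c0, h, h']⟩
        · exact ⟨2, by rw [c2, h, h', q1, q3]⟩
        · exact ⟨1, by rw [c1, h, h', q1]⟩
      · rcases hinv b hb hb2 with h' | h' | h' | h'
        · exact absurd h' hb1
        · exact ⟨1, by rw [c1, h, h', q2]⟩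
        · exact ⟨0, by rw [c0, h, h']⟩
        · exact ⟨2, by rw [c2, h, h', q2, q1]⟩
      · rcases hinv b hb hb2 with h' | h' | h' | h'
        · exact absurd h' hb1
        · exact ⟨2, by rw [c2, h, h', q3, q2]⟩
        · exact ⟨1, by rw [c1, h, h', q3]⟩
        · exact ⟨0, by rw [c0, h, h']⟩
  have hmulN : ∀ n m : G, (∀ x ∈ (S : Subgroup G), n * x * n⁻¹ ∈ (S : Subgroup G)) →
      (∀ x ∈ (S : Subgroup G), m * x * m⁻¹ ∈ (S : Subgroup G)) →
      ∀ x ∈ (S : Subgroup G), (n * m) * x * (n * m)⁻¹ ∈ (S : Subgroup G) := by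
    intro n m hn hm x hx
    have h1 := hn _ (hm x hx)
    have h2' : n * m * x * (n * m)⁻¹ = n * (m * x * m⁻¹) * n⁻¹ := by group
    rw [h2']
    exact h1
  have cm : ∀ n m y : G, (n * m) * y * (n * m)⁻¹ = n * (m * y * m⁻¹) * n⁻¹ := fun n m y => by
    group
  obtain ⟨n₁, hn₁, hm₁⟩ := move z hzS hzc hz hz1
  obtain ⟨n₂, hn₂, hm₂⟩ := move z₂ hz₂S hz₂c hz₂ hz₂1
  obtain ⟨n₃, hn₃, hm₃⟩ := move e₃ he₃S he₃c he₃2 he₃1
  rcases act6 n₁ hn₁ with ⟨a1, a2, a3⟩ | ⟨a1, a2, a3⟩ | ⟨a1, a2, a3⟩ | ⟨a1, a2, a3⟩ |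
    ⟨a1, a2, a3⟩ | ⟨a1, a2, a3⟩
  · exact absurd a1 hm₁
  · exact absurd a1 hm₁
  · -- n₁ swaps z, z₂
    rcases act6 n₃ hn₃ with ⟨b1, b2, b3⟩ | ⟨b1, b2, b3⟩ | ⟨b1, b2, b3⟩ | ⟨b1, b2, b3⟩ |
      ⟨b1, b2, b3⟩ | ⟨b1, b2, b3⟩
    · exact absurd b3 hm₃
    · -- n₃ swaps z₂, e₃
      exact fin (n₁ * n₃) (hmulN n₁ n₃ hn₁ hn₃)
        (Or.inl ⟨by rw [cm, b1, a1], by rw [cm, b2, a3], by rw [cm, b3, a2]⟩)
    · exact absurd b3 hm₃
    · exact fin n₃ hn₃ (Or.inl ⟨b1, b2, b3⟩)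
    · exact fin n₃ hn₃ (Or.inr ⟨b1, b2, b3⟩)
    · -- n₃ swaps z, e₃
      exact fin (n₁ * n₃) (hmulN n₁ n₃ hn₁ hn₃)
        (Or.inr ⟨by rw [cm, b1, a3], by rw [cm, b2, a2], by rw [cm, b3, a1]⟩)
  · exact fin n₁ hn₁ (Or.inl ⟨a1, a2, a3⟩)
  · exact fin n₁ hn₁ (Or.inr ⟨a1, a2, a3⟩)
  · -- n₁ swaps z, e₃
    rcases act6 n₂ hn₂ with ⟨b1, b2, b3⟩ | ⟨b1, b2, b3⟩ | ⟨b1, b2, b3⟩ | ⟨b1, b2, b3⟩ |
      ⟨b1, b2, b3⟩ | ⟨b1, b2, b3⟩
    · exact absurd b2 hm₂
    · -- n₂ swaps z₂, e₃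
      exact fin (n₁ * n₂) (hmulN n₁ n₂ hn₁ hn₂)
        (Or.inr ⟨by rw [cm, b1, a1], by rw [cm, b2, a3], by rw [cm, b3, a2]⟩)
    · -- n₂ swaps z, z₂
      exact fin (n₁ * n₂) (hmulN n₁ n₂ hn₁ hn₂)
        (Or.inl ⟨by rw [cm, b1, a2], by rw [cm, b2, a1], by rw [cm, b3, a3]⟩)
    · exact fin n₂ hn₂ (Or.inl ⟨b1, b2, b3⟩)
    · exact fin n₂ hn₂ (Or.inr ⟨b1, b2, b3⟩)
    · exact absurd b2 hm₂

end Cfsg.Agent.H76.Fus2
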