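import Mathlib
import Cfsg.Agent.H76.Fus2
import Cfsg.Agent.H28.NormalRank2
import Cfsg.Agent.H60.SuzSU
import Cfsg.Agent.S1237
import Cfsg.Agent.H40.McTwo
import Cfsg.Agent.H80.WrSwap
import Cfsg.Agent.H20.NoSwap

/-!
# Fusion-simple groups of 2-rank 2: assembly
-/

set_option autoImplicit false

namespace Cfsg.Agent.H76.Fus2

open Cfsg.Agent.H60 Cfsg.Agent.H76.CubeOne

universe u

theorem quasi_of_equiv {S T : Type*} [Group S] [Group T] (e : S ≃* T)
    (h : Cfsg.IsQuasiDihedral S) : Cfsg.IsQuasiDihedral T := by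
  obtain ⟨n, hn, hcard, x, y, hx, hy, hxy⟩ := h
  refine ⟨n, hn, ?_, e x, e y, ?_, ?_, ?_⟩
  · rw [← hcard]; exact (Nat.card_congr e.toEquiv).symm
  · rw [← hx]; exact e.orderOf_eq x
  · rw [← hy]; exact e.orderOf_eq y
  · rw [← map_inv, ← map_mul, ← map_mul, hxy, map_pow]

theorem wreathed_of_equiv {S T : Type*} [Group S] [Group T] (e : S ≃* T)
    (h : Cfsg.IsWreathed S) : Cfsg.IsWreathed T := by
  obtain ⟨n, hn, hcard, x, y, z, hx, hxy, hint, hz, hzx⟩ := h
  refine ⟨n, hn, ?_, e x, e y, e z, ?_, ?_, ?_, ?_, ?_⟩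
  · rw [← hcard]; exact (Nat.card_congr e.toEquiv).symm
  · rw [← hx]; exact e.orderOf_eq x
  · rw [← map_mul, ← map_mul, hxy]
  · have h1 : Subgroup.zpowers (e x) = (Subgroup.zpowers x).map e.toMonoidHom := by
      rw [MonoidHom.map_zpowers]; rfl
    have h2 : Subgroup.zpowers (e y) = (Subgroup.zpowers y).map e.toMonoidHom := by
      rw [MonoidHom.map_zpowers]; rfl
    rw [h1, h2, ← Subgroup.map_inf_eq _ _ _ e.injective, hint, Subgroup.map_bot]
  · rw [← hz]; exact e.orderOf_eq z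
  · rw [← map_inv, ← map_mul, ← map_mul, hzx]

theorem prank_sub {G : Type*} [Group G] (h2 : Cfsg.PRankLE 2 2 G) (H : Subgroup G) :
    Cfsg.PRankLE 2 2 ↥H := by
  by_contra h
  obtain ⟨A, -, hA1, hA2, hA3⟩ := (Cfsg.Agent.H28.not_pRankLE_subgroup_iff 2 2 H).mp h
  have := h2 A hA1 hA2
  omega

theorem three_le_card {α : Type*} [Finite α] {a b c : α} (hab : a ≠ b) (hac : a ≠ c)
    (hbc : b ≠ c) : 3 ≤ Nat.card α := by
  classical
  let _ : Fintype α := Fintype.ofFinite α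
  have h1 := Finset.card_le_univ ({a, b, c} : Finset α)
  rw [Finset.card_insert_of_notMem (by simp [hab, hac]),
    Finset.card_insert_of_notMem (by simp [hbc]), Finset.card_singleton] at h1
  rw [Nat.card_eq_fintype_card]
  exact h1

theorem not_prank_one {G : Type*} [Group G] [Finite G] (H : Subgroup G) {z z' : G}
    (hzH : z ∈ H) (hz'H : z' ∈ H) (hz : z * z = 1) (hz' : z' * z' = 1) (hz1 : z ≠ 1)
    (hz'1 : z' ≠ 1) (hne : z ≠ z') (hc : z * z' = z' * z) : ¬ Cfsg.PRankLE 2 1 ↥H := by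
  rw [Cfsg.Agent.H28.not_pRankLE_subgroup_iff]
  have hS : ∀ a ∈ ({z, z'} : Set G), ∀ b ∈ ({z, z'} : Set G), a * b = b * a := by
    intro a ha b hb
    simp only [Set.mem_insert_iff, Set.mem_singleton_iff] at ha hb
    rcases ha with rfl | rfl <;> rcases hb with rfl | rfl <;>
      first | rfl | assumption | (symm; assumption)
  have hcl : IsMulCommutative ↥(Subgroup.closure ({z, z'} : Set G)) :=
    Subgroup.isMulCommutative_closure hS
  have hzA : z ∈ Subgroup.closure ({z, z'} : Set G) := Subgroup.subset_closure (by simp)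
  have hz'A : z' ∈ Subgroup.closure ({z, z'} : Set G) := Subgroup.subset_closure (by simp)
  refine ⟨Subgroup.closure ({z, z'} : Set G), ?_, hcl, ?_, ?_⟩
  · rw [Subgroup.closure_le]
    intro a ha
    simp only [Set.mem_insert_iff, Set.mem_singleton_iff] at ha
    rcases ha with rfl | rfl <;> assumption
  · intro a ha
    induction ha using Subgroup.closure_induction with
    | mem y hy =>
      simp only [Set.mem_insert_iff, Set.mem_singleton_iff] at hy
      rcases hy with rfl | rfl <;> rw [pow_two] <;> assumption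
    | one => exact one_pow 2
    | mul a b ha hb iha ihb =>
      have hab : a * b = b * a :=
        congrArg Subtype.val ((isMulCommutative_iff.mp hcl) ⟨a, ha⟩ ⟨b, hb⟩)
      have hab' : Commute a b := hab
      rw [hab'.mul_pow, iha, ihb, one_mul]
    | inv a ha iha => rw [inv_pow, iha, inv_one]
  · have h3 := three_le_card (α := ↥(Subgroup.closure ({z, z'} : Set G))) (a := 1)
      (b := ⟨z, hzA⟩) (c := ⟨z', hz'A⟩) (fun h => hz1 (congrArg Subtype.val h).symm)
      (fun h => hz'1 (congrArg Subtype.val h).symm) (fun h => hne (congrArg Subtype.val h))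
    norm_num
    omega

theorem card_homo (m : ℕ) :
    Nat.card (Multiplicative (ZMod (2 ^ m) × ZMod (2 ^ m))) = 2 ^ m * 2 ^ m := by
  rw [Nat.card_congr Multiplicative.toAdd, Nat.card_prod, Nat.card_zmod]

theorem sq_one_homo_one (y : Multiplicative (ZMod (2 ^ 1) × ZMod (2 ^ 1))) : y * y = 1 := by
  revert y
  decide

/-- Case 1: the centre of `S` contains a four-group. -/
theorem case_central {G : Type u} [Group G] [Finite G] (h2 : Cfsg.PRankLE 2 2 G)
    (hiso : ∀ y : G, ¬ Cfsg.IsIsolatedInvolution y) (S : Sylow 2 G) (z z₂ : G)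
    (hzS : z ∈ (S : Subgroup G)) (hz₂S : z₂ ∈ (S : Subgroup G))
    (hzc : ∀ x ∈ (S : Subgroup G), z * x = x * z)
    (hz₂c : ∀ x ∈ (S : Subgroup G), z₂ * x = x * z₂)
    (hz : z * z = 1) (hz1 : z ≠ 1) (hz₂ : z₂ * z₂ = 1) (hz₂1 : z₂ ≠ 1) (hne : z ≠ z₂)
    {F : Type*} [Field F] [Fintype F] (hF : Fintype.card F = 16)
    (P : Sylow 2 (Cfsg.PSU 3 F 4)) :
    (∃ m : ℕ, 2 ≤ m ∧ Nonempty ((S : Subgroup G) ≃* DihedralGroup m)) ∨
      Cfsg.IsQuasiDihedral (S : Subgroup G) ∨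
      (∃ n : ℕ, 2 ≤ n ∧
        Nonempty ((S : Subgroup G) ≃* Multiplicative (ZMod (2 ^ n) × ZMod (2 ^ n)))) ∨
      Nonempty ((S : Subgroup G) ≃* (P : Subgroup (Cfsg.PSU 3 F 4))) := by
  have hp2 : Fact (Nat.Prime 2) := ⟨Nat.prime_two⟩
  obtain ⟨n, hn, htr⟩ := central_four h2 S z z₂ hzS hz₂S hzc hz₂c hz hz1 hz₂ hz₂1 hne hiso
  let φ : MulAut ↥(S : Subgroup G) := resAut (MulAut.conj n) (S : Subgroup G)
    (fun x hx => by rw [MulAut.conj_apply]; exact hn x hx)
  have htrans : ∀ a b : ↥(S : Subgroup G), orderOf a = 2 → orderOf b = 2 →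
      ∃ k : ℕ, (φ ^ k) a = b := by
    intro a b ha hb
    obtain ⟨k, hk⟩ := htr a.1 a.2 b.1 b.2 (by rw [Subgroup.orderOf_coe]; exact ha)
      (by rw [Subgroup.orderOf_coe]; exact hb)
    exact ⟨k, Subtype.ext (by rw [resAut_pow, ← map_pow, MulAut.conj_apply]; exact hk)⟩
  have h1S : ¬ Cfsg.PRankLE 2 1 ↥(S : Subgroup G) :=
    not_prank_one _ hzS hz₂S hz hz₂ hz1 hz₂1 hne (hzc z₂ hz₂S)
  rcases Cfsg.Agent.S1237.result S.isPGroup' (prank_sub h2 _) h1S φ htrans hF P with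
    ⟨m, hm, he⟩ | he
  · obtain ⟨e⟩ := he
    by_cases hm1 : m = 1
    · subst hm1
      have key := Cfsg.Agent.H40.TwoRank.mc_two (S := ↥(S : Subgroup G)) S.isPGroup' ⊤ ?_ ?_ ?_
      · rcases key with h | h
        · exact Or.inl h
        · exact Or.inr (Or.inl h)
      · rw [Subgroup.card_top, Nat.card_congr e.toEquiv, card_homo]
        norm_num
      · intro x _
        have h1 : e x * e x = 1 := sq_one_homo_one _
        rw [← map_mul] at h1
        exact e.injective (by rw [h1, map_one])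
      · ext x
        simp only [Subgroup.mem_centralizer_iff, Subgroup.mem_top, iff_true]
        intro y _
        exact e.injective (by rw [map_mul, map_mul, mul_comm])
    · exact Or.inr (Or.inr (Or.inl ⟨m, by omega, ⟨e⟩⟩))
  · exact Or.inr (Or.inr (Or.inr he))

/-- Case 2: the tame four-group configuration. -/
theorem case_tame {G : Type u} [Group G] [Finite G] (h2 : Cfsg.PRankLE 2 2 G)
    (S₁ : Sylow 2 G) (Q : Subgroup G) (z z' s ρ : G)
    (hQS₁ : Q ≤ (S₁ : Subgroup G)) (hzQ : z ∈ Q) (hz'Q : z' ∈ Q) (hz : z * z = 1) (hz1 : z ≠ 1)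
    (hz' : z' * z' = 1) (hz'1 : z' ≠ 1) (hne : z ≠ z') (hzz' : z * z' = z' * z)
    (hzc : ∀ x ∈ (S₁ : Subgroup G), z * x = x * z)
    (hS₁Q : ∀ x ∈ (S₁ : Subgroup G), x * z' = z' * x → x ∈ Q)
    (hinv : ∀ q ∈ Q, q * q = 1 → q = 1 ∨ q = z ∨ q = z' ∨ q = z * z')
    (hsS : s ∈ (S₁ : Subgroup G)) (hsQ : s ∉ Q) (hsn : ∀ q ∈ Q, s * q * s⁻¹ ∈ Q)
    (hsz' : s * z' * s⁻¹ = z * z')
    (hρn : ∀ q ∈ Q, ρ * q * ρ⁻¹ ∈ Q) (hρ1 : ρ * z * ρ⁻¹ = z * z') (hρ2 : ρ * z' * ρ⁻¹ = z)
    (hρ3 : ρ * (z * z') * ρ⁻¹ = z')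
    {F : Type*} [Field F] [Fintype F] (hF : Fintype.card F = 16)
    (P : Sylow 2 (Cfsg.PSU 3 F 4)) :
    (∃ m : ℕ, 2 ≤ m ∧ Nonempty ((S₁ : Subgroup G) ≃* DihedralGroup m)) ∨
      Cfsg.IsQuasiDihedral (S₁ : Subgroup G) ∨ Cfsg.IsWreathed (S₁ : Subgroup G) := by
  have hp2 : Fact (Nat.Prime 2) := ⟨Nat.prime_two⟩
  have hQp : IsPGroup 2 ↥Q := S₁.isPGroup'.to_le hQS₁
  have hsz : s * z * s⁻¹ = z := by rw [← hzc s hsS, mul_inv_cancel_right]
  let φ : MulAut ↥Q := resAut (MulAut.conj ρ) Q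
    (fun x hx => by rw [MulAut.conj_apply]; exact hρn x hx)
  have hφk : ∀ (k : ℕ) (q : ↥Q), (((φ ^ k) q : ↥Q) : G) = ρ ^ k * q * (ρ ^ k)⁻¹ := by
    intro k q
    rw [resAut_pow, ← map_pow, MulAut.conj_apply]
  have hord2 : ∀ q : ↥Q, orderOf q = 2 → (q : G) = z ∨ (q : G) = z' ∨ (q : G) = z * z' := by
    intro q hq
    have h1 : (q : G) * q = 1 := by
      have h0 : q * q = 1 := by rw [← pow_two, ← hq]; exact pow_orderOf_eq_one q
      exact congrArg Subtype.val h0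
    have h0 : (q : G) ≠ 1 := by
      intro h
      have h3 : q = 1 := Subtype.ext h
      rw [h3, orderOf_one] at hq
      norm_num at hq
    rcases hinv q q.2 h1 with h | h | h | h
    · exact absurd h h0
    · exact Or.inl h
    · exact Or.inr (Or.inl h)
    · exact Or.inr (Or.inr h)
  have htrans : ∀ a b : ↥Q, orderOf a = 2 → orderOf b = 2 → ∃ k : ℕ, (φ ^ k) a = b := by
    intro a b ha hb
    have c2 : ∀ y : G, ρ ^ 2 * y * (ρ ^ 2)⁻¹ = ρ * (ρ * y * ρ⁻¹) * ρ⁻¹ := fun y => by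
      rw [pow_two]; group
    have c1 : ∀ y : G, ρ ^ 1 * y * (ρ ^ 1)⁻¹ = ρ * y * ρ⁻¹ := fun y => by rw [pow_one]
    have c0 : ∀ y : G, ρ ^ 0 * y * (ρ ^ 0)⁻¹ = y := fun y => by rw [pow_zero]; group
    rcases hord2 a ha with h | h | h <;> rcases hord2 b hb with h' | h' | h'
    · exact ⟨0, Subtype.ext (by rw [hφk, c0, h, h'])⟩
    · exact ⟨2, Subtype.ext (by rw [hφk, c2, h, h', hρ1, hρ3])⟩
    · exact ⟨1, Subtype.ext (by rw [hφk, c1, h, h', hρ1])⟩
    · exact ⟨1, Subtype.ext (by rw [hφk, c1, h, h', hρ2])⟩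
    · exact ⟨0, Subtype.ext (by rw [hφk, c0, h, h'])⟩
    · exact ⟨2, Subtype.ext (by rw [hφk, c2, h, h', hρ2, hρ1])⟩
    · exact ⟨2, Subtype.ext (by rw [hφk, c2, h, h', hρ3, hρ2])⟩
    · exact ⟨1, Subtype.ext (by rw [hφk, c1, h, h', hρ3])⟩
    · exact ⟨0, Subtype.ext (by rw [hφk, c0, h, h'])⟩
  have h1Q : ¬ Cfsg.PRankLE 2 1 ↥Q := not_prank_one Q hzQ hz'Q hz hz' hz1 hz'1 hne hzz'
  have hs2Q : s * s ∈ Q := by
    apply hS₁Q _ (Subgroup.mul_mem _ hsS hsS)
    have e1 : s * (z * z') * s⁻¹ = z' := by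
      calc s * (z * z') * s⁻¹ = (s * z * s⁻¹) * (s * z' * s⁻¹) := by group
        _ = z * (z * z') := by rw [hsz, hsz']
        _ = z' := by rw [← mul_assoc, hz, one_mul]
    calc s * s * z' = s * (s * z' * s⁻¹) * s := by group
      _ = s * (z * z') * s := by rw [hsz']
      _ = (s * (z * z') * s⁻¹) * s * s := by group
      _ = z' * (s * s) := by rw [e1, mul_assoc]
  have hszne : s * z' * s⁻¹ ≠ z' := by
    intro h1
    rw [hsz'] at h1
    exact hz1 (mul_right_cancel (b := z') (by rw [one_mul]; exact h1))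
  have hQcomm_of : ∀ (m : ℕ) (e : ↥Q ≃* Multiplicative (ZMod (2 ^ m) × ZMod (2 ^ m)))
      (a b : G), a ∈ Q → b ∈ Q → a * b = b * a := by
    intro m e a b ha hb
    have h0 : (⟨a, ha⟩ : ↥Q) * ⟨b, hb⟩ = ⟨b, hb⟩ * ⟨a, ha⟩ :=
      e.injective (by rw [map_mul, map_mul, mul_comm])
    exact congrArg Subtype.val h0
  rcases Cfsg.Agent.S1237.result hQp (prank_sub h2 Q) h1Q φ htrans hF P with
    ⟨m, hm, he⟩ | he
  · obtain ⟨e⟩ := he
    by_cases hm1 : m = 1
    · subst hm1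
      have key := Cfsg.Agent.H40.TwoRank.mc_two (S := ↥(S₁ : Subgroup G)) S₁.isPGroup'
        (Q.subgroupOf (S₁ : Subgroup G)) ?_ ?_ ?_
      · rcases key with h | h
        · exact Or.inl h
        · exact Or.inr (Or.inl h)
      · rw [Nat.card_congr (Subgroup.subgroupOfEquivOfLe hQS₁).toEquiv,
          Nat.card_congr e.toEquiv, card_homo]
        norm_num
      · intro x hx
        rw [Subgroup.mem_subgroupOf] at hx
        have h1 : e ⟨x.1, hx⟩ * e ⟨x.1, hx⟩ = 1 := sq_one_homo_one _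
        rw [← map_mul] at h1
        have h3 : (⟨x.1, hx⟩ : ↥Q) * ⟨x.1, hx⟩ = 1 := e.injective (by rw [h1, map_one])
        have h4 : x.1 * x.1 = 1 := congrArg Subtype.val h3
        exact Subtype.ext h4
      · ext x
        rw [Subgroup.mem_centralizer_iff, Subgroup.mem_subgroupOf]
        constructor
        · intro h
          apply hS₁Q x.1 x.2
          have h1 := h ⟨z', hQS₁ hz'Q⟩ (by
            rw [SetLike.mem_coe, Subgroup.mem_subgroupOf]; exact hz'Q)
          exact (congrArg Subtype.val h1).symm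
        · intro hx y hy
          rw [SetLike.mem_coe, Subgroup.mem_subgroupOf] at hy
          exact Subtype.ext (hQcomm_of 1 e y.1 x.1 hy hx)
    · have hm2 : 2 ≤ m := by omega
      have hQab := hQcomm_of m e
      right; right
      obtain ⟨W₀, hW₀⟩ : ∃ W₀ : Subgroup G,
          W₀ = (S₁ : Subgroup G) ⊓ Subgroup.normalizer (Q : Set G) := ⟨_, rfl⟩
      have hmemN : ∀ w : G, (∀ q ∈ Q, w * q * w⁻¹ ∈ Q) →
          w ∈ Subgroup.normalizer (Q : Set G) := by
        intro w hw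
        rw [Subgroup.mem_normalizer_iff]
        intro q
        have h0 := mem_iff_of_inv (MulAut.conj w) Q
          (fun x hx => by rw [MulAut.conj_apply]; exact hw x hx) q
        rw [MulAut.conj_apply] at h0
        exact h0.symm
      have hQW : Q ≤ W₀ := by rw [hW₀]; exact le_inf hQS₁ Subgroup.le_normalizer
      have hsW : s ∈ W₀ := by rw [hW₀]; exact ⟨hsS, hmemN s hsn⟩
      have hWS : W₀ ≤ (S₁ : Subgroup G) := by rw [hW₀]; exact inf_le_left
      have hWn : ∀ w ∈ W₀, ∀ q ∈ Q, w * q * w⁻¹ ∈ Q := by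
        intro w hw q hq
        rw [hW₀] at hw
        exact (Subgroup.mem_normalizer_iff.mp hw.2 q).mp hq
      have hWdich : ∀ w ∈ W₀, w ∈ Q ∨ s⁻¹ * w ∈ Q := by
        intro w hw
        have hwS := hWS hw
        have h1 := hWn w hw z' hz'Q
        have h2' : (w * z' * w⁻¹) * (w * z' * w⁻¹) = 1 := by
          calc (w * z' * w⁻¹) * (w * z' * w⁻¹) = w * (z' * z') * w⁻¹ := by group
            _ = 1 := by rw [hz']; group
        have hwz : w * z * w⁻¹ = z := by rw [← hzc w hwS, mul_inv_cancel_right]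
        rcases hinv _ h1 h2' with h | h | h | h
        · exfalso
          apply hz'1
          calc z' = w⁻¹ * (w * z' * w⁻¹) * w := by group
            _ = 1 := by rw [h]; group
        · exfalso
          apply hne
          exact (mul_left_cancel (mul_right_cancel (h.trans hwz.symm))).symm
        · left
          apply hS₁Q w hwS
          calc w * z' = (w * z' * w⁻¹) * w := by group
            _ = z' * w := by rw [h]
        · right
          apply hS₁Q _ (Subgroup.mul_mem _ (Subgroup.inv_mem _ hsS) hwS)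
          calc s⁻¹ * w * z' = s⁻¹ * (w * z' * w⁻¹) * w := by group
            _ = s⁻¹ * (s * z' * s⁻¹) * w := by rw [h, hsz']
            _ = z' * (s⁻¹ * w) := by group
      obtain ⟨⟨a, b, t, ha, hab, hint, ht, htab⟩, hcardW, huniqA⟩ :=
        Cfsg.Agent.H80.Wr.wreathed_of_swap (W := ↥W₀) (Q.subgroupOf W₀) m hm
          ((Subgroup.subgroupOfEquivOfLe hQW).trans e) ⟨s, hsW⟩
          (by rw [Subgroup.mem_subgroupOf]; exact hsQ)
          (by
            intro w
            rcases hWdich w.1 w.2 with h | h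
            · left; rw [Subgroup.mem_subgroupOf]; exact h
            · right; rw [Subgroup.mem_subgroupOf]; exact h)
          (by
            intro q hq
            rw [Subgroup.mem_subgroupOf] at hq ⊢
            exact hsn q.1 hq)
          ⟨z', hQW hz'Q⟩ (by rw [Subgroup.mem_subgroupOf]; exact hz'Q)
          (Subtype.ext hz')
          (fun h => hszne (congrArg Subtype.val h))
      have hS₁W : (S₁ : Subgroup G) ≤ W₀ := by
        by_contra hnot
        obtain ⟨w, hwS, hwW, hwn⟩ :=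
          exists_normalizing (S₁ : Subgroup G) W₀ S₁.isPGroup' hWS hnot
        apply hwW
        rw [hW₀]
        refine ⟨hwS, hmemN w ?_⟩
        have hmapW : Q.map (MulAut.conj w).toMonoidHom ≤ W₀ := by
          rintro _ ⟨q, hq, rfl⟩
          exact hwn q (hQW hq)
        have hA := huniqA hm2 ((Q.map (MulAut.conj w).toMonoidHom).subgroupOf W₀) ?_ ?_
        · intro q hq
          have h1 : (⟨w * q * w⁻¹, hwn q (hQW hq)⟩ : ↥W₀) ∈
              (Q.map (MulAut.conj w).toMonoidHom).subgroupOf W₀ := by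
            rw [Subgroup.mem_subgroupOf]
            exact ⟨q, hq, rfl⟩
          rw [hA, Subgroup.mem_subgroupOf] at h1
          exact h1
        · intro x hx y hy
          rw [Subgroup.mem_subgroupOf] at hx hy
          obtain ⟨q1, hq1, hx1⟩ := hx
          obtain ⟨q2, hq2, hy1⟩ := hy
          apply Subtype.ext
          show x.1 * y.1 = y.1 * x.1
          rw [← hx1, ← hy1]
          show w * q1 * w⁻¹ * (w * q2 * w⁻¹) = w * q2 * w⁻¹ * (w * q1 * w⁻¹)
          calc w * q1 * w⁻¹ * (w * q2 * w⁻¹) = w * (q1 * q2) * w⁻¹ := by group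
            _ = w * (q2 * q1) * w⁻¹ := by rw [hQab q1 q2 hq1 hq2]
            _ = w * q2 * w⁻¹ * (w * q1 * w⁻¹) := by group
        · rw [Nat.card_congr (Subgroup.subgroupOfEquivOfLe hmapW).toEquiv,
            Subgroup.card_map_of_injective (MulAut.conj w).injective,
            Nat.card_congr (Subgroup.subgroupOfEquivOfLe hQW).toEquiv]
      have hEq : W₀ = (S₁ : Subgroup G) := le_antisymm hWS hS₁W
      exact wreathed_of_equiv (MulEquiv.subgroupCongr hEq)
        ⟨m, hm2, hcardW, a, b, t, ha, hab, hint, ht, htab⟩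
  · exfalso
    obtain ⟨e⟩ := he
    have hS2 : SuzFin F 2 := ⟨hF.trans (by norm_num), by norm_num⟩
    obtain ⟨e₂⟩ := sylow_psu_iso (F := F) (n := 2) P
    let κ : MulAut ↥Q := resAut (MulAut.conj s) Q
      (fun x hx => by rw [MulAut.conj_apply]; exact hsn x hx)
    refine Cfsg.Agent.H20.TwoRank.no_swap (T := ↥Q) (e.trans e₂.symm) κ ⟨s * s, hs2Q⟩ ?_ ⟨z, hzQ⟩ ⟨z', hz'Q⟩
      (Subtype.ext hz) (Subtype.ext hz') (fun h => hz1 (congrArg Subtype.val h))
      (fun h => hz'1 (congrArg Subtype.val h)) (fun h => hne (congrArg Subtype.val h))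
      (Subtype.ext hsz) (fun h => hszne (congrArg Subtype.val h))
    intro g
    apply Subtype.ext
    show s * (s * g.1 * s⁻¹) * s⁻¹ = (s * s) * g.1 * (s * s)⁻¹
    group

/-- Fusion-simple groups of 2-rank 2 (the hypothesis on subgroups of index 2 is not needed). -/
theorem main {G : Type u} [Group G] [Finite G] (h2 : Cfsg.PRankLE 2 2 G)
    (h1 : ¬ Cfsg.PRankLE 2 1 G) (hiso : ∀ z : G, ¬ Cfsg.IsIsolatedInvolution z)
    (S : Sylow 2 G) {F : Type*} [Field F] [Fintype F] (hF : Fintype.card F = 16)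
    (P : Sylow 2 (Cfsg.PSU 3 F 4)) :
    (∃ m : ℕ, 2 ≤ m ∧ Nonempty ((S : Subgroup G) ≃* DihedralGroup m)) ∨
      Cfsg.IsQuasiDihedral (S : Subgroup G) ∨ Cfsg.IsWreathed (S : Subgroup G) ∨
      (∃ n : ℕ, 2 ≤ n ∧
        Nonempty ((S : Subgroup G) ≃* Multiplicative (ZMod (2 ^ n) × ZMod (2 ^ n)))) ∨
      Nonempty ((S : Subgroup G) ≃* (P : Subgroup (Cfsg.PSU 3 F 4))) := by
  have hp2 : Fact (Nat.Prime 2) := ⟨Nat.prime_two⟩
  have h1' := h1
  unfold Cfsg.PRankLE at h1'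
  push Not at h1'
  obtain ⟨A, hAc, hA2, hAcard⟩ := h1'
  have hSnt : Nontrivial ↥(S : Subgroup G) := by
    rw [Subgroup.nontrivial_iff_ne_bot]
    apply Sylow.ne_bot_of_dvd_card
    have hAnt : Nontrivial ↥A := by
      rw [← Finite.one_lt_card_iff_nontrivial]
      omega
    obtain ⟨a, ha⟩ := exists_ne (1 : ↥A)
    have ha2 : (a : G) ^ 2 = 1 := hA2 a.1 a.2
    have ha1 : (a : G) ≠ 1 := fun h => ha (Subtype.ext h)
    have ho : orderOf (a : G) = 2 := orderOf_eq_prime ha2 ha1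
    rw [← ho]
    exact orderOf_dvd_natCard _
  obtain ⟨z0, hz0c, hz01, hz02⟩ :=
    Cfsg.Agent.H14.Suz.exists_central_invol (P := ↥(S : Subgroup G)) S.isPGroup'
  have hzc : ∀ x ∈ (S : Subgroup G), (z0 : G) * x = x * z0 := by
    intro x hx
    have h0 := Subgroup.mem_center_iff.mp hz0c ⟨x, hx⟩
    exact (congrArg Subtype.val h0).symm
  have hz : (z0 : G) * z0 = 1 := congrArg Subtype.val hz02
  have hz1 : (z0 : G) ≠ 1 := fun h => hz01 (Subtype.ext h)
  by_cases hcase : ∃ z₂ ∈ (S : Subgroup G), (∀ x ∈ (S : Subgroup G), z₂ * x = x * z₂) ∧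
      z₂ * z₂ = 1 ∧ z₂ ≠ 1 ∧ z₂ ≠ (z0 : G)
  · obtain ⟨z₂, hz₂S, hz₂c, hz₂, hz₂1, hz₂ne⟩ := hcase
    rcases case_central h2 hiso S z0 z₂ z0.2 hz₂S hzc hz₂c hz hz1 hz₂ hz₂1 (Ne.symm hz₂ne) hF P
      with h | h | h | h
    · exact Or.inl h
    · exact Or.inr (Or.inl h)
    · exact Or.inr (Or.inr (Or.inr (Or.inl h)))
    · exact Or.inr (Or.inr (Or.inr (Or.inr h)))
  · push Not at hcase
    have huniq : ∀ y ∈ (S : Subgroup G), (∀ x ∈ (S : Subgroup G), y * x = x * y) →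
        y * y = 1 → y = 1 ∨ y = (z0 : G) := by
      intro y hy hyc hy2
      by_cases hy1 : y = 1
      · exact Or.inl hy1
      · exact Or.inr (hcase y hy hyc hy2 hy1)
    obtain ⟨S₁, Q, z', s, ρ, hQS₁, hzQ, hz'Q, hz', hz'1, hne, hzz', hzc₁, hS₁Q, -, hinv, hsS,
      hsQ, hsn, hsz', hρn, hρ1, hρ2, hρ3⟩ := tame h2 S z0 z0.2 hzc hz hz1 huniq (hiso _)
    have key := case_tame h2 S₁ Q z0 z' s ρ hQS₁ hzQ hz'Q hz hz1 hz' hz'1 hne hzz' hzc₁ hS₁Q
      hinv hsS hsQ hsn hsz' hρn hρ1 hρ2 hρ3 hF P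
    have eS : ↥(S₁ : Subgroup G) ≃* ↥(S : Subgroup G) := Sylow.equiv S₁ S
    rcases key with ⟨m, hm, ⟨e⟩⟩ | h | h
    · exact Or.inl ⟨m, hm, ⟨eS.symm.trans e⟩⟩
    · exact Or.inr (Or.inl (quasi_of_equiv eS h))
    · exact Or.inr (Or.inr (Or.inl (wreathed_of_equiv eS h)))

end Cfsg.Agent.H76.Fus2
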