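import Mathlib
import Cfsg.Agent.Lib.Helper30.BG134Defs
import Cfsg.Agent.H63.Sig
import Cfsg.Agent.H76.BG10x
import Cfsg.Agent.H76.BG1213
import Cfsg.Agent.Helper55.PRankOne

set_option autoImplicit false
set_option linter.style.haveILetI false

/-!
# B&G 13.4 (S1428), piece B2L (helper76, for helper30's project BG134)

`b2l : IsMinSimpleOddOrder G → StSigComm G → St1405 G → St1424 G → StB2L G`.

In a configuration with `q ∉ σ(H)` and `H` of `q`-rank one, the subgroup `X` of order `q` of the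
cyclic group `Q1` has `N_G(X) ≤ L` for a maximal subgroup `L ≠ H`, and `H = H_α (H ∩ L)`.
-/

namespace Cfsg.Agent.H76.BG134B2L

open Cfsg Subgroup Cfsg.Agent.H58.BG10 Cfsg.Agent.H76.BG10 Cfsg.Agent.H76.BG12 Cfsg.Agent.H63.Sig
  Cfsg.Agent.Lib.Helper30.BG134
open scoped Pointwise

universe u

/-- Frattini with a Sylow subgroup `T` of a normal subgroup `C`: if `N ≤ C` are normal in `H`
and the image of `C` in `H ⧸ N` is nilpotent, then `H = N · N_H(T)`. -/
theorem frattini_nilpotent_sub {H : Type u} [Group H] [Finite H] {q : ℕ} [Fact q.Prime]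
    (N C : Subgroup H) [N.Normal] [C.Normal] (hNC : N ≤ C)
    (hD : Group.IsNilpotent ↥(C.map (QuotientGroup.mk' N)))
    (T : Subgroup H) (hTq : IsPGroup q T) (hTC : T ≤ C) (hidx : ¬ q ∣ T.relIndex C) (m : H) :
    ∃ a ∈ N, ∃ n ∈ normalizer (T : Set H), m = a * n := by
  classical
  obtain ⟨D, hDdef⟩ : ∃ D : Subgroup (H ⧸ N), D = C.map (QuotientGroup.mk' N) := ⟨_, rfl⟩
  rw [← hDdef] at hD
  -- the restriction of the quotient map to `C`
  obtain ⟨f', hf'⟩ : ∃ f' : ↥C →* ↥(C.map (QuotientGroup.mk' N)),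
      f' = (QuotientGroup.mk' N).subgroupMap C := ⟨_, rfl⟩
  have hsurj : Function.Surjective f' := by
    rw [hf']; exact (QuotientGroup.mk' N).subgroupMap_surjective C
  have hf'val : ∀ c : ↥C, ((f' c : ↥(C.map (QuotientGroup.mk' N))) : H ⧸ N) =
      QuotientGroup.mk' N (c : H) := by
    intro c; rw [hf']; rfl
  have hTCq : IsPGroup q ↥(T.subgroupOf C) := hTq.comap_subtype
  obtain ⟨PC, hPC⟩ : ∃ PC : Sylow q ↥C, (PC : Subgroup ↥C) = T.subgroupOf C :=
    ⟨hTCq.toSylow hidx, IsPGroup.toSylow_coe _ _⟩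
  have hD' : Group.IsNilpotent ↥(C.map (QuotientGroup.mk' N)) := by rw [← hDdef]; exact hD
  have htfae : Group.IsNilpotent ↥(C.map (QuotientGroup.mk' N)) ↔
      ∀ (p : ℕ) (_hp : Fact p.Prime) (P : Sylow p ↥(C.map (QuotientGroup.mk' N))),
        (↑P : Subgroup ↥(C.map (QuotientGroup.mk' N))).Normal :=
    (Group.isNilpotent_of_finite_tfae (G := ↥(C.map (QuotientGroup.mk' N)))).out 0 3
  have hn : ((PC.mapSurjective hsurj : Sylow q ↥(C.map (QuotientGroup.mk' N))) :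
      Subgroup ↥(C.map (QuotientGroup.mk' N))).Normal := htfae.1 hD' q inferInstance _
  have hu := Sylow.unique_of_normal (PC.mapSurjective hsurj) hn
  -- `T N` is normal in `H`
  have hconj : ∀ h : H, ∀ s ∈ T, h * s * h⁻¹ ∈ T ⊔ N := by
    intro h s hs
    have hyC : h * s * h⁻¹ ∈ C := (inferInstance : C.Normal).conj_mem s (hTC hs) h
    obtain ⟨k, hk⟩ := hTq ⟨s, hs⟩
    have hsk : s ^ q ^ k = 1 := by
      have := congrArg Subtype.val hk
      simpa using this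
    have hyk : (⟨h * s * h⁻¹, hyC⟩ : ↥C) ^ q ^ k = 1 := by
      apply Subtype.ext
      simp only [Subgroup.coe_pow, Subgroup.coe_one]
      rw [conj_pow, hsk, mul_one, mul_inv_cancel]
    have hzk : (f' ⟨h * s * h⁻¹, hyC⟩) ^ q ^ k = 1 := by
      rw [← map_pow, hyk, map_one]
    have hZq : IsPGroup q ↥(zpowers (f' ⟨h * s * h⁻¹, hyC⟩)) := by
      rintro ⟨g, hg⟩
      refine ⟨k, ?_⟩
      apply Subtype.ext
      obtain ⟨i, rfl⟩ := Subgroup.mem_zpowers_iff.mp hg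
      simp only [Subgroup.coe_pow, Subgroup.coe_one]
      rw [← zpow_natCast, ← zpow_mul, mul_comm, zpow_mul, zpow_natCast, hzk, one_zpow]
    obtain ⟨Q, hQ⟩ := hZq.exists_le_sylow
    have hQeq : Q = PC.mapSurjective hsurj := Subsingleton.elim _ _
    have hmem : f' ⟨h * s * h⁻¹, hyC⟩ ∈
        ((PC.mapSurjective hsurj : Sylow q ↥(C.map (QuotientGroup.mk' N))) :
          Subgroup ↥(C.map (QuotientGroup.mk' N))) := by
      rw [← hQeq]
      exact hQ (Subgroup.mem_zpowers _)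
    rw [Sylow.coe_mapSurjective, hPC] at hmem
    obtain ⟨t, ht, hteq⟩ := hmem
    have htT : (t : H) ∈ T := Subgroup.mem_subgroupOf.mp ht
    have h1 : QuotientGroup.mk' N (t : H) = QuotientGroup.mk' N (h * s * h⁻¹) := by
      have := congrArg Subtype.val hteq
      rw [hf'val, hf'val] at this
      exact this
    have hnN : (t : H)⁻¹ * (h * s * h⁻¹) ∈ N := by
      rw [QuotientGroup.mk'_apply, QuotientGroup.mk'_apply] at h1
      exact QuotientGroup.eq.mp h1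
    have e : h * s * h⁻¹ = (t : H) * ((t : H)⁻¹ * (h * s * h⁻¹)) := by group
    rw [e]
    exact mul_mem (Subgroup.mem_sup_left htT) (Subgroup.mem_sup_right hnN)
  obtain ⟨K, hK⟩ : ∃ K : Subgroup H, K = T ⊔ N := ⟨_, rfl⟩
  haveI hKn : K.Normal := by
    constructor
    intro k hk h
    rw [hK] at hk ⊢
    rw [Subgroup.mem_sup_of_normal_right] at hk
    obtain ⟨y, hy, z, hz, rfl⟩ := hk
    have : h * (y * z) * h⁻¹ = (h * y * h⁻¹) * (h * z * h⁻¹) := by group
    rw [this]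
    exact mul_mem (hconj h y hy)
      (Subgroup.mem_sup_right ((inferInstance : N.Normal).conj_mem z hz h))
  have hTK : T ≤ K := hK ▸ le_sup_left
  have hKC : K ≤ C := hK ▸ sup_le hTC hNC
  have hidxK : ¬ q ∣ T.relIndex K := by
    intro hd
    apply hidx
    rw [← Subgroup.relIndex_mul_relIndex T K C hTK hKC]
    exact hd.mul_right _
  have hTKq : IsPGroup q ↥(T.subgroupOf K) := hTq.comap_subtype
  obtain ⟨PK, hPK⟩ : ∃ PK : Sylow q ↥K, (PK : Subgroup ↥K) = T.subgroupOf K :=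
    ⟨hTKq.toSylow hidxK, IsPGroup.toSylow_coe _ _⟩
  have hfr := Sylow.normalizer_sup_eq_top PK
  rw [hPK, Subgroup.map_subgroupOf_eq_of_le hTK] at hfr
  have hm : m ∈ N ⊔ normalizer (T : Set H) := by
    have h3 : normalizer (T : Set H) ⊔ K ≤ N ⊔ normalizer (T : Set H) := by
      rw [hK]
      refine sup_le le_sup_right (sup_le ?_ le_sup_left)
      exact Subgroup.le_normalizer.trans le_sup_right
    exact h3 (hfr ▸ Subgroup.mem_top m)
  rw [Subgroup.mem_sup_of_normal_left] at hm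
  obtain ⟨a, ha, n, hn, rfl⟩ := hm
  exact ⟨a, ha, n, hn, rfl⟩

variable {G : Type u} [Group G] [Finite G]

/-- Frattini inside a maximal subgroup: for a Sylow `q`-subgroup `T` of `M'`,
`M = M_α · N_M(T)`. -/
theorem alphaFrat_sub (hT : StSigComm G) (h05 : St1405 G) {M : Subgroup G} (hM : IsCoatom M)
    {q : ℕ} [Fact q.Prime] (P : Sylow q ↥(commutator ↥M)) :
    ∀ m ∈ M, ∃ a ∈ alphaCore M, ∃ n ∈ M ⊓ normalizer
      ((((P : Subgroup ↥(commutator ↥M)).map (commutator ↥M).subtype).map M.subtype :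
        Subgroup G) : Set G), m = a * n := by
  intro m hm
  have hD := (h05 M hM).2.2.2.2
  have hNC := piCore_alpha_le_commutator hT h05 M hM
  obtain ⟨T₀, hT₀⟩ : ∃ T₀ : Subgroup ↥M,
      T₀ = (P : Subgroup ↥(commutator ↥M)).map (commutator ↥M).subtype := ⟨_, rfl⟩
  have hT₀q : IsPGroup q ↥T₀ := by rw [hT₀]; exact P.isPGroup'.map _
  have hT₀C : T₀ ≤ commutator ↥M := by rw [hT₀]; exact Subgroup.map_subtype_le _
  have hidx : ¬ q ∣ T₀.relIndex (commutator ↥M) := by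
    rw [hT₀, relIndex_map_subtype']
    exact P.not_dvd_index
  obtain ⟨a, ha, n, hn, hmn⟩ :=
    frattini_nilpotent_sub (piCore (alpha M) ↥M) (commutator ↥M) hNC hD T₀ hT₀q hT₀C hidx ⟨m, hm⟩
  rw [← hT₀]
  refine ⟨(a : G), Subgroup.mem_map_of_mem M.subtype ha, (n : G), ⟨n.2, ?_⟩, ?_⟩
  · show (n : G) ∈ normalizer ((T₀.map M.subtype : Subgroup G) : Set G)
    rw [Subgroup.mem_normalizer_iff] at hn ⊢
    intro g
    constructor
    · rintro ⟨t, ht, rfl⟩
      exact ⟨n * t * n⁻¹, (hn t).mp ht, rfl⟩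
    · rintro ⟨t, ht, hteq⟩
      have hgM : g ∈ M := by
        have h1 : (n : G) * g * (n : G)⁻¹ ∈ M := by rw [← hteq]; exact t.2
        have : g = (n : G)⁻¹ * ((n : G) * g * (n : G)⁻¹) * (n : G) := by group
        rw [this]
        exact mul_mem (mul_mem (inv_mem n.2) h1) n.2
      refine ⟨⟨g, hgM⟩, (hn ⟨g, hgM⟩).mpr ?_, rfl⟩
      have : n * ⟨g, hgM⟩ * n⁻¹ = t := Subtype.ext hteq.symm
      rw [this]; exact ht
  · have := congrArg Subtype.val hmn
    simpa using this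

/-- **BG134-B2L.** -/
theorem b2l (hG : IsMinSimpleOddOrder G) (hT : StSigComm G) (h05 : St1405 G) (h24 : St1424 G) :
    StB2L G := by
  intro M E H P R Q1 p r q cfg hqH hrk
  haveI : Fact q.Prime := ⟨cfg.hq⟩
  have hq2 : q ≠ 2 := ne_two_of_dvd hG M cfg.hqM.2.1
  have hσM : sigmaCore M ≤ M := Subgroup.map_subtype_le _
  -- `q`-subgroups of `H` are cyclic
  have hcyc : ∀ S : Subgroup G, IsPGroup q S → S ≤ H → IsCyclic ↥S := by
    intro S hS hSH
    exact Cfsg.Agent.Helper55.isCyclic_of_pRankLE_one hq2 hS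
      (pRankLE_of_injective (Subgroup.inclusion hSH) (Subgroup.inclusion_injective hSH) hrk)
  -- the subgroup `X` of order `q` of `Q1`
  have hqQ1 : q ∣ Nat.card ↥Q1 := by
    rcases cfg.hQ1q.card_eq_or_dvd with h1 | h2
    · exact absurd ((Subgroup.card_eq_one).mp h1) cfg.hQ1
    · exact h2
  obtain ⟨x, hx⟩ := exists_prime_orderOf_dvd_card' q hqQ1
  obtain ⟨X, hXdef⟩ : ∃ X : Subgroup G, X = zpowers (x : G) := ⟨_, rfl⟩
  have hXc : Nat.card X = q := by
    rw [hXdef, Nat.card_zpowers, Subgroup.orderOf_coe, hx]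
  have hXQ1 : X ≤ Q1 := by rw [hXdef, zpowers_le]; exact x.2
  have hXq : IsPGroup q X := IsPGroup.of_card (n := 1) (by rw [hXc, pow_one])
  have hX1 : X ≠ ⊥ := by
    intro h
    rw [h, Subgroup.card_bot] at hXc
    exact cfg.hq.one_lt.ne hXc
  have hXH : X ≤ H := hXQ1.trans cfg.hQ1H
  have hXM : X ≤ M := hXQ1.trans (cfg.hQ1M.trans hσM)
  have hRX : R ≤ normalizer (X : Set G) :=
    cfg.hRQ1.trans (normalizer_le_of_cyclic (hcyc Q1 cfg.hQ1q cfg.hQ1H) hXQ1)
  have hXR : X ⊓ centralizer (R : Set G) = ⊥ := by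
    rw [eq_bot_iff, ← cfg.hfree]
    exact inf_le_inf_right _ hXQ1
  have hHM : H ≠ M := by
    have := cfg.hnc 1
    rwa [map_conj_eq_smul, cj_one] at this
  -- `N_G(X)` is not contained in `H`
  have hnot : ¬ normalizer (X : Set G) ≤ H := by
    intro hN
    have hXMH : X ≤ M ⊓ H := le_inf hXM hXH
    have hXq' : IsPGroup q ↥(X.subgroupOf (M ⊓ H)) := hXq.comap_subtype
    obtain ⟨S, hS⟩ := hXq'.exists_le_sylow
    have hXS : X ≤ (S : Subgroup ↥(M ⊓ H)).map (M ⊓ H).subtype := by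
      intro y hy
      exact ⟨⟨y, hXMH hy⟩, hS (Subgroup.mem_subgroupOf.mpr hy), rfl⟩
    obtain ⟨-, -, hidx⟩ := h24 M cfg.hM q cfg.hqM X hXq hX1 hXM H cfg.hH hHM hN S hXS
    obtain ⟨S', hS'⟩ : ∃ S' : Subgroup G,
        S' = (S : Subgroup ↥(M ⊓ H)).map (M ⊓ H).subtype := ⟨_, rfl⟩
    rw [← hS'] at hidx hXS
    have hS'q : IsPGroup q S' := by rw [hS']; exact S.isPGroup'.map _
    have hS'H : S' ≤ H := by rw [hS']; exact (Subgroup.map_subtype_le _).trans inf_le_right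
    have hNS' : normalizer (S' : Set G) ≤ H :=
      (normalizer_le_of_cyclic (hcyc S' hS'q hS'H) hXS).trans hN
    have hS'q' : IsPGroup q ↥(S'.subgroupOf H) := hS'q.comap_subtype
    obtain ⟨P0, hP0⟩ : ∃ P0 : Sylow q ↥H, (P0 : Subgroup ↥H) = S'.subgroupOf H :=
      ⟨hS'q'.toSylow hidx, IsPGroup.toSylow_coe _ _⟩
    refine hqH ⟨cfg.hq, ?_, P0, ?_⟩
    · rw [← hXc]; exact Subgroup.card_dvd_of_le hXH
    · rw [hP0, Subgroup.map_subgroupOf_eq_of_le hS'H]
      exact hNS'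
  -- a maximal subgroup `L` over `N_G(X)`
  have hNtop : normalizer (X : Set G) ≠ ⊤ := by
    intro h
    haveI := hG.2.1
    have hXn : X.Normal := Subgroup.normalizer_eq_top_iff.mp h
    rcases hXn.eq_bot_or_eq_top with h1 | h1
    · exact hX1 h1
    · exact cfg.hH.1 (top_le_iff.mp (h1 ▸ hXH))
  obtain ⟨L, hL, hNL⟩ := (eq_top_or_exists_le_coatom _).resolve_left hNtop
  have hLH : L ≠ H := by
    rintro rfl
    exact hnot hNL
  refine ⟨X, L, hXQ1, hXc, hRX, hXR, hL, hLH, hNL, ?_⟩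
  -- the factorisation `H = H_α (H ∩ L)`
  have hXcomm : X ≤ ⁅H, H⁆ :=
    hXQ1.trans (cfg.hcomm.trans (Subgroup.commutator_mono cfg.hQ1H cfg.hRH))
  -- `X` inside `commutator ↥H`
  have hXcomm' : ∀ y ∈ X, ∃ c : ↥(commutator ↥H), ((c : ↥H) : G) = y := by
    intro y hy
    have hy' : y ∈ ⁅H, H⁆ := hXcomm hy
    rw [← Subgroup.map_subtype_commutator] at hy'
    obtain ⟨z, hz, hzy⟩ := hy'
    exact ⟨⟨z, hz⟩, hzy⟩
  obtain ⟨X₀, hX₀⟩ : ∃ X₀ : Subgroup ↥(commutator ↥H),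
      X₀ = (X.subgroupOf H).subgroupOf (commutator ↥H) := ⟨_, rfl⟩
  have hX₀q : IsPGroup q ↥X₀ := by
    rw [hX₀]; exact (hXq.comap_subtype).comap_subtype
  obtain ⟨P1, hP1⟩ := hX₀q.exists_le_sylow
  obtain ⟨T, hTdef⟩ : ∃ T : Subgroup G,
      T = ((P1 : Subgroup ↥(commutator ↥H)).map (commutator ↥H).subtype).map H.subtype :=
    ⟨_, rfl⟩
  have hTq : IsPGroup q T := by rw [hTdef]; exact (P1.isPGroup'.map _).map _
  have hTH : T ≤ H := by rw [hTdef]; exact Subgroup.map_subtype_le _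
  have hXT : X ≤ T := by
    intro y hy
    obtain ⟨c, hc⟩ := hXcomm' y hy
    rw [hTdef]
    refine ⟨(c : ↥H), ⟨c, hP1 ?_, rfl⟩, hc⟩
    rw [hX₀, Subgroup.mem_subgroupOf, Subgroup.mem_subgroupOf, hc]
    exact hy
  have hNT : normalizer (T : Set G) ≤ L :=
    (normalizer_le_of_cyclic (hcyc T hTq hTH) hXT).trans hNL
  intro h hh
  obtain ⟨a, ha, n, hn, hmn⟩ := alphaFrat_sub hT h05 cfg.hH P1 h hh
  rw [← hTdef] at hn
  exact ⟨a, ha, n, ⟨hn.1, hNT hn.2⟩, hmn⟩

/-- Verbatim check: the conclusion is exactly helper30's `StB2L G`. -/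
example (hG : IsMinSimpleOddOrder G) (hT : Cfsg.Agent.H58.BG10.StSigComm G)
    (h05 : Cfsg.Agent.H58.BG10.St1405 G) (h24 : Cfsg.Agent.H76.BG12.St1424 G) :
    Cfsg.Agent.Lib.Helper30.BG134.StB2L G := b2l hG hT h05 h24

end Cfsg.Agent.H76.BG134B2L
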