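import Mathlib
import Cfsg.Agent.H3.PGroup

set_option autoImplicit false

namespace Cfsg.Agent.H76

universe u v

section dser

variable {G : Type*} [Group G]

/-- Iterated commutator subgroups of a subgroup, computed inside the ambient group. -/
def dser (H : Subgroup G) : ℕ → Subgroup G
  | 0 => H
  | n + 1 => ⁅dser H n, dser H n⁆

@[simp] theorem dser_zero (H : Subgroup G) : dser H 0 = H := rfl

@[simp] theorem dser_succ (H : Subgroup G) (n : ℕ) :
    dser H (n + 1) = ⁅dser H n, dser H n⁆ := rfl

theorem map_subtype_derivedSeries (H : Subgroup G) (n : ℕ) :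
    (derivedSeries ↥H n).map H.subtype = dser H n := by
  induction n with
  | zero => rw [derivedSeries_zero, ← MonoidHom.range_eq_map, Subgroup.range_subtype]; rfl
  | succ n ih => rw [derivedSeries_succ, Subgroup.map_commutator, ih, dser_succ]

theorem dser_mono {H K : Subgroup G} (h : H ≤ K) (n : ℕ) : dser H n ≤ dser K n := by
  induction n with
  | zero => exact h
  | succ n ih => exact Subgroup.commutator_mono ih ih

theorem dser_map {G' : Type*} [Group G'] (f : G →* G') (H : Subgroup G) (n : ℕ) :
    dser (H.map f) n = (dser H n).map f := by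
  induction n with
  | zero => rfl
  | succ n ih => rw [dser_succ, ih, ← Subgroup.map_commutator, dser_succ]

theorem derivedSeries_eq_bot_iff_dser (H : Subgroup G) (n : ℕ) :
    derivedSeries ↥H n = ⊥ ↔ dser H n = ⊥ := by
  rw [← map_subtype_derivedSeries]
  exact (Subgroup.map_eq_bot_iff_of_injective _ H.subtype_injective).symm

theorem derivedSeries_succ_le_dser (M : Subgroup G) (hM : commutator G ≤ M) (k : ℕ) :
    derivedSeries G (k + 1) ≤ dser M k := by
  induction k with
  | zero => simpa using hM
  | succ k ih => rw [derivedSeries_succ, dser_succ]; exact Subgroup.commutator_mono ih ih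

end dser

/-- In a finite `p`-group acting on a set, the `k`-th derived subgroup fixes every point whose
stabilizer has index at most `p ^ k`. -/
theorem derivedSeries_fixes {p : ℕ} [Fact p.Prime] (k : ℕ) :
    ∀ {P : Type u} [Group P] [Finite P] (_ : IsPGroup p P) {Ω : Type v} [MulAction P Ω] (ω : Ω),
      (MulAction.stabilizer P ω).index ≤ p ^ k → ∀ g ∈ derivedSeries P k, g • ω = ω := by
  induction k with
  | zero =>
    intro P _ _ hP Ω _ ω hidx g _
    have h1 : (MulAction.stabilizer P ω).index = 1 := by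
      have := Subgroup.index_ne_zero_of_finite (H := MulAction.stabilizer P ω)
      simp only [pow_zero] at hidx
      omega
    have h2 : MulAction.stabilizer P ω = ⊤ := Subgroup.index_eq_one.mp h1
    have hg : g ∈ MulAction.stabilizer P ω := by rw [h2]; trivial
    exact hg
  | succ k ih =>
    intro P _ _ hP Ω _ ω hidx g hg
    by_cases htop : MulAction.stabilizer P ω = ⊤
    · have hg' : g ∈ MulAction.stabilizer P ω := by rw [htop]; trivial
      exact hg'
    · obtain ⟨M, hM, hle⟩ := (eq_top_or_exists_le_coatom _).resolve_left htop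
      have hMi : M.index = p := H3.coatom_index hP hM
      have hc : commutator P ≤ M := H3.commutator_le_coatom hP hM
      have hgM : g ∈ dser M k := derivedSeries_succ_le_dser M hc k hg
      rw [← map_subtype_derivedSeries] at hgM
      obtain ⟨m, hm, rfl⟩ := hgM
      have hPM : IsPGroup p M := hP.to_subgroup M
      have hst : MulAction.stabilizer M ω = (MulAction.stabilizer P ω).subgroupOf M := by
        ext x
        simp only [MulAction.mem_stabilizer_iff, Subgroup.mem_subgroupOf]
        rfl
      have hidx' : (MulAction.stabilizer M ω).index ≤ p ^ k := by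
        rw [hst]
        have h1 : (MulAction.stabilizer P ω).relIndex M * M.index =
            (MulAction.stabilizer P ω).index := Subgroup.relIndex_mul_index hle
        rw [hMi] at h1
        have h2 : (MulAction.stabilizer P ω).relIndex M * p ≤ p ^ k * p := by
          rw [h1, ← pow_succ]; exact hidx
        exact Nat.le_of_mul_le_mul_right h2 (Fact.out : p.Prime).pos
      exact ih hPM ω hidx' m hm

section tri

open scoped commutatorElement

variable {p k : ℕ}

/-- Triangular permutations of `Fin k → ZMod p`: the `i`-th coordinate is translated by an amount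
depending only on the later coordinates. -/
def IsTri (T : Equiv.Perm (Fin k → ZMod p)) : Prop :=
  ∀ (i : Fin k) (x y : Fin k → ZMod p), (∀ j, i < j → x j = y j) → T x i - x i = T y i - y i

theorem IsTri.gt {T : Equiv.Perm (Fin k → ZMod p)} (hT : IsTri T) (i : Fin k)
    (x y : Fin k → ZMod p) (h : ∀ j, i < j → x j = y j) : ∀ j, i < j → T x j = T y j := by
  intro j hj
  have h1 := hT j x y (fun l hl => h l (lt_trans hj hl))
  have h2 := h j hj
  rw [h2] at h1
  exact sub_left_inj.mp h1

theorem isTri_one : IsTri (1 : Equiv.Perm (Fin k → ZMod p)) := by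
  intro i x y _; simp

theorem IsTri.mul {S T : Equiv.Perm (Fin k → ZMod p)} (hS : IsTri S) (hT : IsTri T) :
    IsTri (S * T) := by
  intro i x y h
  have h1 := hT i x y h
  have h2 := hS i (T x) (T y) (hT.gt i x y h)
  simp only [Equiv.Perm.coe_mul, Function.comp_apply]
  linear_combination h1 + h2

theorem IsTri.pow {T : Equiv.Perm (Fin k → ZMod p)} (hT : IsTri T) (m : ℕ) : IsTri (T ^ m) := by
  induction m with
  | zero => simpa using isTri_one
  | succ m ih => rw [pow_succ]; exact ih.mul hT

variable [Fact p.Prime]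

theorem IsTri.inv {T : Equiv.Perm (Fin k → ZMod p)} (hT : IsTri T) : IsTri T⁻¹ := by
  have hfin : 0 < orderOf T := orderOf_pos T
  have : T⁻¹ = T ^ (orderOf T - 1) := by
    apply inv_eq_of_mul_eq_one_right
    rw [← pow_succ', Nat.sub_add_cancel hfin, pow_orderOf_eq_one]
  rw [this]; exact hT.pow _

/-- The group of triangular permutations of `Fin k → ZMod p` (a Sylow `p`-subgroup). -/
def triGroup (p k : ℕ) [Fact p.Prime] : Subgroup (Equiv.Perm (Fin k → ZMod p)) where
  carrier := {T | IsTri T}
  mul_mem' := fun hS hT => hS.mul hT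
  one_mem' := isTri_one
  inv_mem' := fun hT => hT.inv

theorem mem_triGroup {T : Equiv.Perm (Fin k → ZMod p)} : T ∈ triGroup p k ↔ IsTri T := Iff.rfl

omit [Fact p.Prime] in
theorem pow_fix_coord {S : Equiv.Perm (Fin k → ZMod p)} (i : Fin k) (h : ∀ x, S x i = x i)
    (m : ℕ) (x : Fin k → ZMod p) : (S ^ m) x i = x i := by
  induction m generalizing x with
  | zero => simp
  | succ m ih => rw [pow_succ, Equiv.Perm.mul_apply, ih, h]

theorem pow_shift_coord {S : Equiv.Perm (Fin k → ZMod p)} (hS : IsTri S) (i : Fin k)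
    (h : ∀ x, ∀ j, i < j → S x j = x j) (m : ℕ) (x : Fin k → ZMod p) :
    (S ^ m) x i = x i + m • (S x i - x i) := by
  induction m with
  | zero => simp
  | succ m ih =>
    rw [pow_succ', Equiv.Perm.mul_apply]
    have hagree : ∀ j, i < j → (S ^ m) x j = x j :=
      fun j hj => pow_fix_coord j (fun y => h y j hj) m x
    have h1 := hS i ((S ^ m) x) x hagree
    rw [succ_nsmul]
    linear_combination h1 + ih

theorem tri_pow_fix {T : Equiv.Perm (Fin k → ZMod p)} (hT : IsTri T) (j : ℕ) :
    ∀ (x : Fin k → ZMod p) (i : Fin k), k ≤ i.val + j → (T ^ (p ^ j)) x i = x i := by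
  induction j with
  | zero => intro x i hi; exact absurd i.isLt (by omega)
  | succ j ih =>
    intro x i hi
    rw [pow_succ, pow_mul]
    have hS : IsTri (T ^ (p ^ j)) := hT.pow _
    by_cases hij : k ≤ i.val + j
    · exact pow_fix_coord i (fun y => ih y i hij) p x
    · have hfix : ∀ y, ∀ l : Fin k, i < l → (T ^ (p ^ j)) y l = y l := by
        intro y l hl
        apply ih y l
        have : i.val < l.val := hl
        omega
      rw [pow_shift_coord hS i hfix p x]
      have hp0 : (p : ZMod p) = 0 := ZMod.natCast_self p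
      rw [nsmul_eq_mul, hp0, zero_mul, add_zero]

theorem tri_pow_eq_one {T : Equiv.Perm (Fin k → ZMod p)} (hT : IsTri T) : T ^ (p ^ k) = 1 := by
  ext x i
  simpa using tri_pow_fix hT k x i (by omega)

theorem triGroup_isPGroup : IsPGroup p (triGroup p k) := by
  intro g
  refine ⟨k, ?_⟩
  apply Subtype.ext
  rw [Subgroup.coe_pow]
  exact tri_pow_eq_one g.2

/-- The block of vectors whose last `j` coordinates vanish. -/
def blk (p k j : ℕ) : Set (Fin k → ZMod p) := {x | ∀ i : Fin k, k ≤ i.val + j → x i = 0}

omit [Fact p.Prime] in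
theorem blk_succ_subset (j : ℕ) : blk p k (j + 1) ⊆ blk p k j :=
  fun x hx i hi => hx i (by omega)

omit [Fact p.Prime] in
theorem blk_congr {j : ℕ} {x y : Fin k → ZMod p} (h : ∀ i : Fin k, k ≤ i.val + j → x i = y i) :
    x ∈ blk p k j ↔ y ∈ blk p k j := by
  constructor
  · intro hx i hi; rw [← h i hi]; exact hx i hi
  · intro hy i hi; rw [h i hi]; exact hy i hi

theorem add_single_mem_blk {i₀ : Fin k} {j : ℕ} (h : i₀.val + j + 1 = k) (c : ZMod p)
    (x : Fin k → ZMod p) : x + Pi.single i₀ c ∈ blk p k j ↔ x ∈ blk p k j := by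
  apply blk_congr
  intro i hi
  have hne : i ≠ i₀ := by rintro rfl; omega
  simp [Pi.single_eq_of_ne hne]

open Classical in
/-- Translation of the coordinate `i₀` on the block `blk p k j`, where `i₀ + j + 1 = k`. -/
noncomputable def shiftPerm (i₀ : Fin k) (j : ℕ) (h : i₀.val + j + 1 = k) :
    Equiv.Perm (Fin k → ZMod p) where
  toFun x := if x ∈ blk p k j then x + Pi.single i₀ 1 else x
  invFun x := if x ∈ blk p k j then x + Pi.single i₀ (-1) else x
  left_inv x := by
    by_cases hx : x ∈ blk p k j
    · have hx' : x + Pi.single i₀ 1 ∈ blk p k j := (add_single_mem_blk h 1 x).mpr hx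
      simp only [hx, if_true, hx']
      rw [add_assoc, ← Pi.single_add]; simp
    · simp [hx]
  right_inv x := by
    by_cases hx : x ∈ blk p k j
    · have hx' : x + Pi.single i₀ (-1) ∈ blk p k j := (add_single_mem_blk h (-1) x).mpr hx
      simp only [hx, if_true, hx']
      rw [add_assoc, ← Pi.single_add]; simp
    · simp [hx]

theorem shiftPerm_apply_mem {i₀ : Fin k} {j : ℕ} (h : i₀.val + j + 1 = k) {x : Fin k → ZMod p}
    (hx : x ∈ blk p k j) : shiftPerm i₀ j h x = x + Pi.single i₀ 1 := by
  classical
  show (if x ∈ blk p k j then x + Pi.single i₀ 1 else x) = _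
  rw [if_pos hx]

theorem shiftPerm_apply_not_mem {i₀ : Fin k} {j : ℕ} (h : i₀.val + j + 1 = k)
    (x : Fin k → ZMod p) (hx : x ∉ blk p k j) : shiftPerm i₀ j h x = x := by
  classical
  show (if x ∈ blk p k j then x + Pi.single i₀ 1 else x) = _
  rw [if_neg hx]

theorem shiftPerm_isTri {i₀ : Fin k} {j : ℕ} (h : i₀.val + j + 1 = k) :
    IsTri (shiftPerm (p := p) i₀ j h) := by
  intro i x y hxy
  by_cases hi : i = i₀
  · subst hi
    have hiff : x ∈ blk p k j ↔ y ∈ blk p k j := by
      apply blk_congr
      intro l hl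
      apply hxy
      show i.val < l.val
      omega
    by_cases hx : x ∈ blk p k j
    · rw [shiftPerm_apply_mem h hx, shiftPerm_apply_mem h (hiff.mp hx)]; simp
    · rw [shiftPerm_apply_not_mem h x hx, shiftPerm_apply_not_mem h y (fun hy => hx (hiff.mpr hy))]
      simp
  · have key : ∀ z : Fin k → ZMod p, shiftPerm i₀ j h z i - z i = 0 := by
      intro z
      by_cases hz : z ∈ blk p k j
      · rw [shiftPerm_apply_mem h hz]; simp [Pi.single_eq_of_ne hi]
      · rw [shiftPerm_apply_not_mem h z hz]; simp
    rw [key x, key y]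

theorem tri_lower (j : ℕ) (hj : j ≤ k) :
    ∀ T : Equiv.Perm (Fin k → ZMod p), IsTri T → (∀ x, x ∉ blk p k j → T x = x) →
      ∃ g ∈ dser (triGroup p k) j, ∀ x ∈ blk p k j, g x = T x := by
  induction j with
  | zero => intro T hT _; exact ⟨T, hT, fun x _ => rfl⟩
  | succ j ih =>
    intro T hT hsupp
    have hjk : j < k := hj
    obtain ⟨g₁, hg₁, h₁⟩ := ih (by omega) T hT
      (fun x hx => hsupp x (fun h => hx (blk_succ_subset j h)))
    let i₀ : Fin k := ⟨k - j - 1, by omega⟩
    have hi₀ : i₀.val + j + 1 = k := by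
      show k - j - 1 + j + 1 = k
      omega
    obtain ⟨g₂, hg₂, h₂⟩ := ih (by omega) (shiftPerm i₀ j hi₀) (shiftPerm_isTri hi₀)
      (shiftPerm_apply_not_mem hi₀)
    refine ⟨⁅g₁, g₂⁆, Subgroup.commutator_mem_commutator hg₁ hg₂, ?_⟩
    intro x hx
    have hxj : x ∈ blk p k j := blk_succ_subset j hx
    have hx'j : x + Pi.single i₀ (-1) ∈ blk p k j := (add_single_mem_blk hi₀ _ x).mpr hxj
    have hσ : shiftPerm i₀ j hi₀ (x + Pi.single i₀ (-1)) = x := by
      rw [shiftPerm_apply_mem hi₀ hx'j, add_assoc, ← Pi.single_add]; simp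
    have e1 : g₂ (x + Pi.single i₀ (-1)) = x := by rw [h₂ _ hx'j, hσ]
    have e2 : g₂⁻¹ x = x + Pi.single i₀ (-1) := by
      conv_lhs => rw [← e1]
      simp
    have hx'n : x + Pi.single i₀ (-1) ∉ blk p k (j + 1) := by
      intro hmem
      have h0 := hmem i₀ (by omega)
      have hx0 : x i₀ = 0 := hx i₀ (by omega)
      simp [hx0] at h0
    have e3 : g₁ (x + Pi.single i₀ (-1)) = x + Pi.single i₀ (-1) := by
      rw [h₁ _ hx'j, hsupp _ hx'n]
    have e4 : g₁⁻¹ (x + Pi.single i₀ (-1)) = x + Pi.single i₀ (-1) := by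
      conv_lhs => rw [← e3]
      simp
    rw [commutatorElement_def]
    simp only [Equiv.Perm.mul_apply]
    rw [e2, e4, e1, h₁ x hxj]

theorem dser_triGroup_ne_bot (j : ℕ) (hj : j < k) : dser (triGroup p k) j ≠ ⊥ := by
  let i₀ : Fin k := ⟨k - j - 1, by omega⟩
  have hi₀ : i₀.val + j + 1 = k := by
    show k - j - 1 + j + 1 = k
    omega
  obtain ⟨g, hg, h⟩ := tri_lower (p := p) j hj.le (shiftPerm i₀ j hi₀) (shiftPerm_isTri hi₀)
    (shiftPerm_apply_not_mem hi₀)
  intro hbot
  rw [hbot, Subgroup.mem_bot] at hg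
  have h0 : (0 : Fin k → ZMod p) ∈ blk p k j := fun i _ => rfl
  have h1 := h 0 h0
  rw [hg, shiftPerm_apply_mem hi₀ h0] at h1
  have h2 := congrFun h1 i₀
  simp at h2

end tri

end Cfsg.Agent.H76
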