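import Mathlib
import Cfsg.Prelude.Def_FusionSystem
import Cfsg.Agent.H86.FusExt
import Cfsg.Agent.H86.FusSat
import Cfsg.Agent.H76.Fus2

/-!
# Saturated fusion systems with trivial centre on 2-groups of 2-rank 2: the fusion part

* `exists_moving`: an involution of `S` is moved by some map of the system (`Z(F) = 1`).
* `extend_cent`: a map `⟨e⟩ → ⟨z⟩` with `z` central in `S` extends to `C_S(e)`.
* `fus_tame`: if `z` is the unique involution of `Z(S)`, there is an involution `z₁ ≠ z` and a map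
  of the system from `C_S(z₁)` to itself with `z ↦ z₁ ↦ z z₁`.
* `fus_central`: if all involutions of `S` are central, each is moved by an automorphism of `S`
  in the system.
-/

set_option autoImplicit false

namespace Cfsg.Agent.H76.FusSys2

open Cfsg Cfsg.FusionSystem Cfsg.Agent.H86

variable {Ω : Type*} [Group Ω] {S : Subgroup Ω}

theorem exists_normalizing' {p : ℕ} [Fact p.Prime] (P Q : Subgroup Ω) [Finite P]
    (hP : IsPGroup p P) (hQP : Q ≤ P) (hne : ¬ P ≤ Q) :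
    ∃ s ∈ P, s ∉ Q ∧ ∀ q ∈ Q, s * q * s⁻¹ ∈ Q := by
  have hnil : Group.IsNilpotent P := hP.isNilpotent
  have hlt : Q.subgroupOf P < ⊤ := by
    rw [lt_top_iff_ne_top]
    intro h
    apply hne
    intro x hx
    have : (⟨x, hx⟩ : P) ∈ Q.subgroupOf P := by rw [h]; trivial
    exact this
  have h1 := Group.normalizerCondition_of_isNilpotent (G := P) (Q.subgroupOf P) hlt
  obtain ⟨s, hs1, hs2⟩ := SetLike.exists_of_lt h1
  refine ⟨s.1, s.2, fun h => hs2 h, fun q hq => ?_⟩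
  have h3 := (Subgroup.mem_normalizer_iff.mp hs1 ⟨q, hQP hq⟩).mp hq
  exact h3

theorem four_S [Finite S] (h2 : Cfsg.PRankLE 2 2 ↥S) {a b x : Ω} (ha : a ∈ S) (hb : b ∈ S)
    (hx : x ∈ S) (ha2 : a * a = 1) (hb2 : b * b = 1) (ha1 : a ≠ 1) (hb1 : b ≠ 1) (hab : a ≠ b)
    (hc : a * b = b * a) (hx2 : x * x = 1) (hxa : x * a = a * x) (hxb : x * b = b * x) :
    x = 1 ∨ x = a ∨ x = b ∨ x = a * b := by
  have h := Fus2.mem_four_of_rank (G := ↥S) h2 (z := ⟨a, ha⟩) (z' := ⟨b, hb⟩) (x := ⟨x, hx⟩)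
    (Subtype.ext ha2) (Subtype.ext hb2) (fun h => ha1 (congrArg Subtype.val h))
    (fun h => hb1 (congrArg Subtype.val h)) (fun h => hab (congrArg Subtype.val h))
    (Subtype.ext hc) (Subtype.ext hx2) (Subtype.ext hxa) (Subtype.ext hxb)
  rcases h with h | h | h | h
  · exact Or.inl (congrArg Subtype.val h)
  · exact Or.inr (Or.inl (congrArg Subtype.val h))
  · exact Or.inr (Or.inr (Or.inl (congrArg Subtype.val h)))
  · exact Or.inr (Or.inr (Or.inr (congrArg Subtype.val h)))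

theorem mem_cent_invol {e x : Ω} (he : e * e = 1) :
    x ∈ centralizerIn S (Subgroup.zpowers e) ↔ x ∈ S ∧ e * x = x * e := by
  rw [mem_centralizerIn_iff]
  constructor
  · rintro ⟨h1, h2'⟩
    exact ⟨h1, h2' e (Subgroup.mem_zpowers e)⟩
  · rintro ⟨h1, h2'⟩
    refine ⟨h1, fun y hy => ?_⟩
    rcases U34Rec.mem_zpowers_invol he hy with rfl | rfl
    · rw [one_mul, mul_one]
    · exact h2'

theorem imgS_zpowers_invol {F : FusionSystem S} {e : Ω} {f : Ω → Ω}
    (hf : Mor F (Subgroup.zpowers e) f) (he : e * e = 1) :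
    imgS (Subgroup.zpowers e) f = Subgroup.zpowers (f e) := by
  have heP : e ∈ Subgroup.zpowers e := Subgroup.mem_zpowers e
  have hfe2 : f e * f e = 1 := by rw [← hf.map_mul heP heP, he, hf.map_one]
  ext y
  rw [hf.mem_imgS]
  constructor
  · rintro ⟨x, hx, rfl⟩
    rcases U34Rec.mem_zpowers_invol he hx with rfl | rfl
    · rw [hf.map_one]; exact Subgroup.one_mem _
    · exact Subgroup.mem_zpowers _
  · intro hy
    rcases U34Rec.mem_zpowers_invol hfe2 hy with rfl | rfl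
    · exact ⟨1, Subgroup.one_mem _, hf.map_one⟩
    · exact ⟨e, heP, rfl⟩

/-- an involution of `S` is moved by some map of a saturated system with trivial centre -/
theorem exists_moving [Finite S] (hS : IsPGroup 2 S) {F : FusionSystem S}
    (hF : F.IsSaturated 2) (hZ : F.center = ⊥) {z : Ω} (hzS : z ∈ S) (hz : z * z = 1)
    (hz1 : z ≠ 1) : ∃ f, Mor F (Subgroup.zpowers z) f ∧ f z ≠ z := by
  have hp2 : Fact (Nat.Prime 2) := ⟨Nat.prime_two⟩
  by_contra hcon
  push Not at hcon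
  have hc : F.IsCentral (Subgroup.zpowers z) := by
    rw [isCentral_iff_conjElt hS hF]
    refine ⟨by rw [Subgroup.zpowers_le]; exact hzS, ?_⟩
    intro x hx y hxy
    obtain ⟨f, hf, rfl⟩ := isConjElt_iff.1 hxy
    rcases U34Rec.mem_zpowers_invol hz hx with rfl | rfl
    · exact hf.map_one
    · exact hcon f hf
  have hle : Subgroup.zpowers z ≤ F.center := le_sSup hc
  rw [hZ] at hle
  exact hz1 (Subgroup.mem_bot.mp (hle (Subgroup.mem_zpowers z)))

/-- a map `⟨e⟩ → ⟨z⟩`, `z` central in `S`, extends to the centralizer of `e` -/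
theorem extend_cent [Finite S] (hS : IsPGroup 2 S) {F : FusionSystem S} (hF : F.IsSaturated 2)
    {e z : Ω} (he : e * e = 1) (hz : z * z = 1) (hzS : z ∈ S)
    (hzc : ∀ x ∈ S, z * x = x * z) {f : Ω → Ω} (hf : Mor F (Subgroup.zpowers e) f)
    (hfe : f e = z) :
    ∃ f', Mor F (centralizerIn S (Subgroup.zpowers e)) f' ∧ f' e = z := by
  have hp2 : Fact (Nat.Prime 2) := ⟨Nat.prime_two⟩
  have hfc : F.IsFullyCentralized (Subgroup.zpowers z) := by
    refine ⟨by rw [Subgroup.zpowers_le]; exact hzS, fun Q _ => ?_⟩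
    have h1 : centralizerIn S (Subgroup.zpowers z) = S := by
      apply le_antisymm inf_le_left
      intro x hx
      exact (mem_cent_invol hz).mpr ⟨hx, hzc x hx⟩
    rw [h1]
    exact Subgroup.card_le_of_le inf_le_left
  have hrec := saturated_receptive_of_fullyCentralized hS hF hfc
  have himg : imgS (Subgroup.zpowers e) f = Subgroup.zpowers z := by
    rw [imgS_zpowers_invol hf he, hfe]
  obtain ⟨f', hf', hff'⟩ := receptive_extend' hrec hf himg
  exact ⟨f', hf'.restrict (centralizerIn_le_extSub hf),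
    by rw [hff' e (Subgroup.mem_zpowers e), hfe]⟩

/-- the tame configuration in a saturated fusion system -/
theorem fus_tame [Finite S] (hS : IsPGroup 2 S) {F : FusionSystem S} (hF : F.IsSaturated 2)
    (hZ : F.center = ⊥) (h2 : Cfsg.PRankLE 2 2 ↥S) {z : Ω} (hzS : z ∈ S)
    (hzc : ∀ x ∈ S, z * x = x * z) (hz : z * z = 1) (hz1 : z ≠ 1)
    (huniq : ∀ y ∈ S, (∀ x ∈ S, y * x = x * y) → y * y = 1 → y = 1 ∨ y = z) :
    ∃ (z₁ : Ω) (ρ : Ω → Ω), z₁ ∈ S ∧ z₁ * z₁ = 1 ∧ z₁ ≠ 1 ∧ z ≠ z₁ ∧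
      Mor F (centralizerIn S (Subgroup.zpowers z₁)) ρ ∧
      (∀ x ∈ centralizerIn S (Subgroup.zpowers z₁),
        ρ x ∈ centralizerIn S (Subgroup.zpowers z₁)) ∧
      ρ z = z₁ ∧ ρ z₁ = z * z₁ := by
  have hp2 : Fact (Nat.Prime 2) := ⟨Nat.prime_two⟩
  obtain ⟨f₀, hf₀, hf₀z⟩ := exists_moving hS hF hZ hzS hz hz1
  let s : Set ℕ := {n | ∃ f, Mor F (Subgroup.zpowers z) f ∧ f z ≠ z ∧
    Nat.card (centralizerIn S (Subgroup.zpowers (f z))) = n}
  have hne : s.Nonempty := ⟨_, f₀, hf₀, hf₀z, rfl⟩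
  have hbdd : BddAbove s := ⟨Nat.card S, by
    rintro n ⟨f, -, -, rfl⟩
    exact Subgroup.card_le_of_le inf_le_left⟩
  obtain ⟨f, hf, hfz, hcard⟩ := Nat.sSup_mem hne hbdd
  have hmax : ∀ f', Mor F (Subgroup.zpowers z) f' → f' z ≠ z →
      Nat.card (centralizerIn S (Subgroup.zpowers (f' z))) ≤
        Nat.card (centralizerIn S (Subgroup.zpowers (f z))) := by
    intro f' hf' hf'z
    rw [hcard]
    exact le_csSup hbdd ⟨f', hf', hf'z, rfl⟩
  obtain ⟨z', hz'def⟩ : ∃ z', z' = f z := ⟨_, rfl⟩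
  rw [← hz'def] at hfz hmax
  have hzP : z ∈ Subgroup.zpowers z := Subgroup.mem_zpowers z
  have hz'S : z' ∈ S := by rw [hz'def]; exact hf.mem hzP
  have hz'2 : z' * z' = 1 := by rw [hz'def, ← hf.map_mul hzP hzP, hz, hf.map_one]
  have hz'1 : z' ≠ 1 := by
    intro h
    apply hz1
    have h1 : f z = f 1 := by rw [← hz'def, h, hf.map_one]
    exact hf.injOn hzP (Subgroup.one_mem _) h1
  have himg : imgS (Subgroup.zpowers z) f = Subgroup.zpowers z' := by
    rw [hz'def]; exact imgS_zpowers_invol hf hz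
  have hg : Mor F (Subgroup.zpowers z') (invOn (Subgroup.zpowers z) f) := by
    have h0 := hf.inv
    rwa [himg] at h0
  have hgz' : invOn (Subgroup.zpowers z) f z' = z := by
    rw [hz'def]; exact invOn_apply hf.injOn hzP
  obtain ⟨g, hgM, hgz⟩ := extend_cent hS hF hz'2 hz hzS hzc hg hgz'
  have hzC' : z ∈ centralizerIn S (Subgroup.zpowers z') :=
    (mem_cent_invol hz'2).mpr ⟨hzS, (hzc z' hz'S).symm⟩
  have hz'C' : z' ∈ centralizerIn S (Subgroup.zpowers z') :=
    (mem_cent_invol hz'2).mpr ⟨hz'S, rfl⟩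
  obtain ⟨z₁, hz₁def⟩ : ∃ z₁, z₁ = g z := ⟨_, rfl⟩
  have hz₁S : z₁ ∈ S := by rw [hz₁def]; exact hgM.mem hzC'
  have hz₁2 : z₁ * z₁ = 1 := by rw [hz₁def, ← hgM.map_mul hzC' hzC', hz, hgM.map_one]
  have hz₁1 : z₁ ≠ 1 := by
    intro h
    apply hz1
    have h1 : g z = g 1 := by rw [← hz₁def, h, hgM.map_one]
    exact hgM.injOn hzC' (Subgroup.one_mem _) h1
  have hzz₁ : z ≠ z₁ := by
    intro h
    have h1 : g z = g z' := by rw [← hz₁def, ← h, hgz]
    exact hfz (hgM.injOn hzC' hz'C' h1).symm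
  have hgC : ∀ c ∈ centralizerIn S (Subgroup.zpowers z'),
      g c ∈ centralizerIn S (Subgroup.zpowers z₁) := by
    intro c hc
    rw [mem_cent_invol hz₁2]
    refine ⟨hgM.mem hc, ?_⟩
    have hcz : z * c = c * z := hzc c ((mem_cent_invol hz'2).mp hc).1
    rw [hz₁def, ← hgM.map_mul hzC' hc, ← hgM.map_mul hc hzC', hcz]
  have hle1 : imgS (centralizerIn S (Subgroup.zpowers z')) g ≤
      centralizerIn S (Subgroup.zpowers z₁) := by
    intro y hy
    obtain ⟨x, hx, rfl⟩ := hgM.mem_imgS.1 hy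
    exact hgC x hx
  have hC₁S : centralizerIn S (Subgroup.zpowers z₁) ≤ S := inf_le_left
  have hC'S : centralizerIn S (Subgroup.zpowers z') ≤ S := inf_le_left
  have hfin₁ : Finite ↥(centralizerIn S (Subgroup.zpowers z₁)) :=
    Finite.of_injective (Subgroup.inclusion hC₁S) (Subgroup.inclusion_injective hC₁S)
  have hcard1 : Nat.card (centralizerIn S (Subgroup.zpowers z₁)) ≤
      Nat.card (centralizerIn S (Subgroup.zpowers z')) := by
    have h0 := hmax g (hgM.restrict (by rw [Subgroup.zpowers_le]; exact hzC'))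
      (by rw [← hz₁def]; exact fun h => hzz₁ h.symm)
    rw [← hz₁def] at h0
    exact h0
  have himg1 : imgS (centralizerIn S (Subgroup.zpowers z')) g =
      centralizerIn S (Subgroup.zpowers z₁) := by
    apply Subgroup.eq_of_le_of_card_ge hle1
    rw [hgM.card_imgS]
    exact hcard1
  have hginv : Mor F (centralizerIn S (Subgroup.zpowers z₁))
      (invOn (centralizerIn S (Subgroup.zpowers z')) g) := by
    have h0 := hgM.inv
    rwa [himg1] at h0
  have hC'ne : ¬ S ≤ centralizerIn S (Subgroup.zpowers z') := by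
    intro h
    rcases huniq z' hz'S (fun x hx => ((mem_cent_invol hz'2).mp (h hx)).2) hz'2 with h1 | h1
    · exact hz'1 h1
    · exact hfz h1
  obtain ⟨s', hs'S, hs'C, hs'n⟩ := exists_normalizing' S _ hS hC'S hC'ne
  have hC₁ne : ¬ S ≤ centralizerIn S (Subgroup.zpowers z₁) := by
    intro h
    rcases huniq z₁ hz₁S (fun x hx => ((mem_cent_invol hz₁2).mp (h hx)).2) hz₁2 with h1 | h1
    · exact hz₁1 h1
    · exact hzz₁ h1.symm
  obtain ⟨s₁, hs₁S, hs₁C, hs₁n⟩ := exists_normalizing' S _ hS hC₁S hC₁ne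
  have conj_val : ∀ (w t : Ω), w ∈ S → w * w = 1 → w ≠ 1 → z ≠ w → t ∈ S →
      t ∉ centralizerIn S (Subgroup.zpowers w) →
      (∀ q ∈ centralizerIn S (Subgroup.zpowers w),
        t * q * t⁻¹ ∈ centralizerIn S (Subgroup.zpowers w)) → t * w * t⁻¹ = z * w := by
    intro w t hwS hw2 hw1 hzw htS htC htn
    have hwC : w ∈ centralizerIn S (Subgroup.zpowers w) := (mem_cent_invol hw2).mpr ⟨hwS, rfl⟩
    have h1 := (mem_cent_invol hw2).mp (htn w hwC)
    have h22 : (t * w * t⁻¹) * (t * w * t⁻¹) = 1 := by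
      calc (t * w * t⁻¹) * (t * w * t⁻¹) = t * (w * w) * t⁻¹ := by group
        _ = 1 := by rw [hw2]; group
    have htz : t * z * t⁻¹ = z := by rw [← hzc t htS, mul_inv_cancel_right]
    rcases four_S h2 hzS hwS h1.1 hz hw2 hz1 hw1 hzw (hzc w hwS) h22 (hzc _ h1.1).symm
      h1.2.symm with h | h | h | h
    · exfalso
      apply hw1
      calc w = t⁻¹ * (t * w * t⁻¹) * t := by group
        _ = 1 := by rw [h]; group
    · exfalso
      apply hzw
      exact (mul_left_cancel (mul_right_cancel (h.trans htz.symm))).symm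
    · exfalso
      apply htC
      rw [mem_cent_invol hw2]
      refine ⟨htS, ?_⟩
      calc w * t = (t * w * t⁻¹) * t := by rw [h]
        _ = t * w := by group
    · exact h
  have hs'z' : s' * z' * s'⁻¹ = z * z' :=
    conj_val z' s' hz'S hz'2 hz'1 (fun h => hfz h.symm) hs'S hs'C hs'n
  have hs₁z₁ : s₁ * z₁ * s₁⁻¹ = z * z₁ := conj_val z₁ s₁ hz₁S hz₁2 hz₁1 hzz₁ hs₁S hs₁C hs₁n
  have hs'z : s' * z * s'⁻¹ = z := by rw [← hzc s' hs'S, mul_inv_cancel_right]
  have hs₁z : s₁ * z * s₁⁻¹ = z := by rw [← hzc s₁ hs₁S, mul_inv_cancel_right]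
  have hc' : Mor F (centralizerIn S (Subgroup.zpowers z')) (fun x => s' * x * s'⁻¹) :=
    Mor.conj F hC'S hs'S
  have hc₁ : Mor F (centralizerIn S (Subgroup.zpowers z₁)) (fun x => s₁ * x * s₁⁻¹) :=
    Mor.conj F hC₁S hs₁S
  have hinvmem : ∀ x ∈ centralizerIn S (Subgroup.zpowers z₁),
      invOn (centralizerIn S (Subgroup.zpowers z')) g x ∈
        centralizerIn S (Subgroup.zpowers z') := by
    intro x hx
    rw [← himg1] at hx
    exact hgM.invOn_mem hx
  have m1 := hginv.comp hc' hinvmem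
  have m2 := m1.comp hgM (fun x hx => hs'n _ (hinvmem x hx))
  have m3 := m2.comp hc₁ (fun x hx => hgC _ (hs'n _ (hinvmem x hx)))
  have hzC₁ : z ∈ centralizerIn S (Subgroup.zpowers z₁) :=
    (mem_cent_invol hz₁2).mpr ⟨hzS, (hzc z₁ hz₁S).symm⟩
  have hz₁C₁ : z₁ ∈ centralizerIn S (Subgroup.zpowers z₁) :=
    (mem_cent_invol hz₁2).mpr ⟨hz₁S, rfl⟩
  have i1 : invOn (centralizerIn S (Subgroup.zpowers z')) g z = z' := by
    have h0 := invOn_apply hgM.injOn hz'C'
    rwa [hgz] at h0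
  have i2 : invOn (centralizerIn S (Subgroup.zpowers z')) g z₁ = z := by
    rw [hz₁def]; exact invOn_apply hgM.injOn hzC'
  refine ⟨z₁, _, hz₁S, hz₁2, hz₁1, hzz₁, m3, ?_, ?_, ?_⟩
  · intro x hx
    exact hs₁n _ (hgC _ (hs'n _ (hinvmem x hx)))
  · show s₁ * g (s' * invOn (centralizerIn S (Subgroup.zpowers z')) g z * s'⁻¹) * s₁⁻¹ = z₁
    rw [i1, hs'z', hgM.map_mul hzC' hz'C', hgz, ← hz₁def]
    calc s₁ * (z₁ * z) * s₁⁻¹ = (s₁ * z₁ * s₁⁻¹) * (s₁ * z * s₁⁻¹) := by group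
      _ = z * z₁ * z := by rw [hs₁z₁, hs₁z]
      _ = z₁ := by rw [hzc z₁ hz₁S, mul_assoc, hz, mul_one]
  · show s₁ * g (s' * invOn (centralizerIn S (Subgroup.zpowers z')) g z₁ * s'⁻¹) * s₁⁻¹ =
      z * z₁
    rw [i2, hs'z, ← hz₁def, hs₁z₁]

/-- if all involutions of `S` are central, each is moved by an automorphism of `S` in the
system -/
theorem fus_central [Finite S] (hS : IsPGroup 2 S) {F : FusionSystem S}
    (hF : F.IsSaturated 2) (hZ : F.center = ⊥) {e : Ω} (heS : e ∈ S)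
    (hec : ∀ x ∈ S, e * x = x * e) (he : e * e = 1) (he1 : e ≠ 1)
    (hinvc : ∀ y ∈ S, y * y = 1 → ∀ x ∈ S, y * x = x * y) :
    ∃ f, Mor F S f ∧ f e ≠ e := by
  have hp2 : Fact (Nat.Prime 2) := ⟨Nat.prime_two⟩
  obtain ⟨f₀, hf₀, hf₀e⟩ := exists_moving hS hF hZ heS he he1
  have heP : e ∈ Subgroup.zpowers e := Subgroup.mem_zpowers e
  have hwS : f₀ e ∈ S := hf₀.mem heP
  have hw2 : f₀ e * f₀ e = 1 := by rw [← hf₀.map_mul heP heP, he, hf₀.map_one]
  obtain ⟨f', hf', hf'e⟩ := extend_cent hS hF he hw2 hwS (hinvc _ hwS hw2) hf₀ rfl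
  refine ⟨f', hf'.restrict ?_, by rw [hf'e]; exact hf₀e⟩
  intro x hx
  rw [mem_cent_invol he]
  exact ⟨hx, hec x hx⟩

/-- the automorphism of `C ∩ S` (as a subgroup of `↥S`) induced by a map of the system -/
noncomputable def autSub [Finite S] {F : FusionSystem S} {C : Subgroup Ω} {ρ : Ω → Ω}
    (h : Mor F C ρ) (hC : ∀ x ∈ C, ρ x ∈ C) : MulAut ↥(C.subgroupOf S) :=
  MulEquiv.ofBijective
    ({ toFun := fun x => ⟨⟨ρ x.1.1, h.mem (Subgroup.mem_subgroupOf.mp x.2)⟩,
          Subgroup.mem_subgroupOf.mpr (hC _ (Subgroup.mem_subgroupOf.mp x.2))⟩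
       map_one' := Subtype.ext (Subtype.ext h.map_one)
       map_mul' := fun x y => Subtype.ext (Subtype.ext
          (h.map_mul (Subgroup.mem_subgroupOf.mp x.2) (Subgroup.mem_subgroupOf.mp y.2))) } :
      ↥(C.subgroupOf S) →* ↥(C.subgroupOf S))
    (Finite.injective_iff_bijective.mp (fun x y hxy => Subtype.ext (Subtype.ext
      (h.injOn (Subgroup.mem_subgroupOf.mp x.2) (Subgroup.mem_subgroupOf.mp y.2)
        (congrArg (fun q : ↥(C.subgroupOf S) => q.1.1) hxy)))))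

theorem autSub_apply [Finite S] {F : FusionSystem S} {C : Subgroup Ω} {ρ : Ω → Ω}
    (h : Mor F C ρ) (hC : ∀ x ∈ C, ρ x ∈ C) (x : ↥(C.subgroupOf S)) :
    ((autSub h hC x).1.1 : Ω) = ρ x.1.1 := rfl

end Cfsg.Agent.H76.FusSys2
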