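import Mathlib
import Cfsg.Agent.H76.FusSys2
import Cfsg.Agent.H48.Fus2CG
import Cfsg.Agent.H48.Fus2TG
import Cfsg.Agent.H14.Suz

/-!
# Saturated fusion systems with trivial centre on 2-groups of 2-rank 2: assembly
-/

set_option autoImplicit false

namespace Cfsg.Agent.H76.FusSys2

open Cfsg Cfsg.FusionSystem Cfsg.Agent.H86

theorem main {Ω : Type*} [Group Ω] {S : Subgroup Ω} [Finite S] (hS : IsPGroup 2 S)
    (F : Cfsg.FusionSystem S) (hF : F.IsSaturated 2)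
    (hr : Cfsg.PRankAtLeast 2 2 ↥S ∧ ¬ Cfsg.PRankAtLeast 2 3 ↥S) (hZ : F.center = ⊥)
    {K : Type*} [Field K] [Fintype K] (hK : Fintype.card K = 16) :
    (∃ m : ℕ, Nonempty (↥S ≃* DihedralGroup m)) ∨ Cfsg.IsQuasiDihedral ↥S ∨
      Cfsg.IsWreathed ↥S ∨
      (∃ n k : ℕ, Nonempty (↥S ≃* Multiplicative (Fin k → ZMod (2 ^ n)))) ∨
      ∃ T : Sylow 2 (Cfsg.PSU 3 K 4),
        Nonempty (↥S ≃* ↥(T : Subgroup (Cfsg.PSU 3 K 4))) := by
  have hp2 : Fact (Nat.Prime 2) := ⟨Nat.prime_two⟩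
  obtain ⟨P⟩ : Nonempty (Sylow 2 (Cfsg.PSU 3 K 4)) := inferInstance
  obtain ⟨⟨A, hAc, hA2, hAcard⟩, hr3⟩ := hr
  have h2 : Cfsg.PRankLE 2 2 ↥S := by
    intro B hBc hB2
    by_contra hcon
    apply hr3
    refine ⟨B, hBc, hB2, ?_⟩
    obtain ⟨k, hk⟩ := IsPGroup.iff_card.mp (hS.to_subgroup B)
    rw [hk] at hcon ⊢
    have hk3 : 3 ≤ k := by
      by_contra h
      apply hcon
      exact Nat.pow_le_pow_right (by norm_num) (by omega)
    exact Nat.pow_le_pow_right (by norm_num) hk3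
  have hnt : Nontrivial ↥S := by
    rw [← Finite.one_lt_card_iff_nontrivial]
    have h0 := Subgroup.card_le_card_group A
    norm_num at hAcard
    omega
  obtain ⟨z, hzc0, hz1, hz⟩ := Cfsg.Agent.H14.Suz.exists_central_invol (P := ↥S) hS
  have hzc : ∀ x : ↥S, z * x = x * z := fun x => (Subgroup.mem_center_iff.mp hzc0 x).symm
  have hzcΩ : ∀ x ∈ S, (z : Ω) * x = x * z := fun x hx => congrArg Subtype.val (hzc ⟨x, hx⟩)
  have hzΩ : (z : Ω) * z = 1 := congrArg Subtype.val hz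
  have hz1Ω : (z : Ω) ≠ 1 := fun h => hz1 (Subtype.ext h)
  by_cases hcase : ∃ z₂ : ↥S, (∀ x : ↥S, z₂ * x = x * z₂) ∧ z₂ * z₂ = 1 ∧ z₂ ≠ 1 ∧ z₂ ≠ z
  · obtain ⟨z₂, hz₂c, hz₂, hz₂1, hz₂ne⟩ := hcase
    have hinv : ∀ a : ↥S, a * a = 1 → a = 1 ∨ a = z ∨ a = z₂ ∨ a = z * z₂ := fun a ha =>
      Fus2.mem_four_of_rank h2 hz hz₂ hz1 hz₂1 (Ne.symm hz₂ne) (hzc z₂) ha (hzc a).symm
        (hz₂c a).symm
    have hinvc : ∀ y ∈ S, y * y = 1 → ∀ x ∈ S, y * x = x * y := by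
      intro y hy hy2 x hx
      have h1 : (⟨y, hy⟩ : ↥S) * ⟨x, hx⟩ = ⟨x, hx⟩ * ⟨y, hy⟩ := by
        rcases hinv ⟨y, hy⟩ (Subtype.ext hy2) with h | h | h | h
        · rw [h, one_mul, mul_one]
        · rw [h]; exact hzc _
        · rw [h]; exact hz₂c _
        · rw [h, mul_assoc, hz₂c, ← mul_assoc, hzc, mul_assoc]
      exact congrArg Subtype.val h1
    have hmove : ∀ e : ↥S, (∀ x : ↥S, e * x = x * e) → e * e = 1 → e ≠ 1 →
        ∃ α : MulAut ↥S, α e ≠ e := by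
      intro e hec he he1
      obtain ⟨f, hf, hfe⟩ := fus_central hS hF hZ e.2
        (fun x hx => congrArg Subtype.val (hec ⟨x, hx⟩)) (congrArg Subtype.val he)
        (fun h => he1 (Subtype.ext h)) hinvc
      let α : MulAut ↥S := MulEquiv.ofBijective
        ({ toFun := fun x => ⟨f x.1, hf.mem x.2⟩
           map_one' := Subtype.ext hf.map_one
           map_mul' := fun x y => Subtype.ext (hf.map_mul x.2 y.2) } : ↥S →* ↥S)
        (Finite.injective_iff_bijective.mp (fun x y hxy =>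
          Subtype.ext (hf.injOn x.2 y.2 (congrArg Subtype.val hxy))))
      exact ⟨α, fun h => hfe (congrArg Subtype.val h)⟩
    rcases Cfsg.Agent.H48.Fus2G.central_group hS h2 z z₂ hzc hz₂c hz hz1 hz₂ hz₂1 (Ne.symm hz₂ne) hmove hK P
      with ⟨m, -, he⟩ | h | ⟨n, -, he⟩ | he
    · exact Or.inl ⟨m, he⟩
    · exact Or.inr (Or.inl h)
    · obtain ⟨e⟩ := he
      exact Or.inr (Or.inr (Or.inr (Or.inl ⟨n, 2, ⟨e.trans (AddEquiv.toMultiplicative
        (LinearEquiv.finTwoArrow ℤ (ZMod (2 ^ n))).symm.toAddEquiv)⟩⟩)))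
    · exact Or.inr (Or.inr (Or.inr (Or.inr ⟨P, he⟩)))
  · push Not at hcase
    have huniqT : ∀ y : ↥S, (∀ x : ↥S, y * x = x * y) → y * y = 1 → y = 1 ∨ y = z := by
      intro y hyc hy2
      by_cases hy1 : y = 1
      · exact Or.inl hy1
      · exact Or.inr (hcase y hyc hy2 hy1)
    obtain ⟨z₁, ρ, hz₁S, hz₁2, hz₁1, hzz₁, hρ, hρC, hρz, hρz₁⟩ :=
      fus_tame hS hF hZ h2 z.2 hzcΩ hzΩ hz1Ω (by
        intro y hy hyc hy2
        rcases huniqT ⟨y, hy⟩ (fun x => Subtype.ext (hyc x.1 x.2)) (Subtype.ext hy2) with h | h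
        · exact Or.inl (congrArg Subtype.val h)
        · exact Or.inr (congrArg Subtype.val h))
    have hQ : ∀ x : ↥S, x ∈ (centralizerIn S (Subgroup.zpowers z₁)).subgroupOf S ↔
        x * ⟨z₁, hz₁S⟩ = ⟨z₁, hz₁S⟩ * x := by
      intro x
      rw [Subgroup.mem_subgroupOf, mem_cent_invol hz₁2]
      constructor
      · rintro ⟨-, h⟩
        exact Subtype.ext h.symm
      · intro h
        exact ⟨x.2, (congrArg Subtype.val h).symm⟩
    have hval : ∀ q : ↥((centralizerIn S (Subgroup.zpowers z₁)).subgroupOf S), orderOf q = 2 →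
        (q.1.1 : Ω) = z ∨ (q.1.1 : Ω) = z₁ ∨ (q.1.1 : Ω) = z * z₁ := by
      intro q hq
      have hq2 : q * q = 1 := by rw [← pow_two, ← hq]; exact pow_orderOf_eq_one q
      have hq2' : q.1 * q.1 = 1 := congrArg Subtype.val hq2
      have hq1 : q.1 ≠ 1 := by
        intro h
        have h3 : q = 1 := Subtype.ext h
        rw [h3, orderOf_one] at hq
        norm_num at hq
      have hqz₁ := (hQ q.1).mp q.2
      rcases Fus2.mem_four_of_rank h2 hz (z' := ⟨z₁, hz₁S⟩) (Subtype.ext hz₁2) hz1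
        (fun h => hz₁1 (congrArg Subtype.val h)) (fun h => hzz₁ (congrArg Subtype.val h))
        (hzc _) hq2' (hzc q.1).symm hqz₁ with h | h | h | h
      · exact absurd h hq1
      · exact Or.inl (congrArg Subtype.val h)
      · exact Or.inr (Or.inl (congrArg Subtype.val h))
      · exact Or.inr (Or.inr (congrArg Subtype.val h))
    have hzC₁ : (z : Ω) ∈ centralizerIn S (Subgroup.zpowers z₁) :=
      (mem_cent_invol hz₁2).mpr ⟨z.2, (hzcΩ z₁ hz₁S).symm⟩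
    have hz₁C₁ : z₁ ∈ centralizerIn S (Subgroup.zpowers z₁) :=
      (mem_cent_invol hz₁2).mpr ⟨hz₁S, rfl⟩
    have hρzz₁ : ρ ((z : Ω) * z₁) = z := by
      rw [hρ.map_mul hzC₁ hz₁C₁, hρz, hρz₁, ← mul_assoc, ← hzcΩ z₁ hz₁S, mul_assoc, hz₁2,
        mul_one]
    have hinj : ∀ a b : ↥((centralizerIn S (Subgroup.zpowers z₁)).subgroupOf S),
        (a.1.1 : Ω) = b.1.1 → a = b := fun a b h => Subtype.ext (Subtype.ext h)
    have htrans : ∀ a b : ↥((centralizerIn S (Subgroup.zpowers z₁)).subgroupOf S),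
        orderOf a = 2 → orderOf b = 2 → ∃ k : ℕ, ((autSub hρ hρC) ^ k) a = b := by
      intro a b ha hb
      have p1 : ∀ q : ↥((centralizerIn S (Subgroup.zpowers z₁)).subgroupOf S),
          ((((autSub hρ hρC) ^ 1) q).1.1 : Ω) = ρ q.1.1 := fun q => by rw [pow_one]; rfl
      have p2 : ∀ q : ↥((centralizerIn S (Subgroup.zpowers z₁)).subgroupOf S),
          ((((autSub hρ hρC) ^ 2) q).1.1 : Ω) = ρ (ρ q.1.1) := fun q => by rw [pow_two]; rfl
      have p0 : ∀ q : ↥((centralizerIn S (Subgroup.zpowers z₁)).subgroupOf S),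
          ((((autSub hρ hρC) ^ 0) q).1.1 : Ω) = q.1.1 := fun q => by rw [pow_zero]; rfl
      rcases hval a ha with h | h | h <;> rcases hval b hb with h' | h' | h'
      · exact ⟨0, hinj _ _ (by rw [p0, h, h'])⟩
      · exact ⟨1, hinj _ _ (by rw [p1, h, h', hρz])⟩
      · exact ⟨2, hinj _ _ (by rw [p2, h, h', hρz, hρz₁])⟩
      · exact ⟨2, hinj _ _ (by rw [p2, h, h', hρz₁, hρzz₁])⟩
      · exact ⟨0, hinj _ _ (by rw [p0, h, h'])⟩
      · exact ⟨1, hinj _ _ (by rw [p1, h, h', hρz₁])⟩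
      · exact ⟨1, hinj _ _ (by rw [p1, h, h', hρzz₁])⟩
      · exact ⟨2, hinj _ _ (by rw [p2, h, h', hρzz₁, hρz])⟩
      · exact ⟨0, hinj _ _ (by rw [p0, h, h'])⟩
    rcases Cfsg.Agent.H48.Fus2G.tame_group hS h2 z ⟨z₁, hz₁S⟩ hz hz1 (Subtype.ext hz₁2)
      (fun h => hz₁1 (congrArg Subtype.val h)) (fun h => hzz₁ (congrArg Subtype.val h)) hzc
      huniqT ((centralizerIn S (Subgroup.zpowers z₁)).subgroupOf S) hQ (autSub hρ hρC) htrans
      hK P with ⟨m, -, he⟩ | h | h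
    · exact Or.inl ⟨m, he⟩
    · exact Or.inr (Or.inl h)
    · exact Or.inr (Or.inr (Or.inl h))

end Cfsg.Agent.H76.FusSys2
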