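import Mathlib
import Cfsg.Agent.H76.DerPerm
import Cfsg.Agent.H3.SelfCentCyclic

/-!
# Group-theoretic input for the derived length of linear `p`-groups

* `pgroup_dichotomy`: a finite `p`-group is metabelian or has a normal elementary abelian
  subgroup of order `p ^ 2`;
* `exists_zy`: from such a normal subgroup, a central `z` and an element `y` whose conjugates
  lie in `y ⟨z⟩`.
-/

set_option autoImplicit false

namespace Cfsg.Agent.H76.LinDer

open scoped commutatorElement

/-- Automorphisms of a cyclic group commute. -/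
theorem mulAut_comm_cyc {Q : Type*} [Group Q] (h : IsCyclic Q) (a b : MulAut Q) :
    a * b = b * a := by
  have e := IsCyclic.mulAutMulEquiv Q
  apply e.injective
  rw [map_mul, map_mul, mul_comm]

/-- A finite `p`-group has trivial second derived subgroup, or a normal subgroup of order `p ^ 2`
and exponent `p`. -/
theorem pgroup_dichotomy {P : Type*} [Group P] [Finite P] {p : ℕ} [Fact p.Prime]
    (hP : IsPGroup p P) :
    derivedSeries P 2 = ⊥ ∨
      ∃ E : Subgroup P, E.Normal ∧ Nat.card E = p ^ 2 ∧ ∀ v ∈ E, v ^ p = 1 := by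
  let S := {A : Subgroup P // A.Normal ∧ ∀ a ∈ A, ∀ b ∈ A, a * b = b * a}
  have : Nonempty S := ⟨⟨⊥, inferInstance, by
    intro a ha b hb
    rw [Subgroup.mem_bot] at ha hb
    rw [ha, hb]⟩⟩
  obtain ⟨⟨A, hAn, hAc⟩, hmax⟩ := Finite.exists_max (fun A : S => Nat.card A.1)
  have := hAn
  have hmax' : ∀ B : Subgroup P, B.Normal → (∀ a ∈ B, ∀ b ∈ B, a * b = b * a) → A ≤ B →
      B = A := by
    intro B hBn hBc hAB
    have h1 : Nat.card B ≤ Nat.card A := hmax ⟨B, hBn, hBc⟩
    exact (Subgroup.eq_of_le_of_card_ge hAB h1).symm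
  have hCA := Cfsg.Agent.H3.max_normal_abelian_self_centralizing hP A hAc hmax'
  by_cases hcyc : IsCyclic A
  · left
    have hcomm : commutator P ≤ A := by
      rw [commutator_def, Subgroup.commutator_le]
      intro g _ h _
      rw [← hCA, Subgroup.mem_centralizer_iff]
      intro a ha
      have h1 := mulAut_comm_cyc hcyc (MulAut.conjNormal (H := A) g) (MulAut.conjNormal (H := A) h)
      have h2 : MulAut.conjNormal (H := A) ⁅g, h⁆ = 1 := by
        rw [map_commutatorElement, commutatorElement_eq_one_iff_commute]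
        exact h1
      have h3 := congrArg (fun f : MulAut A => ((f ⟨a, ha⟩ : A) : P)) h2
      simp only [MulAut.conjNormal_apply, MulAut.one_apply] at h3
      exact (mul_inv_eq_iff_eq_mul.mp h3).symm
    rw [eq_bot_iff]
    have h1 : derivedSeries P 1 ≤ A := by rw [derivedSeries_one]; exact hcomm
    calc derivedSeries P 2 = ⁅derivedSeries P 1, derivedSeries P 1⁆ := rfl
      _ ≤ ⁅A, A⁆ := Subgroup.commutator_mono h1 h1
      _ ≤ ⊥ := by
        rw [Subgroup.commutator_le]
        intro a ha b hb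
        rw [Subgroup.mem_bot, commutatorElement_eq_one_iff_commute]
        exact hAc a ha b hb
  · right
    obtain ⟨V, hVn, -, hVcard, hVexp, -⟩ :=
      Cfsg.Agent.H3.exists_normal_elemAb_sq hP A hAc hcyc
    exact ⟨V, hVn, hVcard, hVexp⟩

/-- A nontrivial finite `p`-group has a central element of order `p`. -/
theorem exists_central_order_p {P : Type*} [Group P] [Finite P] {p : ℕ} [Fact p.Prime]
    (hP : IsPGroup p P) [Nontrivial P] :
    ∃ z : P, z ∈ Subgroup.center P ∧ z ≠ 1 ∧ z ^ p = 1 := by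
  have := hP.center_nontrivial
  have hZ : IsPGroup p (Subgroup.center P) := hP.to_subgroup _
  obtain ⟨n, hn0, hn⟩ := hZ.nontrivial_iff_card.mp inferInstance
  have hdvd : p ∣ Nat.card (Subgroup.center P) := hn.symm ▸ dvd_pow_self _ (ne_of_gt hn0)
  obtain ⟨x, hx⟩ := exists_prime_orderOf_dvd_card' p hdvd
  refine ⟨x, x.2, ?_, ?_⟩
  · intro h1
    have : x = 1 := Subtype.ext h1
    rw [this, orderOf_one] at hx
    exact (Fact.out : p.Prime).one_lt.ne hx
  · have := pow_orderOf_eq_one x
    rw [hx] at this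
    have h2 := congrArg Subtype.val this
    simpa using h2

/-- From a normal subgroup `E` of order `p ^ 2` and exponent `p` in a finite `p`-group: a central
element `z ≠ 1` of order `p` and an element `y ∉ ⟨z⟩` of order `p` all of whose conjugates lie in
`y ⟨z⟩`. -/
theorem exists_zy {P : Type*} [Group P] [Finite P] {p : ℕ} [Fact p.Prime] (hP : IsPGroup p P)
    (E : Subgroup P) [hEn : E.Normal] (hE : Nat.card E = p ^ 2) (hexp : ∀ v ∈ E, v ^ p = 1) :
    ∃ z y : P, z ∈ Subgroup.center P ∧ z ≠ 1 ∧ z ^ p = 1 ∧ y ^ p = 1 ∧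
      y ∉ Subgroup.zpowers z ∧ ∀ g : P, g * y * g⁻¹ * y⁻¹ ∈ Subgroup.zpowers z := by
  have hp : p.Prime := Fact.out
  have hEne : E ≠ ⊥ := by
    intro h
    rw [h, Subgroup.card_bot] at hE
    have : 1 < p ^ 2 := Nat.one_lt_pow (by norm_num) hp.one_lt
    omega
  obtain ⟨z, hzE, hzc, hz1⟩ := Cfsg.Agent.H3.normal_inf_center_ne_bot hP E hEne
  have hzp : z ^ p = 1 := hexp z hzE
  have hzo : orderOf z = p := orderOf_eq_prime hzp hz1
  have hZle : Subgroup.zpowers z ≤ Subgroup.center P := Subgroup.zpowers_le.mpr hzc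
  have hZn : (Subgroup.zpowers z).Normal := ⟨fun n hn g => by
    have h2 := Subgroup.mem_center_iff.mp (hZle hn) g
    rw [h2, mul_inv_cancel_right]
    exact hn⟩
  have hmapn : (E.map (QuotientGroup.mk' (Subgroup.zpowers z))).Normal :=
    Subgroup.Normal.map hEn _ (QuotientGroup.mk'_surjective _)
  have hne : E.map (QuotientGroup.mk' (Subgroup.zpowers z)) ≠ ⊥ := by
    intro hbot
    rw [Subgroup.map_eq_bot_iff, QuotientGroup.ker_mk'] at hbot
    have h1 : Nat.card E ≤ Nat.card (Subgroup.zpowers z) := Subgroup.card_le_of_le hbot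
    rw [hE, Nat.card_zpowers, hzo] at h1
    have : p < p ^ 2 := by
      have := hp.one_lt
      nlinarith
    omega
  have hQ : IsPGroup p (P ⧸ Subgroup.zpowers z) := hP.to_quotient _
  obtain ⟨yb, hyE, hyc, hy1⟩ := Cfsg.Agent.H3.normal_inf_center_ne_bot hQ _ hne
  obtain ⟨y, hyE', rfl⟩ := Subgroup.mem_map.mp hyE
  refine ⟨z, y, hzc, hz1, hzp, hexp y hyE', ?_, ?_⟩
  · intro hy
    apply hy1
    exact (QuotientGroup.eq_one_iff y).mpr hy
  · intro g
    rw [← QuotientGroup.eq_one_iff]
    have h2 := Subgroup.mem_center_iff.mp hyc (QuotientGroup.mk' _ g)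
    have h3 : (QuotientGroup.mk' (Subgroup.zpowers z)) (g * y * g⁻¹ * y⁻¹) = 1 := by
      rw [map_mul, map_mul, map_mul, map_inv, map_inv, h2, mul_inv_cancel_right, mul_inv_cancel]
    exact h3

end Cfsg.Agent.H76.LinDer
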