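import Mathlib
import Cfsg.Agent.H76.LinGrp
import Cfsg.Agent.S0126

/-!
# Derived length of finite linear `p`-groups in coprime characteristic

An elementary (character-free) Clifford-type induction.
-/

set_option autoImplicit false

namespace Cfsg.Agent.H76.LinDer

universe u v w

section basic

variable {F : Type*} [Field F] {V : Type*} [AddCommGroup V] [Module F V]
variable {P : Type*} [Group P]

/-- `W` is invariant under the action `ρ`. -/
def Inv (ρ : P →* Module.End F V) (W : Submodule F V) : Prop := ∀ g : P, ∀ w ∈ W, ρ g w ∈ W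

/-- The action restricted to an invariant subspace. -/
def res (ρ : P →* Module.End F V) (W : Submodule F V) (h : Inv ρ W) : P →* Module.End F W where
  toFun g := (ρ g).restrict (h g)
  map_one' := by
    ext w
    simp [LinearMap.restrict_apply]
  map_mul' g g' := by
    ext w
    simp [LinearMap.restrict_apply]

theorem res_apply (ρ : P →* Module.End F V) (W : Submodule F V) (h : Inv ρ W) (g : P) (w : W) :
    ((res ρ W h g) w : V) = ρ g w := rfl

/-- The fixed space of an element. -/
def fixS (ρ : P →* Module.End F V) (x : P) : Submodule F V := LinearMap.ker (ρ x - 1)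

theorem mem_fixS {ρ : P →* Module.End F V} {x : P} {v : V} : v ∈ fixS ρ x ↔ ρ x v = v := by
  rw [fixS, LinearMap.mem_ker, LinearMap.sub_apply, sub_eq_zero, Module.End.one_apply]

theorem rho_mul_apply (ρ : P →* Module.End F V) (g h : P) (v : V) :
    ρ (g * h) v = ρ g (ρ h v) := by
  rw [map_mul, Module.End.mul_apply]

theorem rho_inv_apply (ρ : P →* Module.End F V) (g : P) (v : V) : ρ g⁻¹ (ρ g v) = v := by
  rw [← rho_mul_apply, inv_mul_cancel, map_one, Module.End.one_apply]

theorem rho_apply_inv (ρ : P →* Module.End F V) (g : P) (v : V) : ρ g (ρ g⁻¹ v) = v := by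
  rw [← rho_mul_apply, mul_inv_cancel, map_one, Module.End.one_apply]

theorem rho_injective (ρ : P →* Module.End F V) (g : P) : Function.Injective (ρ g) :=
  Function.LeftInverse.injective (rho_inv_apply ρ g)

theorem fix_pow {ρ : P →* Module.End F V} {x : P} {v : V} (hv : v ∈ fixS ρ x) (k : ℕ) :
    ρ (x ^ k) v = v := by
  induction k with
  | zero => rw [pow_zero, map_one, Module.End.one_apply]
  | succ k ih => rw [pow_succ, rho_mul_apply, mem_fixS.mp hv, ih]

/-- Maschke's theorem, by averaging a projection. -/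
theorem maschke [Finite P] (ρ : P →* Module.End F V) (hc : (Nat.card P : F) ≠ 0)
    (W : Submodule F V) (hW : Inv ρ W) : ∃ W' : Submodule F V, Inv ρ W' ∧ IsCompl W W' := by
  classical
  have := Fintype.ofFinite P
  obtain ⟨π, hπ⟩ := LinearMap.exists_leftInverse_of_injective W.subtype (Submodule.ker_subtype W)
  have hπ' : ∀ w : W, π (w : V) = w := fun w => by
    have := congrArg (fun f => f w) hπ
    simpa using this
  let π' : V →ₗ[F] W := (Nat.card P : F)⁻¹ • ∑ g : P, (res ρ W hW g) ∘ₗ π ∘ₗ (ρ g⁻¹)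
  have hproj : ∀ w : W, π' w = w := by
    intro w
    simp only [π', LinearMap.smul_apply, LinearMap.sum_apply, LinearMap.comp_apply]
    have h1 : ∀ g : P, (res ρ W hW g) (π (ρ g⁻¹ (w : V))) = w := by
      intro g
      have h2 : ρ g⁻¹ (w : V) = ((res ρ W hW g⁻¹ w : W) : V) := rfl
      rw [h2, hπ']
      apply Subtype.ext
      rw [res_apply, res_apply, rho_apply_inv]
    rw [Finset.sum_congr rfl (fun g _ => h1 g), Finset.sum_const, Finset.card_univ,
      ← Nat.card_eq_fintype_card, ← Nat.cast_smul_eq_nsmul F, smul_smul, inv_mul_cancel₀ hc,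
      one_smul]
  have hcomm : ∀ (h : P) (v : V), π' (ρ h v) = res ρ W hW h (π' v) := by
    intro h v
    simp only [π', LinearMap.smul_apply, LinearMap.sum_apply, LinearMap.comp_apply, map_smul,
      map_sum]
    congr 1
    rw [← Equiv.sum_comp (Equiv.mulLeft h)]
    apply Finset.sum_congr rfl
    intro g _
    simp only [Equiv.coe_mulLeft]
    rw [map_mul, Module.End.mul_apply]
    congr 2
    rw [mul_inv_rev, rho_mul_apply, rho_inv_apply]
  refine ⟨LinearMap.ker π', ?_, LinearMap.isCompl_of_proj hproj⟩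
  intro h v hv
  rw [LinearMap.mem_ker] at hv ⊢
  rw [hcomm, hv, map_zero]

/-- Irreducibility. -/
def Irr (ρ : P →* Module.End F V) : Prop := ∀ W : Submodule F V, Inv ρ W → W = ⊥ ∨ W = ⊤

theorem inv_fixS_of_commute (ρ : P →* Module.End F V) (c : P) (hc : ∀ g, g * c = c * g) :
    Inv ρ (fixS ρ c) := by
  intro g w hw
  rw [mem_fixS] at hw ⊢
  rw [← rho_mul_apply, ← hc g, rho_mul_apply, hw]

theorem fixS_eq_bot_of_central (ρ : P →* Module.End F V) (hinj : Function.Injective ρ)
    (hirr : Irr ρ) (c : P) (hc : c ∈ Subgroup.center P) (hc1 : c ≠ 1) : fixS ρ c = ⊥ := by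
  rcases hirr _ (inv_fixS_of_commute ρ c (fun g => (Subgroup.mem_center_iff.mp hc g))) with h | h
  · exact h
  · exfalso
    apply hc1
    apply hinj
    rw [map_one]
    ext v
    have : v ∈ fixS ρ c := h ▸ Submodule.mem_top
    rw [Module.End.one_apply]
    exact mem_fixS.mp this

/-- The trace operator of an element of order dividing `p`. -/
def tr (ρ : P →* Module.End F V) (p : ℕ) (x : P) : Module.End F V :=
  ∑ k ∈ Finset.range p, ρ (x ^ k)

theorem tr_apply (ρ : P →* Module.End F V) (p : ℕ) (x : P) (v : V) :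
    tr ρ p x v = ∑ k ∈ Finset.range p, ρ (x ^ k) v := by
  simp only [tr, LinearMap.sum_apply]

theorem tr_mem_fixS (ρ : P →* Module.End F V) (p : ℕ) (x : P) (hx : x ^ p = 1) (v : V) :
    tr ρ p x v ∈ fixS ρ x := by
  rw [mem_fixS, tr_apply, map_sum]
  have h1 : ∀ k, ρ x (ρ (x ^ k) v) = ρ (x ^ (k + 1)) v := fun k => by
    rw [← rho_mul_apply, ← pow_succ']
  simp only [h1]
  have h2 := (Finset.sum_range_succ' (fun k => ρ (x ^ k) v) p).symm.trans
    (Finset.sum_range_succ (fun k => ρ (x ^ k) v) p)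
  rw [hx, pow_zero] at h2
  exact add_right_cancel h2

theorem tr_fix (ρ : P →* Module.End F V) (p : ℕ) {x : P} {v : V} (hv : v ∈ fixS ρ x) :
    tr ρ p x v = (p : F) • v := by
  rw [tr_apply, Finset.sum_congr rfl (fun k _ => fix_pow hv k), Finset.sum_const,
    Finset.card_range, Nat.cast_smul_eq_nsmul]

/-- The averaging identity for `⟨y, z⟩` when no nontrivial power of `z` has fixed vectors. -/
theorem avg_identity (ρ : P →* Module.End F V) (p : ℕ) (y z : P) (hyz : Commute y z)
    (hz : z ^ p = 1) (hp : 0 < p)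
    (hfix : ∀ k, 0 < k → k < p → fixS ρ (z ^ k) = ⊥) (v : V) :
    ∑ i ∈ Finset.range p, tr ρ p (y * z ^ i) v = (p : F) • v := by
  simp only [tr_apply]
  rw [Finset.sum_comm]
  have h1 : ∀ k i, ρ ((y * z ^ i) ^ k) v = ρ (y ^ k) (ρ ((z ^ k) ^ i) v) := by
    intro k i
    rw [(hyz.pow_right i).mul_pow, ← pow_mul, ← pow_mul, mul_comm i k, rho_mul_apply]
  simp only [h1]
  have h2 : ∀ k, ∑ i ∈ Finset.range p, ρ (y ^ k) (ρ ((z ^ k) ^ i) v) =
      ρ (y ^ k) (tr ρ p (z ^ k) v) := by
    intro k
    rw [tr_apply, map_sum]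
  simp only [h2]
  rw [Finset.sum_eq_single_of_mem 0 (Finset.mem_range.mpr hp)]
  · rw [pow_zero, pow_zero, map_one, Module.End.one_apply]
    exact tr_fix ρ p (mem_fixS.mpr (by rw [map_one, Module.End.one_apply]))
  · intro k hk hk0
    have hk' := Finset.mem_range.mp hk
    have h3 : tr ρ p (z ^ k) v ∈ fixS ρ (z ^ k) :=
      tr_mem_fixS ρ p (z ^ k) (by rw [← pow_mul, mul_comm, pow_mul, hz, one_pow]) v
    rw [hfix k (Nat.pos_of_ne_zero hk0) hk', Submodule.mem_bot] at h3
    rw [h3, map_zero]

/-- Decomposition of a vector into fixed vectors of the `y z ^ i`. -/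
theorem exists_decomp (ρ : P →* Module.End F V) (p : ℕ) (hpF : (p : F) ≠ 0) (y z : P)
    (hyz : Commute y z) (hy : y ^ p = 1) (hz : z ^ p = 1) (hp : 0 < p)
    (hfix : ∀ k, 0 < k → k < p → fixS ρ (z ^ k) = ⊥) (v : V) :
    ∃ t : ℕ → V, (∀ i ∈ Finset.range p, t i ∈ fixS ρ (y * z ^ i)) ∧
      v = ∑ i ∈ Finset.range p, t i := by
  refine ⟨fun i => (p : F)⁻¹ • tr ρ p (y * z ^ i) v, ?_, ?_⟩
  · intro i _
    apply Submodule.smul_mem
    exact tr_mem_fixS ρ p _ (by
      rw [(hyz.pow_right i).mul_pow, hy, ← pow_mul, mul_comm, pow_mul, hz, one_pow, one_mul]) v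
  · rw [← Finset.smul_sum, avg_identity ρ p y z hyz hz hp hfix v, smul_smul,
      inv_mul_cancel₀ hpF, one_smul]

/-- Independence of the fixed spaces of `c ^ t * h`, `t < p`. -/
theorem indep_fix (ρ : P →* Module.End F V) (hinj : Function.Injective ρ) (hirr : Irr ρ)
    (p : ℕ) (hp : p.Prime) (hpF : (p : F) ≠ 0) (c h : P) (hc : c ∈ Subgroup.center P)
    (hc1 : c ≠ 1) (hcp : c ^ p = 1)
    (w : Fin p → V) (hw : ∀ t : Fin p, w t ∈ fixS ρ (c ^ (t : ℕ) * h)) (hsum : ∑ t, w t = 0) :
    ∀ t, w t = 0 := by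
  intro t₀
  have : Fact p.Prime := ⟨hp⟩
  have hco : orderOf c = p := orderOf_eq_prime hcp hc1
  have h1 := congrArg (tr ρ p (c ^ (t₀ : ℕ) * h)) hsum
  rw [map_sum, map_zero, Finset.sum_eq_single t₀] at h1
  · rw [tr_fix ρ p (hw t₀)] at h1
    exact (smul_eq_zero.mp h1).resolve_left hpF
  · intro t _ ht
    set u : P := c ^ (t₀ : ℕ) * (c ^ (t : ℕ))⁻¹ with hu
    have huc : u ∈ Subgroup.center P :=
      Subgroup.mul_mem _ (Subgroup.pow_mem _ hc _) (Subgroup.inv_mem _ (Subgroup.pow_mem _ hc _))
    have hu1 : u ≠ 1 := by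
      intro h1
      rw [hu, mul_inv_eq_one] at h1
      have := pow_injOn_Iio_orderOf (x := c) (by rw [Set.mem_Iio, hco]; exact t₀.2)
        (by rw [Set.mem_Iio, hco]; exact t.2) h1
      exact ht (Fin.ext this).symm
    have hup : u ^ p = 1 := by
      have hcc : Commute (c ^ (t₀ : ℕ)) ((c ^ (t : ℕ))⁻¹) :=
        ((Commute.refl c).pow_pow _ _).inv_right
      rw [hu, hcc.mul_pow, inv_pow, ← pow_mul, ← pow_mul, mul_comm _ p, mul_comm _ p, pow_mul,
        pow_mul, hcp, one_pow, one_pow, inv_one, mul_one]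
    have hux : c ^ (t₀ : ℕ) * h = u * (c ^ (t : ℕ) * h) := by rw [hu]; group
    have hcomm : Commute u (c ^ (t : ℕ) * h) := (Subgroup.mem_center_iff.mp huc _).symm
    have h2 : tr ρ p (c ^ (t₀ : ℕ) * h) (w t) = tr ρ p u (w t) := by
      rw [tr_apply, tr_apply]
      apply Finset.sum_congr rfl
      intro k _
      rw [hux, hcomm.mul_pow, rho_mul_apply, fix_pow (hw t)]
    have h3 := tr_mem_fixS ρ p u hup (w t)
    rw [fixS_eq_bot_of_central ρ hinj hirr u huc hu1, Submodule.mem_bot] at h3
    rw [h2, h3]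
  · intro h
    exact absurd (Finset.mem_univ t₀) h

theorem finrank_sum_le [FiniteDimensional F V] {p : ℕ} (W : Fin p → Submodule F V)
    (hind : ∀ w : Fin p → V, (∀ t, w t ∈ W t) → ∑ t, w t = 0 → ∀ t, w t = 0) :
    ∑ t, Module.finrank F (W t) ≤ Module.finrank F V := by
  let f : (∀ t : Fin p, W t) →ₗ[F] V := ∑ t, (W t).subtype ∘ₗ LinearMap.proj t
  have hf : Function.Injective f := by
    rw [← LinearMap.ker_eq_bot, LinearMap.ker_eq_bot']
    intro w hw
    have h1 : ∑ t, ((w t : W t) : V) = 0 := by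
      simpa [f, LinearMap.sum_apply] using hw
    have := hind (fun t => (w t : V)) (fun t => (w t).2) h1
    funext t
    exact Subtype.ext (this t)
  have := LinearMap.finrank_le_finrank_of_injective hf
  rwa [Module.finrank_pi_fintype] at this

theorem finrank_fixS_conj_le [FiniteDimensional F V] (ρ : P →* Module.End F V) (g x : P) :
    Module.finrank F (fixS ρ x) ≤ Module.finrank F (fixS ρ (g * x * g⁻¹)) := by
  have hmap : ∀ v ∈ fixS ρ x, ρ g v ∈ fixS ρ (g * x * g⁻¹) := by
    intro v hv
    rw [mem_fixS] at hv ⊢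
    rw [← rho_mul_apply, inv_mul_cancel_right, rho_mul_apply, hv]
  apply LinearMap.finrank_le_finrank_of_injective (f := (ρ g).restrict hmap)
  intro a b hab
  apply Subtype.ext
  have := congrArg Subtype.val hab
  exact rho_injective ρ g this

theorem finrank_fixS_conj [FiniteDimensional F V] (ρ : P →* Module.End F V) (g x : P) :
    Module.finrank F (fixS ρ (g * x * g⁻¹)) = Module.finrank F (fixS ρ x) := by
  apply le_antisymm
  · have h := finrank_fixS_conj_le ρ g⁻¹ (g * x * g⁻¹)
    have h2 : g⁻¹ * (g * x * g⁻¹) * g⁻¹⁻¹ = x := by group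
    rwa [h2] at h
  · exact finrank_fixS_conj_le ρ g x

/-- If every `A`-invariant subspace is trivial, the commutant of `A` is commutative. -/
theorem commute_of_cyclic (A B C : Module.End F V)
    (hA : ∀ U : Submodule F V, (∀ u ∈ U, A u ∈ U) → U = ⊥ ∨ U = ⊤)
    (hB : Commute A B) (hC : Commute A C) : B * C = C * B := by
  by_cases hV : ∀ v : V, v = 0
  · ext v
    rw [hV ((B * C) v), hV ((C * B) v)]
  push Not at hV
  obtain ⟨v, hv⟩ := hV
  let U : Submodule F V := Submodule.span F (Set.range (fun k : ℕ => (A ^ k) v))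
  have hUinv : ∀ u ∈ U, A u ∈ U := by
    intro u hu
    induction hu using Submodule.span_induction with
    | mem x hx =>
      obtain ⟨k, rfl⟩ := hx
      apply Submodule.subset_span
      exact ⟨k + 1, by
        show (A ^ (k + 1)) v = A ((A ^ k) v)
        rw [pow_succ', Module.End.mul_apply]⟩
    | zero => rw [map_zero]; exact Submodule.zero_mem _
    | add x y _ _ hx hy => rw [map_add]; exact Submodule.add_mem _ hx hy
    | smul r x _ hx => rw [map_smul]; exact Submodule.smul_mem _ r hx
  have hvU : v ∈ U := Submodule.subset_span ⟨0, by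
    show (A ^ 0) v = v
    rw [pow_zero, Module.End.one_apply]⟩
  have hUtop : U = ⊤ := by
    rcases hA U hUinv with h | h
    · rw [h, Submodule.mem_bot] at hvU
      exact absurd hvU hv
    · exact h
  have hrep : ∀ u ∈ U, ∃ a : Module.End F V, a v = u ∧
      ∀ D : Module.End F V, Commute A D → Commute a D := by
    intro u hu
    induction hu using Submodule.span_induction with
    | mem x hx =>
      obtain ⟨k, rfl⟩ := hx
      exact ⟨A ^ k, rfl, fun D hD => hD.pow_left k⟩
    | zero => exact ⟨0, by simp, fun D _ => Commute.zero_left D⟩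
    | add x y _ _ hx hy =>
      obtain ⟨a, ha, ha'⟩ := hx
      obtain ⟨b, hb, hb'⟩ := hy
      exact ⟨a + b, by rw [LinearMap.add_apply, ha, hb], fun D hD => (ha' D hD).add_left (hb' D hD)⟩
    | smul r x _ hx =>
      obtain ⟨a, ha, ha'⟩ := hx
      exact ⟨r • a, by rw [LinearMap.smul_apply, ha], fun D hD => (ha' D hD).smul_left r⟩
  obtain ⟨a, ha, ha'⟩ := hrep (B v) (hUtop ▸ Submodule.mem_top)
  obtain ⟨b, hb, hb'⟩ := hrep (C v) (hUtop ▸ Submodule.mem_top)
  have hab : Commute a b := ha' b ((hb' A (Commute.refl A)).symm)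
  have hv0 : (B * C - C * B) v = 0 := by
    rw [LinearMap.sub_apply, Module.End.mul_apply, Module.End.mul_apply, ← hb, ← ha]
    have e1 : B (b v) = b (B v) := by
      have := congrArg (fun f : Module.End F V => f v) (hb' B hB).eq
      simpa [Module.End.mul_apply] using this.symm
    have e2 : C (a v) = a (C v) := by
      have := congrArg (fun f : Module.End F V => f v) (ha' C hC).eq
      simpa [Module.End.mul_apply] using this.symm
    have e3 : a (b v) = b (a v) := by
      have := congrArg (fun f : Module.End F V => f v) hab.eq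
      simpa [Module.End.mul_apply] using this
    rw [e1, e2, ← ha, ← hb, e3, sub_self]
  have hcomm : Commute A (B * C - C * B) := (hB.mul_right hC).sub_right (hC.mul_right hB)
  have hS : LinearMap.ker (B * C - C * B) = ⊤ := by
    rcases hA (LinearMap.ker (B * C - C * B)) (by
      intro s hs
      rw [LinearMap.mem_ker] at hs ⊢
      have := congrArg (fun f : Module.End F V => f s) hcomm.eq
      simp only [Module.End.mul_apply] at this
      rw [← this, hs, map_zero]) with h | h
    · have : v ∈ LinearMap.ker (B * C - C * B) := LinearMap.mem_ker.mpr hv0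
      rw [h, Submodule.mem_bot] at this
      exact absurd this hv
    · exact h
  rw [LinearMap.ker_eq_top] at hS
  exact sub_eq_zero.mp hS

theorem restrict_pow_eq_one (ρ : P →* Module.End F V) (x : P) (p : ℕ) (hx : x ^ p = 1)
    (W : Submodule F V) (hW : ∀ u ∈ W, ρ x u ∈ W) : ((ρ x).restrict hW) ^ p = 1 := by
  ext u
  have h1 : ∀ k : ℕ, ((((ρ x).restrict hW) ^ k) u : V) = ρ (x ^ k) u := by
    intro k
    induction k with
    | zero => simp
    | succ k ih =>
      rw [pow_succ', Module.End.mul_apply, LinearMap.coe_restrict_apply, ih, ← rho_mul_apply,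
        ← pow_succ']
  rw [h1, hx, map_one]
  simp

theorem num_B1 {b p d e n : ℕ} (hb2 : 2 ≤ b) (hbp : b ≤ p) (hd : p * d ≤ n) (hpe : p * e ≤ n)
    (he : 0 < e) : Nat.log b (d / e) + 1 ≤ Nat.log b (n / e) := by
  have h1 : b ≤ n / e := by
    rw [Nat.le_div_iff_mul_le he]
    calc b * e ≤ p * e := Nat.mul_le_mul_right e hbp
      _ ≤ n := hpe
  have h2 : d / e ≤ n / e / b := by
    rw [Nat.div_div_eq_div_mul, Nat.le_div_iff_mul_le (by positivity)]
    calc d / e * (e * b) = (d / e * e) * b := by ring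
      _ ≤ d * b := Nat.mul_le_mul_right b (Nat.div_mul_le_self d e)
      _ ≤ d * p := Nat.mul_le_mul_left d hbp
      _ ≤ n := by rw [mul_comm]; exact hd
  have h3 : Nat.log b (n / e / b) = Nat.log b (n / e) - 1 := Nat.log_div_base b (n / e)
  have h4 : 0 < Nat.log b (n / e) := Nat.log_pos (by omega) h1
  have h5 := Nat.log_mono_right (b := b) h2
  omega

end basic

section main

variable {F : Type w} [Field F]

/-- Fixed-point-free elements of order `p` only occur in dimensions divisible by `e`. -/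
def FpfDvd (F : Type w) [Field F] (p e : ℕ) : Prop :=
  ∀ (U : Type u) [AddCommGroup U] [Module F U] [FiniteDimensional F U] (x : Module.End F U),
    x ^ p = 1 → (∀ u, x u = u → u = 0) → e ∣ Module.finrank F U

/-- A nonabelian irreducible faithful `p`-group needs dimension at least `2 e`. -/
theorem two_e_le {V : Type u} [AddCommGroup V] [Module F V] [FiniteDimensional F V]
    {P : Type v} [Group P] [Finite P] (p e : ℕ) [Fact p.Prime] (hpF : (p : F) ≠ 0)
    (He : FpfDvd.{u, w} F p e) (_he : 0 < e)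
    (ρ : P →* Module.End F V) (hinj : Function.Injective ρ) (hirr : Irr ρ)
    (hnab : ¬ ∀ g h : P, g * h = h * g) (z : P) (hzc : z ∈ Subgroup.center P) (hz1 : z ≠ 1)
    (hzp : z ^ p = 1) : 2 * e ≤ Module.finrank F V := by
  have hfz : fixS ρ z = ⊥ := fixS_eq_bot_of_central ρ hinj hirr z hzc hz1
  by_cases hU : ∃ U : Submodule F V, U ≠ ⊥ ∧ U ≠ ⊤ ∧ ∀ u ∈ U, ρ z u ∈ U
  · obtain ⟨U, hU0, hU1, hUz⟩ := hU
    let Z := Subgroup.zpowers z
    let ρZ : Z →* Module.End F V := ρ.comp Z.subtype
    have hzo : orderOf z = p := orderOf_eq_prime hzp hz1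
    have hpow : ∀ i : ℕ, ∀ u ∈ U, ρ (z ^ i) u ∈ U := by
      intro i
      induction i with
      | zero => intro u hu; rw [pow_zero, map_one, Module.End.one_apply]; exact hu
      | succ i ih => intro u hu; rw [pow_succ, rho_mul_apply]; exact ih _ (hUz u hu)
    have hinvU : Inv ρZ U := by
      intro g u hu
      have hfin : IsOfFinOrder z :=
        isOfFinOrder_iff_pow_eq_one.mpr ⟨p, (Fact.out : p.Prime).pos, hzp⟩
      obtain ⟨i, hi⟩ := (Submonoid.mem_powers_iff _ _).mp
        (hfin.mem_powers_iff_mem_zpowers.mpr g.2)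
      have : ρZ g u = ρ (z ^ i) u := by rw [hi]; rfl
      rw [this]
      exact hpow i u hu
    have hcard : (Nat.card Z : F) ≠ 0 := by rw [Nat.card_zpowers, hzo]; exact hpF
    obtain ⟨U', hinvU', hcompl⟩ := maschke ρZ hcard U hinvU
    have key : ∀ (W : Submodule F V), Inv ρZ W → W ≠ ⊥ → e ≤ Module.finrank F W := by
      intro W hW hW0
      have hWz : ∀ u ∈ W, ρ z u ∈ W := fun u hu => hW ⟨z, Subgroup.mem_zpowers z⟩ u hu
      have h1 := restrict_pow_eq_one ρ z p hzp W hWz
      have h2 : ∀ u : W, (ρ z).restrict hWz u = u → u = 0 := by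
        intro u hu
        have h3 : ρ z (u : V) = u := congrArg Subtype.val hu
        have h4 : (u : V) ∈ fixS ρ z := mem_fixS.mpr h3
        rw [hfz, Submodule.mem_bot] at h4
        exact Subtype.ext h4
      have h5 := He W ((ρ z).restrict hWz) h1 h2
      have h6 : 0 < Module.finrank F W :=
        Module.finrank_pos_iff.mpr ((Submodule.nontrivial_iff_ne_bot).mpr hW0)
      exact Nat.le_of_dvd h6 h5
    have hU'0 : U' ≠ ⊥ := by
      intro h
      rw [h] at hcompl
      exact hU1 (eq_top_of_isCompl_bot hcompl)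
    have h1 := key U hinvU hU0
    have h2 := key U' hinvU' hU'0
    have h3 := Submodule.finrank_add_eq_of_isCompl hcompl
    omega
  · exfalso
    push Not at hU
    apply hnab
    intro g h
    apply hinj
    rw [map_mul, map_mul]
    apply commute_of_cyclic (ρ z) (ρ g) (ρ h)
    · intro U hUz
      by_contra hcon
      push Not at hcon
      obtain ⟨u, hu, hu'⟩ := hU U hcon.1 hcon.2
      exact hu' (hUz u hu)
    · have : Commute z g := (Subgroup.mem_center_iff.mp hzc g).symm
      exact this.map ρ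
    · have : Commute z h := (Subgroup.mem_center_iff.mp hzc h).symm
      exact this.map ρ

/-- The imprimitive step. -/
theorem step_B1 {V : Type u} [AddCommGroup V] [Module F V] [FiniteDimensional F V]
    {P : Type v} [Group P] [Finite P]
    (p b e : ℕ) [Fact p.Prime] (hb2 : 2 ≤ b) (hbp : b ≤ p) (he : 0 < e) (hpF : (p : F) ≠ 0)
    (He : FpfDvd.{u, w} F p e) (n : ℕ)
    (IH : ∀ m < n, ∀ (V' : Type u) [AddCommGroup V'] [Module F V'] [FiniteDimensional F V'],
      Module.finrank F V' = m → ∀ (P' : Type v) [Group P'] [Finite P'], IsPGroup p P' →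
        ∀ ρ' : P' →* Module.End F V', derivedSeries P' (Nat.log b (m / e) + 1) ≤ ρ'.ker)
    (hn : Module.finrank F V = n) (hP : IsPGroup p P)
    (ρ : P →* Module.End F V) (hinj : Function.Injective ρ) (hirr : Irr ρ)
    (z y : P) (hzc : z ∈ Subgroup.center P) (hz1 : z ≠ 1) (hzp : z ^ p = 1) (hyp : y ^ p = 1)
    (hyz : y ∉ Subgroup.zpowers z) (hconj : ∀ g : P, g * y * g⁻¹ * y⁻¹ ∈ Subgroup.zpowers z) :
    derivedSeries P (Nat.log b (n / e) + 1) = ⊥ := by
  have hp : p.Prime := Fact.out
  have hzo : orderOf z = p := orderOf_eq_prime hzp hz1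
  have hZle : Subgroup.zpowers z ≤ Subgroup.center P := Subgroup.zpowers_le.mpr hzc
  have hcom : Commute y z := Subgroup.mem_center_iff.mp hzc y
  have hzk : ∀ k, 0 < k → k < p → fixS ρ (z ^ k) = ⊥ := by
    intro k hk0 hkp
    apply fixS_eq_bot_of_central ρ hinj hirr _ (Subgroup.pow_mem _ hzc k)
    exact pow_ne_one_of_lt_orderOf hk0.ne' (by rw [hzo]; exact hkp)
  have hdec := exists_decomp ρ p hpF y z hcom hyp hzp hp.pos hzk
  obtain ⟨v, hv⟩ : ∃ v : V, v ≠ 0 := by
    by_contra hcon
    push Not at hcon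
    apply hz1
    apply hinj
    ext v
    rw [hcon (ρ z v), hcon (ρ 1 v)]
  obtain ⟨i₀, hi₀, hne⟩ : ∃ i₀ ∈ Finset.range p, fixS ρ (y * z ^ i₀) ≠ ⊥ := by
    by_contra hcon
    push Not at hcon
    obtain ⟨t, ht, hvt⟩ := hdec v
    apply hv
    rw [hvt]
    apply Finset.sum_eq_zero
    intro i hi
    have := ht i hi
    rw [hcon i hi, Submodule.mem_bot] at this
    exact this
  have hh₀c : y * z ^ i₀ ∉ Subgroup.center P := by
    intro hc
    apply hne
    apply fixS_eq_bot_of_central ρ hinj hirr _ hc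
    intro h1
    apply hyz
    have : y = (z ^ i₀)⁻¹ := eq_inv_of_mul_eq_one_left h1
    rw [this]
    exact Subgroup.inv_mem _ (Subgroup.pow_mem _ (Subgroup.mem_zpowers z) _)
  obtain ⟨g₀, hg₀⟩ : ∃ g₀ : P, g₀ * y ≠ y * g₀ := by
    by_contra hcon
    push Not at hcon
    apply hh₀c
    rw [Subgroup.mem_center_iff]
    intro g
    rw [← mul_assoc, hcon g, mul_assoc, mul_assoc]
    congr 1
    exact (Subgroup.mem_center_iff.mp (Subgroup.pow_mem _ hzc i₀) g)
  set c := g₀ * y * g₀⁻¹ * y⁻¹ with hcdef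
  have hcZ : c ∈ Subgroup.zpowers z := hconj g₀
  have hcc : c ∈ Subgroup.center P := hZle hcZ
  have hc1 : c ≠ 1 := by
    intro h1
    apply hg₀
    rw [hcdef, mul_inv_eq_one] at h1
    exact mul_inv_eq_iff_eq_mul.mp h1
  have hcp : c ^ p = 1 := by
    obtain ⟨j, hj⟩ := Subgroup.mem_zpowers_iff.mp hcZ
    rw [← hj, ← zpow_natCast, ← zpow_mul, mul_comm, zpow_mul, zpow_natCast, hzp, one_zpow]
  have hconj_y : g₀ * y * g₀⁻¹ = c * y := by rw [hcdef]; group
  have hdim : ∀ i : ℕ, p * Module.finrank F (fixS ρ (y * z ^ i)) ≤ n := by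
    intro i
    have hconj_h : g₀ * (y * z ^ i) * g₀⁻¹ = c * (y * z ^ i) := by
      have hzi : g₀ * z ^ i = z ^ i * g₀ :=
        Subgroup.mem_center_iff.mp (Subgroup.pow_mem _ hzc i) g₀
      have e1 : g₀ * z ^ i * g₀⁻¹ = z ^ i := by rw [hzi, mul_inv_cancel_right]
      calc g₀ * (y * z ^ i) * g₀⁻¹ = (g₀ * y * g₀⁻¹) * (g₀ * z ^ i * g₀⁻¹) := by group
        _ = c * (y * z ^ i) := by rw [hconj_y, e1, mul_assoc]
    have heq : ∀ t : ℕ, Module.finrank F (fixS ρ (c ^ t * (y * z ^ i))) =
        Module.finrank F (fixS ρ (y * z ^ i)) := by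
      intro t
      induction t with
      | zero => rw [pow_zero, one_mul]
      | succ t ih =>
        have e2 : c ^ (t + 1) * (y * z ^ i) = g₀ * (c ^ t * (y * z ^ i)) * g₀⁻¹ := by
          have hct : g₀ * c ^ t = c ^ t * g₀ :=
            Subgroup.mem_center_iff.mp (Subgroup.pow_mem _ hcc t) g₀
          calc c ^ (t + 1) * (y * z ^ i) = c ^ t * (c * (y * z ^ i)) := by
                rw [pow_succ, mul_assoc]
            _ = c ^ t * (g₀ * (y * z ^ i) * g₀⁻¹) := by rw [hconj_h]
            _ = g₀ * (c ^ t * (y * z ^ i)) * g₀⁻¹ := by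
              rw [← mul_assoc g₀ (c ^ t), hct]
              group
        rw [e2, finrank_fixS_conj, ih]
    have hind := indep_fix ρ hinj hirr p hp hpF c (y * z ^ i) hcc hc1 hcp
    have hsum := finrank_sum_le (fun t : Fin p => fixS ρ (c ^ (t : ℕ) * (y * z ^ i))) hind
    simp only [heq] at hsum
    rw [Finset.sum_const, Finset.card_univ, Fintype.card_fin, smul_eq_mul, hn] at hsum
    exact hsum
  have hpe : p * e ≤ n := by
    have hzinv : ∀ u ∈ fixS ρ (y * z ^ i₀), ρ z u ∈ fixS ρ (y * z ^ i₀) := by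
      intro u hu
      rw [mem_fixS] at hu ⊢
      rw [← rho_mul_apply, Subgroup.mem_center_iff.mp hzc (y * z ^ i₀), rho_mul_apply, hu]
    have hx1 := restrict_pow_eq_one ρ z p hzp _ hzinv
    have hx2 : ∀ u : fixS ρ (y * z ^ i₀), (ρ z).restrict hzinv u = u → u = 0 := by
      intro u hu
      have h3 : ρ z (u : V) = u := congrArg Subtype.val hu
      have h4 : (u : V) ∈ fixS ρ z := mem_fixS.mpr h3
      rw [fixS_eq_bot_of_central ρ hinj hirr z hzc hz1, Submodule.mem_bot] at h4
      exact Subtype.ext h4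
    have h5 := He (fixS ρ (y * z ^ i₀)) ((ρ z).restrict hzinv) hx1 hx2
    have h6 : 0 < Module.finrank F (fixS ρ (y * z ^ i₀)) :=
      Module.finrank_pos_iff.mpr ((Submodule.nontrivial_iff_ne_bot).mpr hne)
    have h7 := Nat.le_of_dvd h6 h5
    calc p * e ≤ p * Module.finrank F (fixS ρ (y * z ^ i₀)) := Nat.mul_le_mul_left p h7
      _ ≤ n := hdim i₀
  let M : Subgroup P := Subgroup.centralizer {y}
  have hM : commutator P ≤ M := by
    let φ : P →* Subgroup.center P :=
      { toFun := fun g => ⟨g * y * g⁻¹ * y⁻¹, hZle (hconj g)⟩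
        map_one' := by
          apply Subtype.ext
          simp
        map_mul' := by
          intro g h
          apply Subtype.ext
          show g * h * y * (g * h)⁻¹ * y⁻¹ = (g * y * g⁻¹ * y⁻¹) * (h * y * h⁻¹ * y⁻¹)
          have hc := Subgroup.mem_center_iff.mp (hZle (hconj h)) g
          have hc2 := Subgroup.mem_center_iff.mp (hZle (hconj h)) (g * y * g⁻¹ * y⁻¹)
          calc g * h * y * (g * h)⁻¹ * y⁻¹
              = g * (h * y * h⁻¹ * y⁻¹) * y * g⁻¹ * y⁻¹ := by group
            _ = (h * y * h⁻¹ * y⁻¹) * g * y * g⁻¹ * y⁻¹ := by rw [hc]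
            _ = (g * y * g⁻¹ * y⁻¹) * (h * y * h⁻¹ * y⁻¹) := by
              rw [hc2]
              simp only [mul_assoc] }
    have hker : ∀ g : P, φ g = 1 → g ∈ M := by
      intro g h2
      have h3 : g * y * g⁻¹ * y⁻¹ = 1 := congrArg Subtype.val h2
      rw [Subgroup.mem_centralizer_iff]
      intro a ha
      rw [Set.mem_singleton_iff] at ha
      rw [ha]
      have h4 := mul_inv_eq_one.mp h3
      exact (mul_inv_eq_iff_eq_mul.mp h4).symm
    rw [commutator_def, Subgroup.commutator_le]
    intro g _ h _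
    apply hker
    rw [map_commutatorElement, commutatorElement_eq_one_iff_commute]
    exact Subtype.ext (Subgroup.mem_center_iff.mp (φ h).2 (φ g : P))
  have hnum : ∀ i, Nat.log b (Module.finrank F (fixS ρ (y * z ^ i)) / e) + 1 ≤
      Nat.log b (n / e) := fun i => num_B1 hb2 hbp (hdim i) hpe he
  have hMbot : derivedSeries M (Nat.log b (n / e)) = ⊥ := by
    rw [eq_bot_iff]
    intro x hx
    rw [Subgroup.mem_bot]
    apply Subtype.ext
    show (x : P) = 1
    apply hinj
    rw [map_one]
    ext v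
    rw [Module.End.one_apply]
    obtain ⟨t, ht, hvt⟩ := hdec v
    rw [hvt, map_sum]
    apply Finset.sum_congr rfl
    intro i hi
    have hinv_i : Inv (ρ.comp M.subtype) (fixS ρ (y * z ^ i)) := by
      intro g w hw
      rw [mem_fixS] at hw ⊢
      show ρ (y * z ^ i) (ρ (g : P) w) = ρ (g : P) w
      have hgy : y * (g : P) = (g : P) * y :=
        Subgroup.mem_centralizer_iff.mp g.2 y (Set.mem_singleton y)
      have hcomm : (y * z ^ i) * (g : P) = (g : P) * (y * z ^ i) := by
        rw [mul_assoc, ← Subgroup.mem_center_iff.mp (Subgroup.pow_mem _ hzc i) (g : P),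
          ← mul_assoc, hgy, mul_assoc]
      rw [← rho_mul_apply, hcomm, rho_mul_apply, hw]
    have hlt : Module.finrank F (fixS ρ (y * z ^ i)) < n := by
      have h1 := hdim i
      have h2 := hp.two_le
      have h3 : 0 < e := he
      nlinarith
    have h1 := IH _ hlt (fixS ρ (y * z ^ i)) rfl M (hP.to_subgroup M)
      (res (ρ.comp M.subtype) _ hinv_i)
    have h2 : x ∈ derivedSeries M
        (Nat.log b (Module.finrank F (fixS ρ (y * z ^ i)) / e) + 1) :=
      derivedSeries_antitone _ (hnum i) hx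
    have h3 := h1 h2
    rw [MonoidHom.mem_ker] at h3
    have h4 := congrArg (fun f : Module.End F (fixS ρ (y * z ^ i)) =>
      ((f ⟨t i, ht i hi⟩ : fixS ρ (y * z ^ i)) : V)) h3
    exact h4
  rw [eq_bot_iff]
  have h1 := derivedSeries_succ_le_dser M hM (Nat.log b (n / e))
  rw [(derivedSeries_eq_bot_iff_dser M _).mp hMbot] at h1
  exact h1


/-- The faithful irreducible step of the induction. -/
theorem main_step {V : Type u} [AddCommGroup V] [Module F V] [FiniteDimensional F V]
    {P : Type v} [Group P] [Finite P]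
    (p b e : ℕ) [Fact p.Prime] (hb2 : 2 ≤ b) (hbp : b ≤ p) (hb : b = 2 ∨ p ≠ 2) (he : 0 < e)
    (hpF : (p : F) ≠ 0) (He : FpfDvd.{u, w} F p e) (n : ℕ)
    (IH : ∀ m < n, ∀ (V' : Type u) [AddCommGroup V'] [Module F V'] [FiniteDimensional F V'],
      Module.finrank F V' = m → ∀ (P' : Type v) [Group P'] [Finite P'], IsPGroup p P' →
        ∀ ρ' : P' →* Module.End F V', derivedSeries P' (Nat.log b (m / e) + 1) ≤ ρ'.ker)
    (hn : Module.finrank F V = n) (hP : IsPGroup p P)
    (ρ : P →* Module.End F V) (hinj : Function.Injective ρ) (hirr : Irr ρ) :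
    derivedSeries P (Nat.log b (n / e) + 1) = ⊥ := by
  by_cases hab : ∀ g h : P, g * h = h * g
  · rw [eq_bot_iff]
    have h1 : derivedSeries P 1 = ⊥ := by
      rw [derivedSeries_one, commutator_def, eq_bot_iff, Subgroup.commutator_le]
      intro g _ h _
      rw [Subgroup.mem_bot, commutatorElement_eq_one_iff_commute]
      exact hab g h
    rw [← h1]
    exact derivedSeries_antitone _ (by omega)
  · have hE : (∃ E : Subgroup P, E.Normal ∧ Nat.card E = p ^ 2 ∧ ∀ v ∈ E, v ^ p = 1) ∨
        (b = 2 ∧ derivedSeries P 2 = ⊥) := by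
      rcases hb with hb | hb
      · rcases pgroup_dichotomy hP with h | h
        · right; exact ⟨hb, h⟩
        · left; exact h
      · left
        have hnc : ¬ IsCyclic P := by
          intro hc
          apply hab
          intro g h
          obtain ⟨x, hx⟩ := hc.exists_generator
          obtain ⟨i, rfl⟩ := Subgroup.mem_zpowers_iff.mp (hx g)
          obtain ⟨j, rfl⟩ := Subgroup.mem_zpowers_iff.mp (hx h)
          rw [← zpow_add, ← zpow_add, add_comm]
        obtain ⟨A, hAn, hAe, hAc⟩ := Cfsg.Agent.S0126.result hb hP hnc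
        exact ⟨A, hAn, hAc, hAe.2⟩
    rcases hE with ⟨E, hEn, hEc, hEe⟩ | ⟨hb, h2⟩
    · have := hEn
      obtain ⟨z, y, hzc, hz1, hzp, hyp, hyz, hconj⟩ := exists_zy hP E hEc hEe
      exact step_B1 p b e hb2 hbp he hpF He n IH hn hP ρ hinj hirr z y hzc hz1 hzp hyp hyz hconj
    · have : Nontrivial P := by
        by_contra hcon
        rw [not_nontrivial_iff_subsingleton] at hcon
        exact hab (fun g h => by rw [Subsingleton.elim g 1, Subsingleton.elim h 1])
      obtain ⟨z, hzc, hz1, hzp⟩ := exists_central_order_p hP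
      have h3 := two_e_le p e hpF He he ρ hinj hirr hab z hzc hz1 hzp
      rw [hn] at h3
      rw [eq_bot_iff, ← h2]
      apply derivedSeries_antitone
      subst hb
      have h4 : 2 ≤ n / e := by rw [Nat.le_div_iff_mul_le he]; exact h3
      have h5 := Nat.log_pos (b := 2) (by norm_num) h4
      omega

/-- **Main theorem** (coprime characteristic): for a finite `p`-group acting on an
`n`-dimensional space, the `(log_b (n / e) + 1)`-st derived subgroup acts trivially. -/
theorem main (p b e : ℕ) [Fact p.Prime] (hb2 : 2 ≤ b) (hbp : b ≤ p) (hb : b = 2 ∨ p ≠ 2)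
    (he : 0 < e) (hpF : (p : F) ≠ 0) (He : FpfDvd.{u, w} F p e) :
    ∀ (n : ℕ) (V : Type u) [AddCommGroup V] [Module F V] [FiniteDimensional F V],
      Module.finrank F V = n → ∀ (P : Type v) [Group P] [Finite P], IsPGroup p P →
        ∀ ρ : P →* Module.End F V, derivedSeries P (Nat.log b (n / e) + 1) ≤ ρ.ker := by
  intro n
  induction n using Nat.strong_induction_on with
  | _ n IH =>
    intro V _ _ _ hn P _ _ hP ρ
    by_cases hred : ∃ W : Submodule F V, Inv ρ W ∧ W ≠ ⊥ ∧ W ≠ ⊤
    · obtain ⟨W, hW, hW0, hW1⟩ := hred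
      have hcard : (Nat.card P : F) ≠ 0 := by
        obtain ⟨k, hk⟩ := IsPGroup.iff_card.mp hP
        rw [hk, Nat.cast_pow]
        exact pow_ne_zero _ hpF
      obtain ⟨W', hW', hcompl⟩ := maschke ρ hcard W hW
      have hW'0 : W' ≠ ⊥ := by
        intro h
        rw [h] at hcompl
        exact hW1 (eq_top_of_isCompl_bot hcompl)
      have hsum := Submodule.finrank_add_eq_of_isCompl hcompl
      rw [hn] at hsum
      have hd : 0 < Module.finrank F W :=
        Module.finrank_pos_iff.mpr ((Submodule.nontrivial_iff_ne_bot).mpr hW0)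
      have hd' : 0 < Module.finrank F W' :=
        Module.finrank_pos_iff.mpr ((Submodule.nontrivial_iff_ne_bot).mpr hW'0)
      have h1 := IH _ (by omega) W rfl P hP (res ρ W hW)
      have h2 := IH _ (by omega) W' rfl P hP (res ρ W' hW')
      have m1 : Nat.log b (Module.finrank F W / e) + 1 ≤ Nat.log b (n / e) + 1 :=
        Nat.add_le_add_right (Nat.log_mono_right (Nat.div_le_div_right (by omega))) 1
      have m2 : Nat.log b (Module.finrank F W' / e) + 1 ≤ Nat.log b (n / e) + 1 :=
        Nat.add_le_add_right (Nat.log_mono_right (Nat.div_le_div_right (by omega))) 1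
      intro x hx
      have hx1 := h1 (derivedSeries_antitone _ m1 hx)
      have hx2 := h2 (derivedSeries_antitone _ m2 hx)
      rw [MonoidHom.mem_ker] at hx1 hx2 ⊢
      ext v
      rw [Module.End.one_apply]
      have hv : v ∈ W ⊔ W' := by rw [hcompl.sup_eq_top]; exact Submodule.mem_top
      obtain ⟨w, hw, w', hw', rfl⟩ := Submodule.mem_sup.mp hv
      rw [map_add]
      have e1 : ρ x w = w :=
        congrArg (fun f : Module.End F W => ((f ⟨w, hw⟩ : W) : V)) hx1
      have e2 : ρ x w' = w' :=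
        congrArg (fun f : Module.End F W' => ((f ⟨w', hw'⟩ : W') : V)) hx2
      rw [e1, e2]
    · push Not at hred
      let K := ρ.ker
      let ρb : P ⧸ K →* Module.End F V := QuotientGroup.lift K ρ (le_refl _)
      have hρb : ∀ g : P, ρb (QuotientGroup.mk g) = ρ g := fun g => rfl
      have hinj : Function.Injective ρb := by
        intro a b hab
        obtain ⟨g, rfl⟩ := QuotientGroup.mk_surjective a
        obtain ⟨h, rfl⟩ := QuotientGroup.mk_surjective b
        rw [hρb, hρb] at hab
        rw [QuotientGroup.eq]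
        show g⁻¹ * h ∈ ρ.ker
        rw [MonoidHom.mem_ker, map_mul, ← hab, ← map_mul, inv_mul_cancel, map_one]
      have hirr : Irr ρb := by
        intro W hW
        by_contra hcon
        push Not at hcon
        exact hcon.2 (hred W (fun g w hw => hW (QuotientGroup.mk g) w hw) hcon.1)
      have h1 := main_step p b e hb2 hbp hb he hpF He n IH hn (hP.to_quotient K) ρb hinj hirr
      intro x hx
      have h2 : (QuotientGroup.mk' K) x ∈ derivedSeries (P ⧸ K) (Nat.log b (n / e) + 1) := by
        rw [← map_derivedSeries_eq (QuotientGroup.mk'_surjective K)]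
        exact Subgroup.mem_map_of_mem _ hx
      rw [h1, Subgroup.mem_bot] at h2
      exact (QuotientGroup.eq_one_iff x).mp h2

end main

end Cfsg.Agent.H76.LinDer
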