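import Mathlib

set_option autoImplicit false

namespace Cfsg.Agent.H76

open Subgroup

/-- An element of a Sylow `p`-subgroup has `p`-power order. -/
theorem orderOf_eq_pow_of_mem_sylow {G : Type*} [Group G] {p : ℕ} [Fact p.Prime]
    (P : Sylow p G) {x : G} (hx : x ∈ P) : ∃ k : ℕ, orderOf x = p ^ k := by
  obtain ⟨k, hk⟩ := (IsPGroup.iff_orderOf.mp P.isPGroup') ⟨x, hx⟩
  exact ⟨k, by rw [← hk]; exact (Subgroup.orderOf_mk x hx).symm⟩

/-- The cyclic group generated by an element of `p`-power order is a `p`-group. -/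
theorem isPGroup_zpowers_of_orderOf {G : Type*} [Group G] {p : ℕ} [Fact p.Prime]
    {x : G} (hx : ∃ k : ℕ, orderOf x = p ^ k) : IsPGroup p (Subgroup.zpowers x) := by
  obtain ⟨k, hk⟩ := hx
  exact IsPGroup.of_card (n := k) (by rw [Nat.card_zpowers, hk])

/-- An element of `p`-power order lies in some Sylow `p`-subgroup. -/
theorem exists_sylow_mem_of_orderOf {G : Type*} [Group G] {p : ℕ} [Fact p.Prime]
    {x : G} (hx : ∃ k : ℕ, orderOf x = p ^ k) : ∃ Q : Sylow p G, x ∈ Q := by
  obtain ⟨Q, hQ⟩ := (isPGroup_zpowers_of_orderOf hx).exists_le_sylow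
  exact ⟨Q, hQ (Subgroup.mem_zpowers x)⟩

/-- A `p`-element normalizing a Sylow `p`-subgroup lies in it. -/
theorem mem_sylow_of_mem_normalizer {G : Type*} [Group G] {p : ℕ} [Fact p.Prime]
    (Q : Sylow p G) {x : G} (hx : ∃ k : ℕ, orderOf x = p ^ k)
    (hn : x ∈ Subgroup.normalizer ((Q : Subgroup G) : Set G)) : x ∈ Q := by
  have h := (isPGroup_zpowers_of_orderOf hx).inf_normalizer_sylow Q
  have : x ∈ Subgroup.zpowers x ⊓ Subgroup.normalizer (Q : Set G) :=
    ⟨Subgroup.mem_zpowers x, hn⟩
  rw [h] at this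
  exact this.2

/-- `p ∤ [G : H]` iff `H` contains a Sylow `p`-subgroup of `G`. -/
theorem not_dvd_index_iff_exists_sylow_le {G : Type*} [Group G] [Finite G] {p : ℕ} [Fact p.Prime]
    (H : Subgroup G) : ¬ p ∣ H.index ↔ ∃ Q : Sylow p G, (Q : Subgroup G) ≤ H := by
  constructor
  · intro h
    obtain ⟨P⟩ : Nonempty (Sylow p H) := inferInstance
    have h1 : IsPGroup p ((P : Subgroup H).map H.subtype) := P.isPGroup'.map _
    have h2 : ¬ p ∣ ((P : Subgroup H).map H.subtype).index := by
      rw [Subgroup.index_map_subtype]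
      intro hd
      rcases (Nat.Prime.dvd_mul (Fact.out : p.Prime)).mp hd with hd | hd
      · exact P.not_dvd_index hd
      · exact h hd
    refine ⟨h1.toSylow h2, ?_⟩
    intro x hx
    have hx' : x ∈ (P : Subgroup H).map H.subtype := hx
    obtain ⟨y, -, rfl⟩ := Subgroup.mem_map.mp hx'
    exact y.2
  · rintro ⟨Q, hQ⟩ hd
    exact Q.not_dvd_index (dvd_trans hd (Subgroup.index_dvd_of_le hQ))

/-- For a normal subgroup `N` of a finite group, `[N : H ∩ N]` divides `[G : H]`. -/
theorem relIndex_dvd_index_of_normal_right {G : Type*} [Group G] [Finite G]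
    (H N : Subgroup G) [N.Normal] : H.relIndex N ∣ H.index := by
  have key : H.relIndex (H ⊔ N) = H.relIndex N := by
    have e1 : Nat.card ↥(H ⊓ N) * H.relIndex N = Nat.card N := by
      have := Subgroup.relIndex_mul_relIndex (⊥ : Subgroup G) (H ⊓ N) N bot_le inf_le_right
      rwa [Subgroup.relIndex_bot_left, Subgroup.relIndex_bot_left, Subgroup.inf_relIndex_right] at this
    have e2 : Nat.card ↥(H ⊓ N) * N.relIndex H = Nat.card H := by
      have := Subgroup.relIndex_mul_relIndex (⊥ : Subgroup G) (H ⊓ N) H bot_le inf_le_left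
      rwa [Subgroup.relIndex_bot_left, Subgroup.relIndex_bot_left, Subgroup.inf_relIndex_left] at this
    have e3 : Nat.card H * H.relIndex (H ⊔ N) = Nat.card ↥(H ⊔ N) := by
      have := Subgroup.relIndex_mul_relIndex (⊥ : Subgroup G) H (H ⊔ N) bot_le le_sup_left
      rwa [Subgroup.relIndex_bot_left, Subgroup.relIndex_bot_left] at this
    have e4 : Nat.card N * N.relIndex H = Nat.card ↥(H ⊔ N) := by
      have := Subgroup.relIndex_mul_relIndex (⊥ : Subgroup G) N (H ⊔ N) bot_le le_sup_right
      rwa [Subgroup.relIndex_bot_left, Subgroup.relIndex_bot_left, Subgroup.relIndex_sup_right] at this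
    have hpos : 0 < Nat.card H := Nat.card_pos
    have : Nat.card H * H.relIndex (H ⊔ N) = Nat.card H * H.relIndex N := by
      rw [e3, ← e4, ← e1, ← e2]; ring
    exact Nat.eq_of_mul_eq_mul_left hpos this
  rw [← key]
  exact Subgroup.relIndex_dvd_index_of_le le_sup_left

/-- The intersection of a Sylow `p`-subgroup with a normal subgroup `N` has `p'`-index in `N`. -/
theorem sylow_not_dvd_relIndex_of_normal {G : Type*} [Group G] [Finite G] {p : ℕ} [Fact p.Prime]
    (Q : Sylow p G) (N : Subgroup G) [N.Normal] : ¬ p ∣ (Q : Subgroup G).relIndex N := fun h =>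
  Q.not_dvd_index (dvd_trans h (relIndex_dvd_index_of_normal_right _ N))

end Cfsg.Agent.H76
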