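import Mathlib
import Cfsg.Prelude.Def_Solvable
import Cfsg.Agent.H76.SylowBasics

set_option autoImplicit false

namespace Cfsg.Agent.H76

/-- `O_p(G)` is contained in every Sylow `p`-subgroup. -/
theorem pCore_le_sylow {G : Type*} [Group G] {p : ℕ} [Fact p.Prime] (Q : Sylow p G) :
    Cfsg.pCore p G ≤ (Q : Subgroup G) := by
  unfold Cfsg.pCore
  apply sSup_le
  rintro N ⟨hN, hp⟩
  have := hN
  exact hp.le_sylow_of_normal Q

/-- `O_p(G)` is a `p`-group. -/
theorem isPGroup_pCore {G : Type*} [Group G] {p : ℕ} [Fact p.Prime] :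
    IsPGroup p (Cfsg.pCore p G) := by
  obtain ⟨Q⟩ : Nonempty (Sylow p G) := inferInstance
  exact Q.isPGroup'.to_le (pCore_le_sylow Q)

/-- A normal `p`-subgroup lies in `O_p(G)`. -/
theorem le_pCore_of_normal {G : Type*} [Group G] {p : ℕ} {N : Subgroup G} (hN : N.Normal)
    (hp : IsPGroup p N) : N ≤ Cfsg.pCore p G :=
  le_sSup ⟨hN, hp⟩

end Cfsg.Agent.H76
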