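import Mathlib

set_option autoImplicit false

namespace Cfsg.Agent.H76.SylSym

open Equiv Function

universe u

/-- At most two fixed points, and points of equal period (not fixed) are in the same cycle. -/
def Cond {Ω : Type u} (x : Perm Ω) : Prop :=
  (∀ a b c, x a = a → x b = b → x c = c → a = b ∨ a = c ∨ b = c) ∧
  (∀ u v, x u ≠ u → x v ≠ v → (∀ k : ℕ, (x ^ k) u = u ↔ (x ^ k) v = v) →
    ∃ j : ℕ, (x ^ j) u = v)

lemma per_iff {Ω : Type u} (x : Perm Ω) (u : Ω) (k : ℕ) :
    (x ^ k) u = u ↔ minimalPeriod x u ∣ k := by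
  rw [← isPeriodicPt_iff_minimalPeriod_dvd, IsPeriodicPt, IsFixedPt, Equiv.Perm.iterate_eq_pow]

lemma even_of (l j : ℕ) (h1 : l ∣ 2 * j) (h2 : ¬ l ∣ j) : Even l := by
  rcases Nat.even_or_odd l with h | hodd
  · exact h
  · exact absurd (Nat.Coprime.dvd_of_dvd_mul_left hodd.coprime_two_right h1) h2

lemma nt (l j k : ℕ) (h1 : l ∣ 2 * j) (h2 : ¬ l ∣ j) (h3 : l ∣ 2 * k) (h4 : ¬ l ∣ k) :
    l ∣ j + k := by
  obtain ⟨h, rfl⟩ := even_of l j h1 h2
  have h0 : h ≠ 0 := by
    rintro rfl
    simp at h1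
    exact h2 (by simp [h1])
  have hj : h ∣ j := by
    have : 2 * h ∣ 2 * j := by rwa [two_mul]
    exact (Nat.mul_dvd_mul_iff_left (by norm_num)).mp this
  have hk : h ∣ k := by
    have : 2 * h ∣ 2 * k := by rwa [two_mul]
    exact (Nat.mul_dvd_mul_iff_left (by norm_num)).mp this
  obtain ⟨a, rfl⟩ := hj
  obtain ⟨b, rfl⟩ := hk
  have ha : Odd a := by
    rcases Nat.even_or_odd a with ⟨a', rfl⟩ | ha
    · exact absurd ⟨a', by ring⟩ h2
    · exact ha
  have hb : Odd b := by
    rcases Nat.even_or_odd b with ⟨b', rfl⟩ | hb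
    · exact absurd ⟨b', by ring⟩ h4
    · exact hb
  obtain ⟨c, hc⟩ := ha.add_odd hb
  exact ⟨c, by rw [← mul_add, hc]; ring⟩

lemma pow_eq_of {Ω : Type u} (x : Perm Ω) (u : Ω) (j k : ℕ)
    (h1 : minimalPeriod x u ∣ 2 * j) (h2 : ¬ minimalPeriod x u ∣ j)
    (h3 : minimalPeriod x u ∣ 2 * k) (h4 : ¬ minimalPeriod x u ∣ k) :
    (x ^ k) u = (x ^ j) u := by
  have h5 := nt _ j k h1 h2 h3 h4
  have e1 : (x ^ (j + k)) u = u := (per_iff x u _).mpr h5
  have e2 : (x ^ (2 * j)) u = u := (per_iff x u _).mpr h1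
  have : (x ^ j) ((x ^ k) u) = (x ^ j) ((x ^ j) u) := by
    rw [← Perm.mul_apply, ← Perm.mul_apply, ← pow_add, ← pow_add, e1, ← two_mul, e2]
  exact (x ^ j).injective this

lemma pow_comm_t {Ω : Type u} (x t : Perm Ω) (hc : ∀ u, x (t u) = t (x u)) (k : ℕ) (w : Ω) :
    (x ^ k) (t w) = t ((x ^ k) w) := by
  induction k generalizing w with
  | zero => simp
  | succ k ih => rw [pow_succ, Perm.mul_apply, Perm.mul_apply, hc, ih]

lemma key {Ω : Type u} (x t : Perm Ω) (hx : Cond x) (ht : ∀ u, t (t u) = u)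
    (hf : ∀ u, t u ≠ u) (hc : ∀ u, x (t u) = t (x u)) (u : Ω) (hu : x u ≠ u) :
    ∃ j : ℕ, (x ^ j) u = t u ∧ minimalPeriod x u ∣ 2 * j ∧ ¬ minimalPeriod x u ∣ j := by
  have htu : x (t u) ≠ t u := by
    intro h; rw [hc] at h; exact hu (t.injective h)
  obtain ⟨j, hj⟩ := hx.2 u (t u) hu htu (fun k => by
    rw [pow_comm_t x t hc]
    constructor
    · intro h; rw [h]
    · intro h; exact t.injective h)
  refine ⟨j, hj, ?_, ?_⟩
  · rw [← per_iff, two_mul, pow_add, Perm.mul_apply, hj, pow_comm_t x t hc, hj, ht]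
  · rw [← per_iff, hj]; exact hf u

lemma uniq_t {Ω : Type u} (x t t' : Perm Ω) (hx : Cond x) (ht : ∀ u, t (t u) = u)
    (hf : ∀ u, t u ≠ u) (hc : ∀ u, x (t u) = t (x u)) (ht' : ∀ u, t' (t' u) = u)
    (hf' : ∀ u, t' u ≠ u) (hc' : ∀ u, x (t' u) = t' (x u)) : t = t' := by
  ext u
  by_cases hu : x u = u
  · rcases hx.1 u (t u) (t' u) hu (by rw [hc, hu]) (by rw [hc', hu]) with h | h | h
    · exact absurd h.symm (hf u)
    · exact absurd h.symm (hf' u)
    · exact h
  · obtain ⟨j, hj, h1, h2⟩ := key x t hx ht hf hc u hu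
    obtain ⟨k, hk, h3, h4⟩ := key x t' hx ht' hf' hc' u hu
    rw [← hj, ← hk]; exact (pow_eq_of x u j k h1 h2 h3 h4).symm

/-- The pair relation of an involution. -/
def rel {Ω : Type u} (t : Perm Ω) (ht : ∀ u, t (t u) = u) : Setoid Ω where
  r u v := v = u ∨ v = t u
  iseqv := ⟨fun u => Or.inl rfl, by
    rintro u v (h | h)
    · exact Or.inl h.symm
    · right; rw [h, ht], by
    rintro u v w (h | h) (h' | h')
    · left; rw [h', h]
    · right; rw [h', h]
    · right; rw [h', h]
    · left; rw [h', h, ht]⟩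

lemma mk_eq_iff {Ω : Type u} (t : Perm Ω) (ht : ∀ u, t (t u) = u) (u v : Ω) :
    (Quotient.mk (rel t ht) u = Quotient.mk (rel t ht) v) ↔ (v = u ∨ v = t u) :=
  Quotient.eq

lemma cent_apply {Ω : Type u} (t : Perm Ω) (g : Perm Ω)
    (hg : g ∈ Subgroup.centralizer ({t} : Set (Perm Ω))) (w : Ω) : g (t w) = t (g w) := by
  have h1 := Subgroup.mem_centralizer_iff.mp hg t rfl
  have h2 := congrArg (fun f : Perm Ω => f w) h1
  simpa using h2.symm

/-- The action of the centralizer of `t` on the pairs. -/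
noncomputable def piHom {Ω : Type u} (t : Perm Ω) (ht : ∀ u, t (t u) = u) :
    Subgroup.centralizer ({t} : Set (Perm Ω)) →* Perm (Quotient (rel t ht)) where
  toFun g := Quotient.congr g.1 (by
    intro a b
    show (b = a ∨ b = t a) ↔ (g.1 b = g.1 a ∨ g.1 b = t (g.1 a))
    rw [← cent_apply t g.1 g.2, g.1.injective.eq_iff, g.1.injective.eq_iff])
  map_one' := by
    ext q
    induction q using Quotient.inductionOn with
    | _ a => simp
  map_mul' g h := by
    ext q
    induction q using Quotient.inductionOn with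
    | _ a => simp

lemma piHom_mk {Ω : Type u} (t : Perm Ω) (ht : ∀ u, t (t u) = u)
    (g : Subgroup.centralizer ({t} : Set (Perm Ω))) (a : Ω) :
    piHom t ht g (Quotient.mk (rel t ht) a) = Quotient.mk (rel t ht) (g.1 a) := by
  simp [piHom]

lemma piHom_pow_mk {Ω : Type u} (t : Perm Ω) (ht : ∀ u, t (t u) = u)
    (g : Subgroup.centralizer ({t} : Set (Perm Ω))) (k : ℕ) (a : Ω) :
    ((piHom t ht g) ^ k) (Quotient.mk (rel t ht) a) = Quotient.mk (rel t ht) ((g.1 ^ k) a) := by
  rw [← map_pow, piHom_mk, Subgroup.coe_pow]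

lemma ker_sq {Ω : Type u} (t : Perm Ω) (ht : ∀ u, t (t u) = u)
    (g : Subgroup.centralizer ({t} : Set (Perm Ω))) (hg : piHom t ht g = 1) :
    g.1 * g.1 = 1 := by
  ext u
  have h1 : piHom t ht g (Quotient.mk (rel t ht) u) = Quotient.mk (rel t ht) u := by
    rw [hg]; rfl
  rw [piHom_mk, mk_eq_iff] at h1
  rw [Perm.mul_apply, Perm.one_apply]
  rcases h1 with h | h
  · rw [← h, ← h]
  · have h2 : g.1 u = t u := by
      have h3 := congrArg t h
      rw [ht] at h3
      exact h3.symm
    rw [h2, cent_apply t g.1 g.2, h2, ht]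

lemma pow_two_fix {Ω : Type u} (x : Perm Ω) (u : Ω) (h : x (x u) = u) (k : ℕ) :
    (x ^ k) u = u ∨ (x ^ k) u = x u := by
  induction k with
  | zero => left; simp
  | succ k ih =>
    rw [pow_succ', Perm.mul_apply]
    rcases ih with h1 | h1
    · right; rw [h1]
    · left; rw [h1, h]

lemma per_two {Ω : Type u} (x : Perm Ω) (u : Ω) (h1 : x u ≠ u) (h : x (x u) = u) :
    minimalPeriod x u = 2 := by
  have h2 : minimalPeriod x u ∣ 2 := by
    rw [← per_iff, pow_two, Perm.mul_apply, h]
  have h3 : minimalPeriod x u ≠ 1 := by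
    intro h4
    apply h1
    have := (per_iff x u 1).mpr (by rw [h4])
    simpa using this
  rcases (Nat.dvd_prime Nat.prime_two).mp h2 with h4 | h4
  · exact absurd h4 h3
  · exact h4

lemma quot_per {Ω : Type u} (x t : Perm Ω) (hx : Cond x) (ht : ∀ u, t (t u) = u)
    (hf : ∀ u, t u ≠ u) (hc : ∀ u, x (t u) = t (x u))
    (hxH : x ∈ Subgroup.centralizer ({t} : Set (Perm Ω))) (u : Ω) (hu : x u ≠ u) (k : ℕ) :
    ((piHom t ht ⟨x, hxH⟩) ^ k) (Quotient.mk (rel t ht) u) = Quotient.mk (rel t ht) u ↔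
      minimalPeriod x u ∣ 2 * k := by
  obtain ⟨j, hj, h1, h2⟩ := key x t hx ht hf hc u hu
  rw [piHom_pow_mk, mk_eq_iff]
  show (u = (x ^ k) u ∨ u = t ((x ^ k) u)) ↔ _
  constructor
  · rintro (h | h)
    · exact Dvd.dvd.mul_left ((per_iff x u k).mp h.symm) 2
    · have h3 : (x ^ k) u = t u := by
        have h4 := congrArg t h
        rw [ht] at h4
        exact h4.symm
      rw [← per_iff, two_mul, pow_add, Perm.mul_apply, h3, pow_comm_t x t hc, h3, ht]
  · intro h
    by_cases h4 : minimalPeriod x u ∣ k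
    · left; exact ((per_iff x u k).mpr h4).symm
    · right
      rw [pow_eq_of x u j k h1 h2 h h4, hj, ht]

lemma cond_quot {Ω : Type u} (x t : Perm Ω) (hx : Cond x) (ht : ∀ u, t (t u) = u)
    (hf : ∀ u, t u ≠ u) (hc : ∀ u, x (t u) = t (x u))
    (hxH : x ∈ Subgroup.centralizer ({t} : Set (Perm Ω))) :
    Cond (piHom t ht ⟨x, hxH⟩) := by
  have hA : ∀ u v, x u = u → x v = v →
      Quotient.mk (rel t ht) u = Quotient.mk (rel t ht) v := by
    intro u v hu hv
    rw [mk_eq_iff]
    rcases hx.1 u (t u) v hu (by rw [hc, hu]) hv with h | h | h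
    · exact absurd h.symm (hf u)
    · left; exact h.symm
    · right; exact h.symm
  have hB : ∀ u v, x u = t u → x v = t v →
      Quotient.mk (rel t ht) u = Quotient.mk (rel t ht) v := by
    intro u v hu hv
    have hu1 : x u ≠ u := by rw [hu]; exact hf u
    have hv1 : x v ≠ v := by rw [hv]; exact hf v
    have hu2 : x (x u) = u := by rw [hu, hc, hu, ht]
    have hv2 : x (x v) = v := by rw [hv, hc, hv, ht]
    have pu := per_two x u hu1 hu2
    have pv := per_two x v hv1 hv2
    obtain ⟨j, hj⟩ := hx.2 u v hu1 hv1 (fun k => by rw [per_iff, per_iff, pu, pv])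
    rw [mk_eq_iff]
    rcases pow_two_fix x u hu2 j with h | h
    · left; rw [← hj, h]
    · right; rw [← hj, h, hu]
  have hfix : ∀ u, piHom t ht ⟨x, hxH⟩ (Quotient.mk (rel t ht) u) = Quotient.mk (rel t ht) u →
      (x u = u ∨ x u = t u) := by
    intro u h
    rw [piHom_mk, mk_eq_iff] at h
    rcases h with h | h
    · left; exact h.symm
    · right
      have h4 := congrArg t h
      rw [ht] at h4
      exact h4.symm
  constructor
  · intro q1 q2 q3
    induction q1 using Quotient.inductionOn with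
    | _ u1 =>
    induction q2 using Quotient.inductionOn with
    | _ u2 =>
    induction q3 using Quotient.inductionOn with
    | _ u3 =>
    intro h1 h2 h3
    rcases hfix u1 h1 with a1 | b1 <;> rcases hfix u2 h2 with a2 | b2 <;>
      rcases hfix u3 h3 with a3 | b3
    · left; exact hA _ _ a1 a2
    · left; exact hA _ _ a1 a2
    · right; left; exact hA _ _ a1 a3
    · right; right; exact hB _ _ b2 b3
    · right; right; exact hA _ _ a2 a3
    · right; left; exact hB _ _ b1 b3
    · left; exact hB _ _ b1 b2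
    · left; exact hB _ _ b1 b2
  · intro q1 q2
    induction q1 using Quotient.inductionOn with
    | _ u =>
    induction q2 using Quotient.inductionOn with
    | _ v =>
    intro h1 h2 hk
    have hu : x u ≠ u := by
      intro h; apply h1; rw [piHom_mk]
      show Quotient.mk _ (x u) = _
      rw [h]
    have hv : x v ≠ v := by
      intro h; apply h2; rw [piHom_mk]
      show Quotient.mk _ (x v) = _
      rw [h]
    obtain ⟨ju, -, e1, e2⟩ := key x t hx ht hf hc u hu
    obtain ⟨jv, -, e3, e4⟩ := key x t hx ht hf hc v hv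
    obtain ⟨a, ha⟩ := even_of _ _ e1 e2
    obtain ⟨b, hb⟩ := even_of _ _ e3 e4
    have hk' : ∀ k, minimalPeriod x u ∣ 2 * k ↔ minimalPeriod x v ∣ 2 * k := by
      intro k
      rw [← quot_per x t hx ht hf hc hxH u hu, ← quot_per x t hx ht hf hc hxH v hv]
      exact hk k
    have hl : minimalPeriod x u = minimalPeriod x v := by
      apply Nat.dvd_antisymm
      · have h5 := (hk' b).mpr (by rw [hb]; exact ⟨1, by ring⟩)
        rwa [two_mul, ← hb] at h5
      · have h5 := (hk' a).mp (by rw [ha]; exact ⟨1, by ring⟩)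
        rwa [two_mul, ← ha] at h5
    obtain ⟨j, hj⟩ := hx.2 u v hu hv (fun k => by rw [per_iff, per_iff, hl])
    refine ⟨j, ?_⟩
    rw [piHom_pow_mk]
    show Quotient.mk _ ((x ^ j) u) = _
    rw [hj]

lemma fact_two_mul (m : ℕ) : ∃ c, Odd c ∧ (2 * m).factorial = 2 ^ m * m.factorial * c := by
  induction m with
  | zero => exact ⟨1, odd_one, by simp⟩
  | succ m ih =>
    obtain ⟨c, hc, h⟩ := ih
    refine ⟨(2 * m + 1) * c, (odd_two_mul_add_one m).mul hc, ?_⟩
    have e : 2 * (m + 1) = 2 * m + 1 + 1 := by ring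
    rw [e, Nat.factorial_succ, Nat.factorial_succ, h, Nat.factorial_succ]; ring

lemma exists_fpf {Ω : Type u} [Finite Ω] (hev : Even (Nat.card Ω)) (R : Subgroup (Perm Ω))
    (hR : IsPGroup 2 R) :
    ∃ t : Perm Ω, (∀ u, t (t u) = u) ∧ (∀ u, t u ≠ u) ∧ ∀ g ∈ R, ∀ u, g (t u) = t (g u) := by
  classical
  have := Fintype.ofFinite Ω
  have : Fact (Nat.Prime 2) := ⟨Nat.prime_two⟩
  obtain ⟨m, hm⟩ := hev
  rw [Nat.card_eq_fintype_card] at hm
  rcases Nat.eq_zero_or_pos m with rfl | hmpos
  · have : IsEmpty Ω := Fintype.card_eq_zero_iff.mp (by simpa using hm)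
    exact ⟨1, fun u => isEmptyElim u, fun u => isEmptyElim u, fun g _ u => isEmptyElim u⟩
  let X : Finset (Perm Ω) := Finset.univ.filter (fun g => g.cycleType = Multiset.replicate m 2)
  have hXcard : Odd X.card := by
    have h1 := Equiv.Perm.card_of_cycleType_mul_eq Ω (Multiset.replicate m 2)
    have hsum : (Multiset.replicate m 2).sum = 2 * m := by simp [mul_comm]
    have hcond : (Multiset.replicate m 2).sum ≤ Fintype.card Ω ∧
        ∀ a ∈ Multiset.replicate m 2, 2 ≤ a := by
      refine ⟨by rw [hsum, hm]; omega, fun a ha => ?_⟩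
      rw [Multiset.eq_of_mem_replicate ha]
    rw [if_pos hcond] at h1
    have htf : (Multiset.replicate m 2).toFinset = {2} := by
      ext a
      simp only [Multiset.mem_toFinset, Multiset.mem_replicate, Finset.mem_singleton]
      constructor
      · exact fun h => h.2
      · exact fun h => ⟨by omega, h⟩
    rw [htf, Finset.prod_singleton, Multiset.count_replicate_self, Multiset.prod_replicate, hsum,
      hm] at h1
    obtain ⟨c, hc, hfac⟩ := fact_two_mul m
    have e : m + m = 2 * m := by ring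
    rw [e, Nat.sub_self, Nat.factorial_zero, one_mul, hfac] at h1
    have h3 : X.card = c := by
      have hpos : 0 < 2 ^ m * m.factorial := by positivity
      apply Nat.eq_of_mul_eq_mul_right hpos
      rw [mul_comm c]
      convert h1
    rw [h3]; exact hc
  letI : MulAction R X :=
    { smul := fun g t => ⟨g.1 * t.1 * g.1⁻¹, by
        have h := t.2
        simp only [X, Finset.mem_filter, Finset.mem_univ, true_and] at h ⊢
        rw [Equiv.Perm.cycleType_conj]; exact h⟩
      one_smul := fun t => Subtype.ext (by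
        show (1 : R).1 * t.1 * (1 : R).1⁻¹ = t.1
        simp)
      mul_smul := fun g h t => Subtype.ext (by
        show (g * h).1 * t.1 * (g * h).1⁻¹ = g.1 * (h.1 * t.1 * h.1⁻¹) * g.1⁻¹
        simp [mul_assoc]) }
  have hnd : ¬ 2 ∣ Nat.card X := by
    rw [Nat.card_eq_fintype_card, Fintype.card_coe]
    exact hXcard.not_two_dvd_nat
  obtain ⟨⟨t, htX⟩, hfix⟩ := hR.nonempty_fixed_point_of_prime_not_dvd_card X hnd
  have hct : t.cycleType = Multiset.replicate m 2 := by
    simpa [X] using htX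
  have ht2 : t ^ 2 = 1 := by
    rw [Equiv.Perm.pow_prime_eq_one_iff, hct]
    intro c hc
    exact Multiset.eq_of_mem_replicate hc
  have hsupp : t.support = Finset.univ := by
    rw [← Finset.card_eq_iff_eq_univ, ← Equiv.Perm.sum_cycleType, hct, hm]
    simp; ring
  refine ⟨t, ?_, ?_, ?_⟩
  · intro w
    have h := congrArg (fun f : Perm Ω => f w) ht2
    simpa [pow_two] using h
  · intro w
    have : w ∈ t.support := by rw [hsupp]; exact Finset.mem_univ _
    exact Equiv.Perm.mem_support.mp this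
  · intro g hg w
    have h := congrArg Subtype.val (hfix ⟨g, hg⟩)
    have h2 : g * t * g⁻¹ = t := h
    have h3 : g * t = t * g := by
      rw [← h2]; simp [mul_assoc]; exact h2
    have h4 := congrArg (fun f : Perm Ω => f w) h3
    simpa using h4

lemma cond_ofSubtype {Ω : Type u} (p : Ω → Prop) [DecidablePred p] (x₀ : Perm (Subtype p))
    (hx : Cond (Perm.ofSubtype x₀)) : Cond x₀ := by
  have hpow : ∀ (k : ℕ) (w : Subtype p),
      (Perm.ofSubtype x₀ ^ k) (w : Ω) = ((x₀ ^ k) w : Ω) := by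
    intro k w
    rw [← map_pow, Perm.ofSubtype_apply_coe]
  have h1 : ∀ w : Subtype p, Perm.ofSubtype x₀ (w : Ω) = (x₀ w : Ω) :=
    fun w => Perm.ofSubtype_apply_coe x₀ w
  constructor
  · intro a b c ha hb hc
    have h := hx.1 a b c (by rw [h1, ha]) (by rw [h1, hb]) (by rw [h1, hc])
    simpa [Subtype.ext_iff] using h
  · intro a b ha hb hk
    obtain ⟨j, hj⟩ := hx.2 a b (by rw [h1]; exact fun h => ha (Subtype.ext h))
      (by rw [h1]; exact fun h => hb (Subtype.ext h))
      (fun k => by rw [hpow, hpow, Subtype.coe_inj, Subtype.coe_inj]; exact hk k)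
    exact ⟨j, Subtype.ext (by rw [← hpow]; exact hj)⟩

theorem main : ∀ (n : ℕ) (Ω : Type u) [Finite Ω], Nat.card Ω = n → ∀ (x : Perm Ω), Cond x →
    ∀ (R R' : Subgroup (Perm Ω)), IsPGroup 2 R → IsPGroup 2 R' → x ∈ R → x ∈ R' →
    IsPGroup 2 ↥(R ⊔ R') := by
  intro n
  induction n using Nat.strong_induction_on with
  | _ n ih =>
  intro Ω _ hn x hx R R' hR hR' hxR hxR'
  have : Fact (Nat.Prime 2) := ⟨Nat.prime_two⟩
  classical
  rcases Nat.even_or_odd n with hev | hodd
  · -- even
    rcases Nat.eq_zero_or_pos n with hn0 | hnpos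
    · have : IsEmpty Ω := Finite.card_eq_zero_iff.mp (hn.trans hn0)
      intro g
      exact ⟨0, Subsingleton.elim _ _⟩
    obtain ⟨t, ht, hf, hct⟩ := exists_fpf (hn ▸ hev) R hR
    obtain ⟨t', ht', hf', hct'⟩ := exists_fpf (hn ▸ hev) R' hR'
    have htt : t = t' := uniq_t x t t' hx ht hf (hct x hxR) ht' hf' (hct' x hxR')
    subst htt
    have hcent : ∀ g : Perm Ω, (∀ u, g (t u) = t (g u)) →
        g ∈ Subgroup.centralizer ({t} : Set (Perm Ω)) := by
      intro g hg
      rw [Subgroup.mem_centralizer_iff]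
      intro h hh
      rw [Set.mem_singleton_iff] at hh
      subst hh
      ext w
      simp [hg w]
    have hRH : R ≤ Subgroup.centralizer ({t} : Set (Perm Ω)) := fun g hg => hcent g (hct g hg)
    have hRH' : R' ≤ Subgroup.centralizer ({t} : Set (Perm Ω)) :=
      fun g hg => hcent g (hct' g hg)
    have hxH := hRH hxR
    have hcardQ : Nat.card (Quotient (rel t ht)) < n := by
      rw [← hn]
      obtain ⟨u₀⟩ : Nonempty Ω := by
        rw [← Finite.card_pos_iff, hn]; exact hnpos
      have := Fintype.ofFinite Ω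
      have := Fintype.ofFinite (Quotient (rel t ht))
      rw [Nat.card_eq_fintype_card, Nat.card_eq_fintype_card]
      apply Fintype.card_lt_of_surjective_not_injective (Quotient.mk (rel t ht))
        Quotient.mk_surjective
      intro hinj
      exact hf u₀ (hinj ((mk_eq_iff t ht u₀ (t u₀)).mpr (Or.inr rfl))).symm
    have h1 : IsPGroup 2 ↥((R.subgroupOf (Subgroup.centralizer ({t} : Set (Perm Ω)))).map
        (piHom t ht)) := (hR.comap_subtype).map (piHom t ht)
    have h1' : IsPGroup 2 ↥((R'.subgroupOf (Subgroup.centralizer ({t} : Set (Perm Ω)))).map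
        (piHom t ht)) := (hR'.comap_subtype).map (piHom t ht)
    have hxm : piHom t ht ⟨x, hxH⟩ ∈
        (R.subgroupOf (Subgroup.centralizer ({t} : Set (Perm Ω)))).map (piHom t ht) :=
      Subgroup.mem_map_of_mem _ (Subgroup.mem_subgroupOf.mpr hxR)
    have hxm' : piHom t ht ⟨x, hxH⟩ ∈
        (R'.subgroupOf (Subgroup.centralizer ({t} : Set (Perm Ω)))).map (piHom t ht) :=
      Subgroup.mem_map_of_mem _ (Subgroup.mem_subgroupOf.mpr hxR')
    have hcq := cond_quot x t hx ht hf (hct x hxR) hxH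
    have key2 := ih _ hcardQ (Quotient (rel t ht)) rfl (piHom t ht ⟨x, hxH⟩) hcq _ _ h1 h1'
      hxm hxm'
    rw [← Subgroup.map_sup, ← Subgroup.subgroupOf_sup hRH hRH'] at key2
    intro g
    have hgH : g.1 ∈ Subgroup.centralizer ({t} : Set (Perm Ω)) := (sup_le hRH hRH') g.2
    have hgm : piHom t ht ⟨g.1, hgH⟩ ∈
        ((R ⊔ R').subgroupOf (Subgroup.centralizer ({t} : Set (Perm Ω)))).map (piHom t ht) :=
      Subgroup.mem_map_of_mem _ (Subgroup.mem_subgroupOf.mpr g.2)
    obtain ⟨k, hk⟩ := key2 ⟨_, hgm⟩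
    have hk2 : piHom t ht ((⟨g.1, hgH⟩ : Subgroup.centralizer ({t} : Set (Perm Ω))) ^ (2 ^ k))
        = 1 := by
      rw [map_pow]
      have h5 := congrArg Subtype.val hk
      simpa using h5
    have h6 := ker_sq t ht _ hk2
    refine ⟨k + 1, Subtype.ext ?_⟩
    rw [Subgroup.coe_pow, pow_succ, pow_mul, pow_two]
    simpa using h6
  · -- odd
    have h2 : ¬ 2 ∣ Nat.card Ω := by rw [hn]; exact hodd.not_two_dvd_nat
    obtain ⟨a, ha⟩ := hR.nonempty_fixed_point_of_prime_not_dvd_card Ω h2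
    obtain ⟨a', ha'⟩ := hR'.nonempty_fixed_point_of_prime_not_dvd_card Ω h2
    have hRa : ∀ g ∈ R, g a = a := fun g hg => ha ⟨g, hg⟩
    have hRa' : ∀ g ∈ R', g a' = a' := fun g hg => ha' ⟨g, hg⟩
    have haa : a = a' := by
      by_contra hne
      have hx2 : IsPGroup 2 (Subgroup.zpowers x) := hR.to_le (Subgroup.zpowers_le.mpr hxR)
      have hmod := hx2.card_modEq_card_fixedPoints Ω
      have hset : MulAction.fixedPoints (Subgroup.zpowers x) Ω = {a, a'} := by
        ext w
        simp only [MulAction.mem_fixedPoints, Set.mem_insert_iff, Set.mem_singleton_iff]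
        constructor
        · intro h
          have hw : x w = w := h ⟨x, Subgroup.mem_zpowers x⟩
          rcases hx.1 a a' w (hRa x hxR) (hRa' x hxR') hw with h3 | h3 | h3
          · exact absurd h3 hne
          · left; exact h3.symm
          · right; exact h3.symm
        · rintro (rfl | rfl)
          · rintro ⟨g, hg⟩
            exact hRa g (Subgroup.zpowers_le.mpr hxR hg)
          · rintro ⟨g, hg⟩
            exact hRa' g (Subgroup.zpowers_le.mpr hxR' hg)
      rw [hset, Nat.card_coe_set_eq, Set.ncard_pair hne, hn] at hmod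
      have h7 : n % 2 = 0 := by
        have h8 := hmod
        unfold Nat.ModEq at h8
        omega
      rcases hodd with ⟨c, rfl⟩
      omega
    subst haa
    let p : Ω → Prop := fun w => w ≠ a
    let ψ : Perm (Subtype p) →* Perm Ω := Perm.ofSubtype
    have hrange : ∀ g : Perm Ω, g a = a → g ∈ ψ.range := by
      intro g hg
      have h₁ : ∀ w, p (g w) ↔ p w := by
        intro w
        show g w ≠ a ↔ w ≠ a
        rw [not_iff_not]
        constructor
        · intro h; apply g.injective; rw [h, hg]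
        · intro h; rw [h, hg]
      have h₂ : ∀ w, g w ≠ w → p w := by
        intro w hw h
        apply hw; rw [h, hg]
      exact ⟨g.subtypePerm h₁, Perm.ofSubtype_subtypePerm h₁ h₂⟩
    have hRr : R ≤ ψ.range := fun g hg => hrange g (hRa g hg)
    have hRr' : R' ≤ ψ.range := fun g hg => hrange g (hRa' g hg)
    obtain ⟨x₀, hx₀⟩ := hRr hxR
    have hc0 : Cond x₀ := cond_ofSubtype p x₀ (by
      rw [show Perm.ofSubtype x₀ = x from hx₀]; exact hx)
    have hinj : Function.Injective ψ := Perm.ofSubtype_injective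
    have hcard : Nat.card (Subtype p) < n := by
      rw [← hn]; exact Finite.card_subtype_lt (x := a) (by simp [p])
    have key2 := ih _ hcard (Subtype p) rfl x₀ hc0 (R.comap ψ) (R'.comap ψ)
      (hR.comap_of_injective ψ hinj) (hR'.comap_of_injective ψ hinj)
      (by rw [Subgroup.mem_comap, hx₀]; exact hxR) (by rw [Subgroup.mem_comap, hx₀]; exact hxR')
    have key3 := key2.map ψ
    rwa [Subgroup.map_sup, Subgroup.map_comap_eq_self hRr, Subgroup.map_comap_eq_self hRr']
      at key3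

lemma per_cycleOf {Ω : Type u} [Fintype Ω] [DecidableEq Ω] (x : Perm Ω) (u : Ω) (hu : x u ≠ u)
    (k : ℕ) : (x ^ k) u = u ↔ (x.cycleOf u).support.card ∣ k := by
  have hc : (x.cycleOf u).IsCycle := Equiv.Perm.isCycle_cycleOf x hu
  rw [← hc.orderOf, orderOf_dvd_iff_pow_eq_one,
    hc.pow_eq_one_iff' (x := u) (by rw [Equiv.Perm.cycleOf_apply_self]; exact hu),
    Equiv.Perm.cycleOf_pow_apply_self]

lemma cond_of {Ω : Type u} [Fintype Ω] [DecidableEq Ω] (x : Perm Ω)
    (h1 : Fintype.card Ω ≤ x.support.card + 2) (h2 : x.cycleType.Nodup) : Cond x := by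
  constructor
  · intro a b c ha hb hc
    by_contra hcon
    push Not at hcon
    obtain ⟨hab, hac, hbc⟩ := hcon
    have hsub : ({a, b, c} : Finset Ω) ⊆ x.supportᶜ := by
      intro w hw
      simp only [Finset.mem_insert, Finset.mem_singleton] at hw
      rw [Finset.mem_compl, Equiv.Perm.mem_support, not_not]
      rcases hw with rfl | rfl | rfl <;> assumption
    have h3 := Finset.card_le_card hsub
    rw [Finset.card_compl] at h3
    have h4 : ({a, b, c} : Finset Ω).card = 3 :=
      Finset.card_eq_three.mpr ⟨a, b, c, hab, hac, hbc, rfl⟩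
    have h5 := x.support.card_le_univ
    omega
  · intro u v hu hv hk
    rw [Equiv.Perm.cycleType_def] at h2
    have hinj := (Multiset.nodup_map_iff_inj_on x.cycleFactorsFinset.nodup).mp h2
    have hcu : x.cycleOf u ∈ x.cycleFactorsFinset :=
      Equiv.Perm.cycleOf_mem_cycleFactorsFinset_iff.mpr (Equiv.Perm.mem_support.mpr hu)
    have hcv : x.cycleOf v ∈ x.cycleFactorsFinset :=
      Equiv.Perm.cycleOf_mem_cycleFactorsFinset_iff.mpr (Equiv.Perm.mem_support.mpr hv)
    have hcard : (x.cycleOf u).support.card = (x.cycleOf v).support.card := by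
      apply Nat.dvd_antisymm
      · rw [← per_cycleOf x u hu, hk, per_cycleOf x v hv]
      · rw [← per_cycleOf x v hv, ← hk, per_cycleOf x u hu]
    have heq : x.cycleOf u = x.cycleOf v := hinj _ hcu _ hcv hcard
    have hv' : v ∈ (x.cycleOf u).support := by
      rw [heq, Equiv.Perm.mem_support_cycleOf_iff]
      exact ⟨Equiv.Perm.SameCycle.refl _ _, Equiv.Perm.mem_support.mpr hv⟩
    rw [Equiv.Perm.mem_support_cycleOf_iff] at hv'
    exact hv'.1.exists_nat_pow_eq

lemma exists_of_not_nodup {Ω : Type u} [Fintype Ω] [DecidableEq Ω] (x : Perm Ω)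
    (h : ¬ x.cycleType.Nodup) :
    ∃ u v, x u ≠ u ∧ x v ≠ v ∧ ¬ x.SameCycle u v ∧
      (∀ k : ℕ, (x ^ k) u = u ↔ (x ^ k) v = v) := by
  rw [Equiv.Perm.cycleType_def, Multiset.nodup_map_iff_inj_on x.cycleFactorsFinset.nodup] at h
  push Not at h
  obtain ⟨c₁, hc₁, c₂, hc₂, hcard, hne⟩ := h
  have hc₁' := Equiv.Perm.mem_cycleFactorsFinset_iff.mp hc₁
  have hc₂' := Equiv.Perm.mem_cycleFactorsFinset_iff.mp hc₂
  obtain ⟨u, hu, -⟩ := hc₁'.1
  obtain ⟨v, hv, -⟩ := hc₂'.1
  have hu1 : u ∈ c₁.support := Equiv.Perm.mem_support.mpr hu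
  have hv1 : v ∈ c₂.support := Equiv.Perm.mem_support.mpr hv
  have e1 : c₁ = x.cycleOf u := Equiv.Perm.cycle_is_cycleOf hu1 hc₁
  have e2 : c₂ = x.cycleOf v := Equiv.Perm.cycle_is_cycleOf hv1 hc₂
  have hxu : x u ≠ u :=
    Equiv.Perm.mem_support.mp (Equiv.Perm.mem_cycleFactorsFinset_support_le hc₁ hu1)
  have hxv : x v ≠ v :=
    Equiv.Perm.mem_support.mp (Equiv.Perm.mem_cycleFactorsFinset_support_le hc₂ hv1)
  refine ⟨u, v, hxu, hxv, ?_, ?_⟩
  · intro hs
    apply hne
    rw [e1, e2]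
    exact hs.cycleOf_eq
  · intro k
    have hcard' : (x.cycleOf u).support.card = (x.cycleOf v).support.card := by
      rw [← e1, ← e2]; exact hcard
    rw [per_cycleOf x u hxu, per_cycleOf x v hxv, hcard']

lemma two_grp {G : Type u} [Group G] (x y : G) (hx2 : IsPGroup 2 (Subgroup.zpowers x))
    (hy : y * y = 1) (hcomm : ∀ g ∈ Subgroup.zpowers x, Commute y (g * y * g⁻¹)) :
    IsPGroup 2 (Subgroup.closure ({x, y} : Set G)) := by
  have : Fact (Nat.Prime 2) := ⟨Nat.prime_two⟩
  let S : Set G := {s | ∃ g ∈ Subgroup.zpowers x, s = g * y * g⁻¹}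
  let N : Subgroup G := Subgroup.closure S
  have hS : ∀ s ∈ S, ∀ s' ∈ S, Commute s s' := by
    rintro _ ⟨g, hg, rfl⟩ _ ⟨g', hg', rfl⟩
    have h1 := hcomm (g⁻¹ * g') (mul_mem (inv_mem hg) hg')
    have h2 := (Commute.conj_iff g).mpr h1
    convert h2 using 1
    group
  have hS2 : ∀ s ∈ S, s * s = 1 := by
    rintro _ ⟨g, hg, rfl⟩
    calc g * y * g⁻¹ * (g * y * g⁻¹) = g * (y * y) * g⁻¹ := by group
      _ = 1 := by rw [hy]; group
  have hN1 : ∀ n ∈ N, ∀ s ∈ S, Commute n s := by
    intro n hn s hs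
    induction hn using Subgroup.closure_induction with
    | mem a ha => exact hS a ha s hs
    | one => exact Commute.one_left s
    | mul a b _ _ iha ihb => exact iha.mul_left ihb
    | inv a _ iha => exact iha.inv_left
  have hN2 : ∀ n ∈ N, ∀ n' ∈ N, Commute n n' := by
    intro n hn n' hn'
    induction hn' using Subgroup.closure_induction with
    | mem a ha => exact hN1 n hn a ha
    | one => exact Commute.one_right n
    | mul a b _ _ iha ihb => exact iha.mul_right ihb
    | inv a _ iha => exact iha.inv_right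
  have hN3 : ∀ n ∈ N, n * n = 1 := by
    intro n hn
    induction hn using Subgroup.closure_induction with
    | mem a ha => exact hS2 a ha
    | one => simp
    | mul a b ha hb iha ihb =>
      have hc := hN2 a ha b hb
      calc a * b * (a * b) = a * (b * a) * b := by group
        _ = a * (a * b) * b := by rw [hc.eq]
        _ = (a * a) * (b * b) := by group
        _ = 1 := by rw [iha, ihb, one_mul]
    | inv a _ iha =>
      calc a⁻¹ * a⁻¹ = (a * a)⁻¹ := by group
        _ = 1 := by rw [iha, inv_one]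
  have hNp : IsPGroup 2 N := by
    intro n
    exact ⟨1, Subtype.ext (by rw [pow_one, Subgroup.coe_pow, pow_two]; exact hN3 n.1 n.2)⟩
  have hconj : ∀ g ∈ Subgroup.zpowers x, ∀ n ∈ N, g * n * g⁻¹ ∈ N := by
    intro g hg n hn
    induction hn using Subgroup.closure_induction with
    | mem a ha =>
      obtain ⟨g', hg', rfl⟩ := ha
      apply Subgroup.subset_closure
      exact ⟨g * g', mul_mem hg hg', by group⟩
    | one => simp
    | mul a b _ _ iha ihb =>
      have e : g * (a * b) * g⁻¹ = (g * a * g⁻¹) * (g * b * g⁻¹) := by group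
      rw [e]; exact mul_mem iha ihb
    | inv a _ iha =>
      have e : g * a⁻¹ * g⁻¹ = (g * a * g⁻¹)⁻¹ := by group
      rw [e]; exact inv_mem iha
  have hnorm : Subgroup.zpowers x ≤ Subgroup.normalizer (N : Set G) := by
    intro g hg
    rw [Subgroup.mem_normalizer_iff]
    intro n
    constructor
    · exact hconj g hg n
    · intro h
      have h3 := hconj g⁻¹ (inv_mem hg) _ h
      convert h3 using 1; group
  have hsup := IsPGroup.to_sup_of_normal_left' hNp hx2 hnorm
  apply hsup.to_le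
  rw [Subgroup.closure_le]
  rintro z (rfl | hz)
  · exact (le_sup_right : Subgroup.zpowers z ≤ _) (Subgroup.mem_zpowers z)
  · rw [Set.mem_singleton_iff] at hz
    subst hz
    apply (le_sup_left : N ≤ _)
    apply Subgroup.subset_closure
    exact ⟨1, one_mem _, by simp⟩

lemma swap_comm_cases {Ω : Type u} [DecidableEq Ω] (a b c d : Ω)
    (h : (c = a ∧ d = b) ∨ (c = b ∧ d = a) ∨ (c ≠ a ∧ c ≠ b ∧ d ≠ a ∧ d ≠ b)) :
    Commute (Equiv.swap a b) (Equiv.swap c d) := by
  rcases h with ⟨rfl, rfl⟩ | ⟨rfl, rfl⟩ | ⟨h1, h2, h3, h4⟩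
  · exact Commute.refl _
  · exact (Equiv.swap_comm c d) ▸ Commute.refl _
  · apply Equiv.Perm.Disjoint.commute
    intro w
    by_cases hw : w ≠ a ∧ w ≠ b
    · left; exact Equiv.swap_apply_of_ne_of_ne hw.1 hw.2
    · right
      apply Equiv.swap_apply_of_ne_of_ne
      · rintro rfl; exact hw ⟨h1, h2⟩
      · rintro rfl; exact hw ⟨h3, h4⟩

lemma bad_swaps {Ω : Type u} [Finite Ω] [DecidableEq Ω] (x : Perm Ω)
    (hx2 : IsPGroup 2 (Subgroup.zpowers x))
    (hbad : (∃ a b c, a ≠ b ∧ a ≠ c ∧ b ≠ c ∧ x a = a ∧ x b = b ∧ x c = c) ∨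
      (∃ u v, x u ≠ u ∧ x v ≠ v ∧ ¬ x.SameCycle u v ∧
        (∀ k : ℕ, (x ^ k) u = u ↔ (x ^ k) v = v))) :
    ∃ a b c, a ≠ b ∧ a ≠ c ∧ b ≠ c ∧
      IsPGroup 2 (Subgroup.closure ({x, Equiv.swap a b} : Set (Perm Ω))) ∧
      IsPGroup 2 (Subgroup.closure ({x, Equiv.swap a c} : Set (Perm Ω))) := by
  have hpowers : ∀ g ∈ Subgroup.zpowers x, ∃ k : ℕ, g = x ^ k := by
    intro g hg
    obtain ⟨k, hk⟩ := mem_powers_iff_mem_zpowers.mpr hg
    exact ⟨k, hk.symm⟩
  rcases hbad with ⟨a, b, c, hab, hac, hbc, ha, hb, hc⟩ | ⟨u, v, hu, hv, hns, hk⟩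
  · have hfix : ∀ w, x w = w → ∀ g ∈ Subgroup.zpowers x, g w = w := by
      intro w hw g hg
      obtain ⟨k, rfl⟩ := hpowers g hg
      exact Equiv.Perm.pow_apply_eq_self_of_apply_eq_self hw k
    refine ⟨a, b, c, hab, hac, hbc, ?_, ?_⟩
    · apply two_grp x (Equiv.swap a b) hx2 (Equiv.swap_mul_self a b)
      intro g hg
      have e : g * Equiv.swap a b * g⁻¹ = Equiv.swap a b := by
        rw [← Equiv.swap_apply_apply, hfix a ha g hg, hfix b hb g hg]
      exact e.symm ▸ Commute.refl (Equiv.swap a b)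
    · apply two_grp x (Equiv.swap a c) hx2 (Equiv.swap_mul_self a c)
      intro g hg
      have e : g * Equiv.swap a c * g⁻¹ = Equiv.swap a c := by
        rw [← Equiv.swap_apply_apply, hfix a ha g hg, hfix c hc g hg]
      exact e.symm ▸ Commute.refl (Equiv.swap a c)
  · obtain ⟨K, hK⟩ := hx2 ⟨x, Subgroup.mem_zpowers x⟩
    have hK' : x ^ (2 ^ K) = 1 := by
      have h := congrArg Subtype.val hK
      simpa using h
    have hdiv : minimalPeriod x u ∣ 2 ^ K := by
      rw [← per_iff, hK']; rfl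
    obtain ⟨i, -, hi⟩ := (Nat.dvd_prime_pow Nat.prime_two).mp hdiv
    have hi0 : i ≠ 0 := by
      rintro rfl
      apply hu
      have h := (per_iff x u 1).mpr (by rw [hi]; simp)
      simpa using h
    obtain ⟨i', rfl⟩ := Nat.exists_eq_succ_of_ne_zero hi0
    set h := 2 ^ i' with hh
    have hl : minimalPeriod x u = 2 * h := by rw [hi, pow_succ, mul_comm]
    have hhpos : 0 < h := by positivity
    have hh2 : ¬ minimalPeriod x u ∣ h := by
      rw [hl]; exact Nat.not_dvd_of_pos_of_lt hhpos (by omega)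
    have E1 : (x ^ h) ((x ^ h) u) = u := by
      rw [← Perm.mul_apply, ← pow_add, per_iff, hl]
      exact ⟨1, by ring⟩
    have E2 : (x ^ h) u ≠ u := by
      rw [Ne, per_iff]; exact hh2
    have huv : u ≠ v := by
      rintro rfl; exact hns (Equiv.Perm.SameCycle.refl _ _)
    have hsc : ∀ k : ℕ, (x ^ k) u ≠ v := by
      intro k hkv
      exact hns ⟨(k : ℤ), by simpa using hkv⟩
    have hsc' : ∀ k : ℕ, (x ^ k) v ≠ u := by
      intro k hkv
      have h3 : x.SameCycle v u := ⟨(k : ℤ), by simpa using hkv⟩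
      exact hns h3.symm
    refine ⟨u, (x ^ h) u, v, E2.symm, huv, hsc h, ?_, ?_⟩
    · apply two_grp x (Equiv.swap u ((x ^ h) u)) hx2 (Equiv.swap_mul_self _ _)
      intro g hg
      obtain ⟨k, rfl⟩ := hpowers g hg
      have hcomm : (x ^ k) ((x ^ h) u) = (x ^ h) ((x ^ k) u) := by
        rw [← Perm.mul_apply, ← Perm.mul_apply, ← pow_add, ← pow_add, add_comm]
      have e : x ^ k * Equiv.swap u ((x ^ h) u) * (x ^ k)⁻¹ =
          Equiv.swap ((x ^ k) u) ((x ^ h) ((x ^ k) u)) := by
        rw [← Equiv.swap_apply_apply, hcomm]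
      rw [e]
      apply swap_comm_cases
      by_cases e1 : (x ^ k) u = u
      · left; exact ⟨e1, by rw [e1]⟩
      · by_cases e2 : (x ^ k) u = (x ^ h) u
        · right; left; exact ⟨e2, by rw [e2, E1]⟩
        · right; right
          refine ⟨e1, e2, ?_, ?_⟩
          · intro e3
            apply e2
            apply (x ^ h).injective
            rw [e3, E1]
          · intro e3
            exact e1 ((x ^ h).injective e3)
    · apply two_grp x (Equiv.swap u v) hx2 (Equiv.swap_mul_self _ _)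
      intro g hg
      obtain ⟨k, rfl⟩ := hpowers g hg
      have e : x ^ k * Equiv.swap u v * (x ^ k)⁻¹ = Equiv.swap ((x ^ k) u) ((x ^ k) v) := by
        rw [← Equiv.swap_apply_apply]
      rw [e]
      apply swap_comm_cases
      by_cases e1 : (x ^ k) u = u
      · left; exact ⟨e1, (hk k).mp e1⟩
      · right; right
        exact ⟨e1, hsc k, hsc' k, fun e3 => e1 ((hk k).mpr e3)⟩

theorem unique_sylow_iff {Ω : Type u} [Fintype Ω] [DecidableEq Ω] (x : Perm Ω)
    (hx : ∃ k : ℕ, orderOf x = 2 ^ k) :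
    (∃! P : Sylow 2 (Perm Ω), x ∈ P) ↔
      (Fintype.card Ω ≤ x.support.card + 2 ∧ x.cycleType.Nodup) := by
  have : Fact (Nat.Prime 2) := ⟨Nat.prime_two⟩
  have hx2 : IsPGroup 2 (Subgroup.zpowers x) := by
    obtain ⟨k, hk⟩ := hx
    exact IsPGroup.of_card (n := k) (by rw [Nat.card_zpowers, hk])
  constructor
  · rintro ⟨P, hxP, huniq⟩
    by_contra hcon
    have hbad : (∃ a b c, a ≠ b ∧ a ≠ c ∧ b ≠ c ∧ x a = a ∧ x b = b ∧ x c = c) ∨
        (∃ u v, x u ≠ u ∧ x v ≠ v ∧ ¬ x.SameCycle u v ∧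
          (∀ k : ℕ, (x ^ k) u = u ↔ (x ^ k) v = v)) := by
      rw [not_and_or] at hcon
      rcases hcon with h | h
      · left
        have h3 : 2 < (x.supportᶜ).card := by rw [Finset.card_compl]; omega
        obtain ⟨a, b, c, ha, hb, hc, hab, hac, hbc⟩ := Finset.two_lt_card_iff.mp h3
        exact ⟨a, b, c, hab, hac, hbc,
          Equiv.Perm.notMem_support.mp (Finset.mem_compl.mp ha),
          Equiv.Perm.notMem_support.mp (Finset.mem_compl.mp hb),
          Equiv.Perm.notMem_support.mp (Finset.mem_compl.mp hc)⟩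
      · right; exact exists_of_not_nodup x h
    obtain ⟨a, b, c, hab, hac, hbc, h1, h2⟩ := bad_swaps x hx2 hbad
    have hmem : ∀ y : Perm Ω, IsPGroup 2 (Subgroup.closure ({x, y} : Set (Perm Ω))) → y ∈ P := by
      intro y hy
      obtain ⟨P', hle⟩ := hy.exists_le_sylow
      have hxP' : x ∈ P' := hle (Subgroup.subset_closure (by simp))
      have h4 := huniq P' hxP'
      rw [← h4]; exact hle (Subgroup.subset_closure (by simp))
    have m3 : Equiv.swap a b * Equiv.swap a c ∈ P := mul_mem (hmem _ h1) (hmem _ h2)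
    have h3 := (Equiv.Perm.isThreeCycle_swap_mul_swap_same hab hac hbc).orderOf
    obtain ⟨k, hk⟩ := P.isPGroup' ⟨_, m3⟩
    have h5 : (Equiv.swap a b * Equiv.swap a c) ^ (2 ^ k) = 1 := by
      simpa using congrArg Subtype.val hk
    have hd := orderOf_dvd_of_pow_eq_one h5
    rw [h3] at hd
    have h6 := Nat.Prime.dvd_of_dvd_pow Nat.prime_three hd
    omega
  · rintro ⟨h1, h2⟩
    have hc := cond_of x h1 h2
    obtain ⟨P, hP⟩ := hx2.exists_le_sylow
    have hxP : x ∈ P := hP (Subgroup.mem_zpowers x)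
    refine ⟨P, hxP, fun P' hxP' => ?_⟩
    have hm := main _ Ω rfl x hc P P' P.isPGroup' P'.isPGroup' hxP hxP'
    have e1 : (P : Subgroup (Perm Ω)) ⊔ P' = P := P.is_maximal' hm le_sup_left
    have e2 : (P : Subgroup (Perm Ω)) ⊔ P' = P' := P'.is_maximal' hm le_sup_right
    exact Sylow.ext (e2.symm.trans e1)

end Cfsg.Agent.H76.SylSym
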